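import Mathlib.GroupTheory.GroupAction.Primitive
import Mathlib.GroupTheory.GroupAction.MultipleTransitivity
import Mathlib.GroupTheory.GroupAction.FixingSubgroup
import Mathlib.GroupTheory.Index
import Mathlib.GroupTheory.Sylow

/-!
Basic lemmas on permutation groups: transitive normal subgroups, regular (normal) subgroups,
semiregularity of centralizers.
-/

set_option autoImplicit false
set_option linter.style.haveILetI false

open MulAction
open scoped Pointwise

namespace Cfsg.Agent.Perm

variable {G : Type*} [Group G] {X : Type*} [MulAction G X]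

theorem nfix_ne_univ [FaithfulSMul G X] {N : Subgroup G} (hN : N ≠ ⊥) :
    fixedPoints N X ≠ Set.univ := by
  intro h
  apply hN
  rw [eq_bot_iff]
  intro n hn
  rw [Subgroup.mem_bot]
  apply eq_of_smul_eq_smul (α := X)
  intro x
  rw [one_smul]
  have hx : x ∈ fixedPoints N X := h ▸ Set.mem_univ x
  exact hx ⟨n, hn⟩

/-- A non-trivial normal subgroup of a faithful primitive group is transitive. -/
theorem transitive_of_normal [FaithfulSMul G X] [IsPreprimitive G X] {N : Subgroup G}
    [N.Normal] (hN : N ≠ ⊥) : IsPretransitive N X :=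
  IsQuasiPreprimitive.isPretransitive_of_normal (nfix_ne_univ hN)

/-- A non-trivial normal subgroup of a faithful 2-transitive group is transitive. -/
theorem transitive_of_normal_of_two [FaithfulSMul G X] (h : IsMultiplyPretransitive G X 2)
    {N : Subgroup G} [N.Normal] (hN : N ≠ ⊥) : IsPretransitive N X :=
  haveI := isPreprimitive_of_is_two_pretransitive h
  transitive_of_normal hN

theorem exists_mem_smul_eq {N : Subgroup G} (h : IsPretransitive N X) (a b : X) :
    ∃ n ∈ N, n • a = b := by
  obtain ⟨n, hn⟩ := exists_smul_eq N a b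
  exact ⟨n, n.2, hn⟩

/-- All point stabilisers in `N` trivial: the element of `N` is determined by one image. -/
theorem eq_of_smul_eq_of_free {N : Subgroup G} (h : ∀ x : X, stabilizer N x = ⊥) {m n : G}
    (hm : m ∈ N) (hn : n ∈ N) (a : X) (he : m • a = n • a) : m = n := by
  have h1 : (⟨n⁻¹ * m, N.mul_mem (N.inv_mem hn) hm⟩ : N) ∈ stabilizer N a := by
    show (n⁻¹ * m) • a = a
    rw [mul_smul, he, inv_smul_smul]
  rw [h a, Subgroup.mem_bot] at h1
  have h2 := congrArg Subtype.val h1
  simp only [Subgroup.coe_one] at h2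
  exact (inv_mul_eq_one.mp h2).symm

theorem free_iff {N : Subgroup G} :
    (∀ x : X, stabilizer N x = ⊥) ↔ ∀ n ∈ N, ∀ x : X, n • x = x → n = 1 := by
  constructor
  · intro h n hn x hx
    exact eq_of_smul_eq_of_free h hn N.one_mem x (by rw [hx, one_smul])
  · intro h x
    rw [eq_bot_iff]
    intro n hn
    rw [Subgroup.mem_bot]
    exact Subtype.ext (h n n.2 x hn)

theorem free_of_stabilizer_eq_bot {N : Subgroup G} (ht : IsPretransitive N X) {a : X}
    (h : stabilizer N a = ⊥) (x : X) : stabilizer N x = ⊥ := by
  obtain ⟨n, rfl⟩ := exists_smul_eq N a x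
  rw [stabilizer_smul_eq_stabilizer_map_conj, h, Subgroup.map_bot]

theorem smul_conj_smul {g : G} {a : X} (hg : g ∈ stabilizer G a) (n : G) :
    g • n • a = (g * n * g⁻¹) • a := by
  have h : g⁻¹ • a = a := by rw [inv_smul_eq_iff]; exact hg.symm
  rw [mul_smul, mul_smul, h]

/-- A regular subgroup is in bijection with the set it acts on. -/
noncomputable def regularEquiv {N : Subgroup G} (ht : IsPretransitive N X)
    (h : ∀ x : X, stabilizer N x = ⊥) (a : X) : N ≃ X :=
  Equiv.ofBijective (fun n : N => (n : G) • a)
    ⟨fun m n he => Subtype.ext (eq_of_smul_eq_of_free h m.2 n.2 a he), fun b => by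
      obtain ⟨n, hn, hb⟩ := exists_mem_smul_eq ht a b
      exact ⟨⟨n, hn⟩, hb⟩⟩

@[simp] theorem regularEquiv_apply {N : Subgroup G} (ht : IsPretransitive N X)
    (h : ∀ x : X, stabilizer N x = ⊥) (a : X) (n : N) :
    regularEquiv ht h a n = (n : G) • a := rfl

theorem card_eq_of_regular {N : Subgroup G} (ht : IsPretransitive N X)
    (h : ∀ x : X, stabilizer N x = ⊥) (a : X) : Nat.card N = Nat.card X :=
  Nat.card_congr (regularEquiv ht h a)

theorem regularEquiv_conj {N : Subgroup G} [hn : N.Normal] (ht : IsPretransitive N X)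
    (h : ∀ x : X, stabilizer N x = ⊥) {a : X} {g : G} (hg : g ∈ stabilizer G a) (n : N) :
    regularEquiv ht h a ⟨g * n * g⁻¹, hn.conj_mem n n.2 g⟩ = g • regularEquiv ht h a n := by
  simp [smul_conj_smul hg]

/-- An element commuting with a transitive set of elements and fixing a point is trivial. -/
theorem eq_one_of_commute_of_fixed [FaithfulSMul G X] {S : Set G}
    (htrans : ∀ x y : X, ∃ s ∈ S, s • x = y) {c : G} (hc : ∀ s ∈ S, s * c = c * s) {a : X}
    (ha : c • a = a) : c = 1 := by
  apply eq_of_smul_eq_smul (α := X)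
  intro x
  obtain ⟨s, hs, rfl⟩ := htrans a x
  rw [← mul_smul, ← hc s hs, mul_smul, ha, one_smul]

/-- The centraliser of a transitive subgroup is semiregular. -/
theorem centralizer_free [FaithfulSMul G X] {N : Subgroup G} (ht : IsPretransitive N X) :
    ∀ x : X, stabilizer (Subgroup.centralizer (N : Set G)) x = ⊥ := by
  rw [free_iff]
  intro c hc x hx
  exact eq_one_of_commute_of_fixed (S := (N : Set G)) (exists_mem_smul_eq ht)
    (Subgroup.mem_centralizer_iff.mp hc) hx

theorem le_centralizer_self {N : Subgroup G} (h : IsMulCommutative N) :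
    N ≤ Subgroup.centralizer (N : Set G) := by
  intro n hn
  rw [Subgroup.mem_centralizer_iff]
  intro m hm
  exact congrArg Subtype.val (h.is_comm.comm (⟨m, hm⟩ : N) ⟨n, hn⟩)

/-- An abelian transitive subgroup of a faithful group is regular. -/
theorem abelian_transitive_free [FaithfulSMul G X] {N : Subgroup G} (h : IsMulCommutative N)
    (ht : IsPretransitive N X) : ∀ x : X, stabilizer N x = ⊥ := by
  rw [free_iff]
  intro n hn x hx
  exact free_iff.mp (centralizer_free (X := X) ht) n (le_centralizer_self h hn) x hx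

/-- An abelian transitive subgroup of a faithful group is self-centralising. -/
theorem centralizer_eq_self [FaithfulSMul G X] {N : Subgroup G} (h : IsMulCommutative N)
    (ht : IsPretransitive N X) : Subgroup.centralizer (N : Set G) = N := by
  rcases isEmpty_or_nonempty X with hX | ⟨⟨a⟩⟩
  · have : ∀ g : G, g = 1 := fun g => eq_of_smul_eq_smul (α := X) fun x => isEmptyElim x
    ext g
    simp [this g]
  · refine le_antisymm (fun c hc => ?_) (le_centralizer_self h)
    obtain ⟨n, hn, he⟩ := exists_mem_smul_eq ht a (c • a)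
    have := eq_of_smul_eq_of_free (centralizer_free (X := X) ht) hc
      (le_centralizer_self h hn) a he.symm
    rwa [this]

/-- A transitive subgroup together with a point stabiliser generates everything. -/
theorem exists_mul_stabilizer {N : Subgroup G} (ht : IsPretransitive N X) (a : X) (g : G) :
    ∃ n ∈ N, ∃ s ∈ stabilizer G a, g = n * s := by
  obtain ⟨n, hn, he⟩ := exists_mem_smul_eq ht a (g • a)
  exact ⟨n, hn, n⁻¹ * g, by simp [mem_stabilizer_iff, mul_smul, ← he], by group⟩

theorem sup_stabilizer_eq_top {N : Subgroup G} (ht : IsPretransitive N X) (a : X) :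
    N ⊔ stabilizer G a = ⊤ := by
  rw [eq_top_iff]
  intro g _
  obtain ⟨n, hn, s, hs, rfl⟩ := exists_mul_stabilizer ht a g
  exact Subgroup.mul_mem_sup hn hs

/-- In a 2-transitive group, the point stabiliser permutes the non-identity elements of a regular
normal subgroup transitively by conjugation. -/
theorem exists_conj_eq_of_two (h2 : IsMultiplyPretransitive G X 2) {N : Subgroup G} [N.Normal]
    (hfree : ∀ x : X, stabilizer N x = ⊥) (a : X) {m n : G}
    (hm : m ∈ N) (hn : n ∈ N) (hm1 : m ≠ 1) (hn1 : n ≠ 1) :
    ∃ g ∈ stabilizer G a, g * m * g⁻¹ = n := by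
  rw [is_two_pretransitive_iff] at h2
  have hma : a ≠ m • a := fun h => hm1 (free_iff.mp hfree m hm a h.symm)
  have hna : a ≠ n • a := fun h => hn1 (free_iff.mp hfree n hn a h.symm)
  obtain ⟨g, hga, hgm⟩ := h2 hma hna
  refine ⟨g, hga, eq_of_smul_eq_of_free hfree (Subgroup.Normal.conj_mem ‹_› m hm g) hn a ?_⟩
  rw [← smul_conj_smul hga, hgm]

end Cfsg.Agent.Perm
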