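import Mathlib.GroupTheory.PGroup
import Mathlib.GroupTheory.Solvable
import Cfsg.Agent.Perm.Basic

/-!
Regular normal subgroups of 2-transitive groups; minimal normal subgroups; abelian minimal
normal subgroups.
-/

set_option autoImplicit false
set_option linter.style.haveILetI false

open MulAction

namespace Cfsg.Agent.Perm

variable {G : Type*} [Group G]

theorem isMulCommutative_iff_comm {N : Subgroup G} :
    IsMulCommutative N ↔ ∀ x ∈ N, ∀ y ∈ N, x * y = y * x := by
  constructor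
  · intro h x hx y hy
    exact congrArg Subtype.val (h.is_comm.comm (⟨x, hx⟩ : N) ⟨y, hy⟩)
  · intro h
    exact ⟨⟨fun x y => Subtype.ext (h x x.2 y y.2)⟩⟩

/-- A subgroup with all non-identity elements conjugate is elementary abelian. -/
theorem elementary_of_conj {N : Subgroup G} [Finite N] [hn : N.Normal]
    (h : ∀ m ∈ N, ∀ n ∈ N, m ≠ 1 → n ≠ 1 → ∃ g : G, g * m * g⁻¹ = n) :
    IsMulCommutative N ∧ ∃ p : ℕ, p.Prime ∧ ∀ n ∈ N, n ^ p = 1 := by
  by_cases hN : N = ⊥
  · subst hN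
    refine ⟨isMulCommutative_iff_comm.mpr ?_, 2, Nat.prime_two, ?_⟩ <;> intro x hx
    · intro y hy
      rw [Subgroup.mem_bot.mp hx, Subgroup.mem_bot.mp hy]
    · rw [Subgroup.mem_bot.mp hx, one_pow]
  · have hc : Nat.card N ≠ 1 := fun h' => hN (Subgroup.eq_bot_of_card_eq N h')
    obtain ⟨p, hp, hpd⟩ := Nat.exists_prime_and_dvd hc
    haveI : Fact p.Prime := ⟨hp⟩
    obtain ⟨x, hx⟩ := exists_prime_orderOf_dvd_card' (G := N) p hpd
    have hxp : (x : G) ^ p = 1 := by
      rw [← hx, ← Subgroup.orderOf_coe]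
      exact pow_orderOf_eq_one _
    have hx1 : (x : G) ≠ 1 := by
      intro h1
      rw [← Subgroup.orderOf_coe, h1, orderOf_one] at hx
      exact hp.ne_one hx.symm
    have hexp : ∀ n ∈ N, n ^ p = 1 := by
      intro n hn'
      by_cases hn1 : n = 1
      · rw [hn1, one_pow]
      · obtain ⟨g, rfl⟩ := h x x.2 n hn' hx1 hn1
        rw [conj_pow, hxp, mul_one, mul_inv_cancel]
    have hP : IsPGroup p N := fun n => ⟨1, Subtype.ext (by simpa using hexp n n.2)⟩
    haveI : Nontrivial N := N.nontrivial_iff_ne_bot.mpr hN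
    have hZ : (⊥ : Subgroup N) < Subgroup.center N := hP.bot_lt_center
    obtain ⟨z, hz, hz1⟩ : ∃ z, z ∈ Subgroup.center N ∧ z ≠ 1 := by
      by_contra hcon
      push Not at hcon
      exact hZ.ne' (eq_bot_iff.mpr fun z hz => Subgroup.mem_bot.mpr (hcon z hz))
    refine ⟨isMulCommutative_iff_comm.mpr ?_, p, hp, hexp⟩
    intro a ha b hb
    by_cases ha1 : a = 1
    · simp [ha1]
    have hz1' : (z : G) ≠ 1 := fun h' => hz1 (Subtype.ext h')
    obtain ⟨g, rfl⟩ := h z z.2 a ha hz1' ha1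
    have hb' : g⁻¹ * b * g ∈ N := by simpa using hn.conj_mem b hb g⁻¹
    have hcomm : g⁻¹ * b * g * (z : G) = (z : G) * (g⁻¹ * b * g) :=
      congrArg Subtype.val (Subgroup.mem_center_iff.mp hz ⟨_, hb'⟩)
    calc g * (z : G) * g⁻¹ * b = g * ((z : G) * (g⁻¹ * b * g)) * g⁻¹ := by group
      _ = g * (g⁻¹ * b * g * (z : G)) * g⁻¹ := by rw [hcomm]
      _ = b * (g * (z : G) * g⁻¹) := by group

/-- A regular normal subgroup of a 2-transitive group is elementary abelian. -/
theorem regular_normal_elementary {X : Type*} [MulAction G X] [Finite G] [Nonempty X]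
    (h2 : IsMultiplyPretransitive G X 2) (N : Subgroup G) [N.Normal]
    (hfree : ∀ x : X, stabilizer N x = ⊥) :
    IsMulCommutative N ∧ ∃ p : ℕ, p.Prime ∧ ∀ n ∈ N, n ^ p = 1 := by
  obtain ⟨a⟩ := ‹Nonempty X›
  refine elementary_of_conj fun m hm n hn hm1 hn1 => ?_
  obtain ⟨g, -, hg⟩ := exists_conj_eq_of_two h2 hfree a hm hn hm1 hn1
  exact ⟨g, hg⟩

/-- The order of a regular normal subgroup of a finite 2-transitive group is a prime power. -/
theorem card_prime_pow_of_exp {N : Subgroup G} [Finite N] {p : ℕ} (hp : p.Prime)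
    (h : ∀ n ∈ N, n ^ p = 1) : ∃ m : ℕ, Nat.card N = p ^ m := by
  haveI : Fact p.Prime := ⟨hp⟩
  have hP : IsPGroup p N := fun n => ⟨1, Subtype.ext (by simpa using h n n.2)⟩
  exact hP.exists_card_eq

/-- Existence of a minimal normal subgroup below a given one. -/
theorem exists_minimal_normal_le [Finite G] {N : Subgroup G} [N.Normal] (hN : N ≠ ⊥) :
    ∃ M : Subgroup G, M.Normal ∧ M ≤ N ∧ M ≠ ⊥ ∧
      ∀ L : Subgroup G, L.Normal → L ≤ M → L = ⊥ ∨ L = M := by
  classical
  let S : Set (Subgroup G) := {M | M.Normal ∧ M ≤ N ∧ M ≠ ⊥}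
  obtain ⟨M, hM⟩ := S.toFinite.exists_minimal ⟨N, ‹_›, le_rfl, hN⟩
  refine ⟨M, hM.prop.1, hM.prop.2.1, hM.prop.2.2, fun L hL hle => ?_⟩
  by_cases hL0 : L = ⊥
  · exact Or.inl hL0
  · exact Or.inr (le_antisymm hle (hM.le_of_le ⟨hL, hle.trans hM.prop.2.1, hL0⟩ hle))

/-- An abelian minimal normal subgroup of a finite group has prime exponent. -/
theorem minimal_abelian_exp {M : Subgroup G} [Finite M] [hn : M.Normal] (hM : M ≠ ⊥)
    (hmin : ∀ L : Subgroup G, L.Normal → L ≤ M → L = ⊥ ∨ L = M) (hab : IsMulCommutative M) :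
    ∃ p : ℕ, p.Prime ∧ ∀ m ∈ M, m ^ p = 1 := by
  have hc : Nat.card M ≠ 1 := fun h' => hM (Subgroup.eq_bot_of_card_eq M h')
  obtain ⟨p, hp, hpd⟩ := Nat.exists_prime_and_dvd hc
  haveI : Fact p.Prime := ⟨hp⟩
  have hcomm := isMulCommutative_iff_comm.mp hab
  let L : Subgroup G :=
    { carrier := {m | m ∈ M ∧ m ^ p = 1}
      one_mem' := ⟨M.one_mem, one_pow p⟩
      mul_mem' := by
        rintro a b ⟨ha, hap⟩ ⟨hb, hbp⟩
        refine ⟨M.mul_mem ha hb, ?_⟩
        rw [Commute.mul_pow (hcomm a ha b hb), hap, hbp, one_mul]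
      inv_mem' := by
        rintro a ⟨ha, hap⟩
        exact ⟨M.inv_mem ha, by rw [inv_pow, hap, inv_one]⟩ }
  have hLn : L.Normal := by
    constructor
    rintro n ⟨hn', hnp⟩ g
    exact ⟨hn.conj_mem n hn' g, by rw [conj_pow, hnp, mul_one, mul_inv_cancel]⟩
  have hLne : L ≠ ⊥ := by
    obtain ⟨x, hx⟩ := exists_prime_orderOf_dvd_card' (G := M) p hpd
    intro h
    have hxL : (x : G) ∈ L := ⟨x.2, by rw [← hx, ← Subgroup.orderOf_coe]; exact pow_orderOf_eq_one _⟩
    rw [h, Subgroup.mem_bot] at hxL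
    rw [← Subgroup.orderOf_coe, hxL, orderOf_one] at hx
    exact hp.ne_one hx.symm
  have hLM : L = M := (hmin L hLn fun m hm => hm.1).resolve_left hLne
  refine ⟨p, hp, fun m hm => ?_⟩
  have : m ∈ L := by rw [hLM]; exact hm
  exact this.2

/-- A minimal normal subgroup of a solvable group is abelian. -/
theorem minimal_solvable_abelian [Group.IsSolvable G] {M : Subgroup G} [M.Normal]
    (hmin : ∀ L : Subgroup G, L.Normal → L ≤ M → L = ⊥ ∨ L = M) : IsMulCommutative M := by
  have hle : ⁅M, M⁆ ≤ M := Subgroup.commutator_le_self M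
  rcases hmin ⁅M, M⁆ inferInstance hle with h | h
  · refine isMulCommutative_iff_comm.mpr fun x hx y hy => ?_
    have := Subgroup.commutator_mem_commutator hx hy
    rw [h, Subgroup.mem_bot] at this
    exact commutatorElement_eq_one_iff_mul_comm.mp this
  · have key : ∀ n, M ≤ derivedSeries G n := by
      intro n
      induction n with
      | zero => simp
      | succ n ih =>
        rw [derivedSeries_succ]
        calc M = ⁅M, M⁆ := h.symm
          _ ≤ ⁅derivedSeries G n, derivedSeries G n⁆ := Subgroup.commutator_mono ih ih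
    obtain ⟨n, hn⟩ := Group.IsSolvable.solvable (G := G)
    have hb : M = ⊥ := eq_bot_iff.mpr ((key n).trans hn.le)
    refine isMulCommutative_iff_comm.mpr fun x hx y hy => ?_
    rw [hb, Subgroup.mem_bot] at hx hy
    rw [hx, hy]

end Cfsg.Agent.Perm
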