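import Mathlib

set_option autoImplicit false
set_option linter.unusedSectionVars false

/-!
Tuple stabilisers in highly transitive permutation groups: transport, lifts of involutions,
the index bound for the group induced on a tuple, and three-cycle generation on a small set.
-/

namespace Cfsg.Agent.Perm

open Equiv Finset

variable {α : Type*} [Fintype α] [DecidableEq α]

/-- The set of fixed points of a permutation, as a finset. -/
def fixF (g : Perm α) : Finset α := univ.filter fun x => g x = x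

@[simp] theorem mem_fixF {g : Perm α} {x : α} : x ∈ fixF g ↔ g x = x := by simp [fixF]

/-- The pointwise stabiliser in `G` of a tuple. -/
def tupleStab (G : Subgroup (Perm α)) {ι : Type*} (x : ι ↪ α) : Subgroup (Perm α) :=
  G ⊓ fixingSubgroup (Perm α) (Set.range x)

theorem mem_tupleStab {G : Subgroup (Perm α)} {ι : Type*} {x : ι ↪ α} {g : Perm α} :
    g ∈ tupleStab G x ↔ g ∈ G ∧ ∀ i, g (x i) = x i := by
  simp [tupleStab, Subgroup.mem_inf, mem_fixingSubgroup_iff]

theorem exists_map_tuple {G : Subgroup (Perm α)} {k : ℕ}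
    (hG : MulAction.IsMultiplyPretransitive G α k) {ι : Type*} [Fintype ι]
    (hι : Fintype.card ι = k) (x y : ι ↪ α) : ∃ g ∈ G, ∀ i, g (x i) = y i := by
  let e := (Fintype.equivFinOfCardEq hι).symm
  obtain ⟨g, hg⟩ := MulAction.exists_smul_eq G (e.toEmbedding.trans x) (e.toEmbedding.trans y)
  refine ⟨g, g.2, fun i => ?_⟩
  have := DFunLike.congr_fun hg (e.symm i)
  simpa [Subgroup.smul_def] using this

/-- All tuple stabilisers for `k` points have the same order. -/
theorem card_tupleStab_eq {G : Subgroup (Perm α)} {k : ℕ}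
    (hG : MulAction.IsMultiplyPretransitive G α k) {ι ι' : Type*} [Fintype ι] [Fintype ι']
    (hι : Fintype.card ι = k) (hι' : Fintype.card ι' = k) (x : ι ↪ α) (y : ι' ↪ α) :
    Nat.card (tupleStab G x) = Nat.card (tupleStab G y) := by
  let e := Fintype.equivOfCardEq (hι.trans hι'.symm)
  obtain ⟨g, hgG, hg⟩ := exists_map_tuple hG hι x (e.toEmbedding.trans y)
  have h : (tupleStab G x).map (MulAut.conj g).toMonoidHom = tupleStab G y := by
    have hg' : ∀ i, g⁻¹ (y i) = x (e.symm i) := fun i => by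
      rw [Perm.inv_eq_iff_eq, hg]; simp
    ext h
    simp only [Subgroup.mem_map, mem_tupleStab, MulEquiv.coe_toMonoidHom, MulAut.conj_apply]
    constructor
    · rintro ⟨m, ⟨hmG, hm⟩, rfl⟩
      refine ⟨mul_mem (mul_mem hgG hmG) (inv_mem hgG), fun i => ?_⟩
      simp [Perm.mul_apply, hg', hm, hg]
    · rintro ⟨hG', hh⟩
      refine ⟨g⁻¹ * h * g, ⟨mul_mem (mul_mem (inv_mem hgG) hG') hgG, fun i => ?_⟩, by group⟩
      simp [Perm.mul_apply, hg, hh, hg']
  rw [← h]
  exact (Nat.card_congr (Subgroup.equivMapOfInjective _ _ (MulEquiv.injective _)).toEquiv)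

/-- The permutations of a tuple induced by elements of `G` fixing the point `y`. -/
def inducedAt (G : Subgroup (Perm α)) {k : ℕ} (x : Fin k ↪ α) (y : α) :
    Subgroup (Perm (Fin k)) where
  carrier := {π | ∃ g ∈ G, g y = y ∧ ∀ i, g (x i) = x (π i)}
  one_mem' := ⟨1, one_mem _, rfl, fun _ => rfl⟩
  mul_mem' := by
    rintro a b ⟨g, hg, hgy, hga⟩ ⟨h, hh, hhy, hhb⟩
    exact ⟨g * h, mul_mem hg hh, by simp [hgy, hhy], fun i => by simp [hhb, hga]⟩
  inv_mem' := by
    rintro a ⟨g, hg, hgy, hga⟩
    refine ⟨g⁻¹, inv_mem hg, by rw [Perm.inv_eq_iff_eq, hgy], fun i => ?_⟩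
    rw [Perm.inv_eq_iff_eq, hga]
    simp

/-- If only the identity fixes more than `k` points then the index of the group induced on a
`k`-tuple by the stabiliser of a further point, times the order of the tuple stabiliser, is at
most `n - k`. -/
theorem index_inducedAt_le {G : Subgroup (Perm α)} {k : ℕ}
    (hG : MulAction.IsMultiplyPretransitive G α k)
    (hsr : ∀ g ∈ G, k < (fixF g).card → g = 1)
    (x : Fin k ↪ α) {y : α} (hy : y ∉ Set.range x) :
    (inducedAt G x y).index * Nat.card (tupleStab G x) ≤ Fintype.card α - k := by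
  classical
  have hlift : ∀ π : Perm (Fin k), ∃ g ∈ G, ∀ i, g (x i) = x (π i) := fun π =>
    exists_map_tuple hG (Fintype.card_fin k) x (π.toEmbedding.trans x)
  choose l hlG hl using hlift
  let R := {z : α // z ∉ Set.range x}
  let f : (Perm (Fin k) ⧸ inducedAt G x y) × tupleStab G x → R := fun p =>
    ⟨(p.2 : Perm α) (l p.1.out y), by
      rintro ⟨i, hi⟩
      apply hy
      refine ⟨p.1.out⁻¹ i, ?_⟩
      have h1 : (p.2 : Perm α) (x i) = x i := (mem_tupleStab.mp p.2.2).2 i
      have h2 : x i = l p.1.out y := (p.2 : Perm α).injective (h1.trans hi)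
      apply (l p.1.out).injective
      rw [hl, ← h2]; simp⟩
  have hf : Function.Injective f := by
    rintro ⟨q, m⟩ ⟨q', m'⟩ h
    replace h : (m : Perm α) (l q.out y) = (m' : Perm α) (l q'.out y) := congrArg Subtype.val h
    obtain ⟨hmG, hm⟩ := mem_tupleStab.mp m.2
    obtain ⟨hmG', hm'⟩ := mem_tupleStab.mp m'.2
    have hq : q = q' := by
      rw [← QuotientGroup.out_eq' q, ← QuotientGroup.out_eq' q', QuotientGroup.eq]
      refine ⟨(l q.out)⁻¹ * ((m : Perm α)⁻¹ * m') * l q'.out,
        mul_mem (mul_mem (inv_mem (hlG _)) (mul_mem (inv_mem hmG) hmG')) (hlG _), ?_, fun i => ?_⟩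
      · simp only [Perm.mul_apply]
        rw [← h]
        simp
      · simp only [Perm.mul_apply]
        rw [hl, hm', Perm.inv_eq_iff_eq, Perm.inv_eq_iff_eq, hl, hm]
        simp
    subst hq
    refine Prod.ext rfl (Subtype.ext ?_)
    have hone : (m : Perm α)⁻¹ * m' = 1 := by
      refine hsr _ (mul_mem (inv_mem hmG) hmG') ?_
      have hz : l q.out y ∉ univ.map x := by
        simp only [mem_map, mem_univ, true_and]
        rintro ⟨i, hi⟩
        apply hy
        refine ⟨q.out⁻¹ i, (l q.out).injective ?_⟩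
        rw [hl, ← hi]; simp
      have hsub : insert (l q.out y) (univ.map x) ⊆ fixF ((m : Perm α)⁻¹ * m') := by
        intro z hz
        rw [mem_fixF, Perm.mul_apply, Perm.inv_eq_iff_eq]
        rcases mem_insert.mp hz with rfl | hz
        · exact h.symm
        · obtain ⟨i, -, rfl⟩ := mem_map.mp hz
          rw [hm, hm']
      have := card_le_card hsub
      rw [card_insert_of_notMem hz, card_map, card_univ, Fintype.card_fin] at this
      omega
    exact inv_mul_eq_one.mp hone
  have hR : Nat.card R = Fintype.card α - k := by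
    rw [Nat.card_eq_fintype_card, Fintype.card_subtype_compl]
    congr 1
    exact (Set.card_range_of_injective x.injective).trans (Fintype.card_fin k)
  have := Nat.card_le_card_of_injective f hf
  rw [Nat.card_prod, ← Subgroup.index_eq_card, hR] at this
  exact this

/-- A subgroup of index at most two contains every element of order dividing three. -/
theorem mem_of_index_le_two {H : Type*} [Group H] [Finite H] (S : Subgroup H) (h : S.index ≤ 2)
    {π : H} (hπ : π ^ 3 = 1) : π ∈ S := by
  rcases eq_or_lt_of_le h with h2 | h1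
  · have := Subgroup.sq_mem_of_index_two h2 (π ^ 2)
    rwa [← pow_mul, show 2 * 2 = 3 + 1 from rfl, pow_succ, hπ, one_mul] at this
  · have h0 : S.index ≠ 0 := Subgroup.index_ne_zero_of_finite
    have : S = ⊤ := Subgroup.index_eq_one.mp (by omega)
    rw [this]; trivial

/-- Permutations supported in `Δ` which agree on `Δ` with an element of `G`. -/
def agree (G : Subgroup (Perm α)) (Δ : Finset α) : Subgroup (Perm α) where
  carrier := {π | (∀ z ∉ Δ, π z = z) ∧ ∃ g ∈ G, ∀ z ∈ Δ, g z = π z}
  one_mem' := ⟨fun _ _ => rfl, 1, one_mem _, fun _ _ => rfl⟩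
  mul_mem' := by
    rintro a b ⟨ha, g, hg, hga⟩ ⟨hb, h, hh, hhb⟩
    refine ⟨fun z hz => by simp [hb z hz, ha z hz], g * h, mul_mem hg hh, fun z hz => ?_⟩
    have : b z ∈ Δ := by
      by_contra hc
      exact hc (by rw [b.injective (hb _ hc)]; exact hz)
    simp [hhb z hz, hga _ this]
  inv_mem' := by
    rintro a ⟨ha, g, hg, hga⟩
    refine ⟨fun z hz => by rw [Perm.inv_eq_iff_eq, ha z hz], g⁻¹, inv_mem hg, fun z hz => ?_⟩
    have : a⁻¹ z ∈ Δ := by
      by_contra hc
      have h1 := ha _ hc
      simp at h1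
      exact hc (h1 ▸ hz)
    rw [Perm.inv_eq_iff_eq, hga _ this]
    simp

/-- If three-cycles fixing one of two given points of `Δ` (at least five points) lie in `H`, so
does every three-cycle supported in `Δ`. -/
theorem threeCycle_mem {H : Subgroup (Perm α)} {Δ : Finset α} (hΔ : 5 ≤ Δ.card) {a b : α}
    (hbΔ : b ∈ Δ) (hab : a ≠ b)
    (h : ∀ π : Perm α, π.IsThreeCycle → (∀ z ∉ Δ, π z = z) → (π a = a ∨ π b = b) → π ∈ H)
    {τ : Perm α} (hτ : τ.IsThreeCycle) (hτΔ : ∀ z ∉ Δ, τ z = z) : τ ∈ H := by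
  by_cases hta : τ a = a
  · exact h τ hτ hτΔ (.inl hta)
  by_cases htb : τ b = b
  · exact h τ hτ hτΔ (.inr htb)
  have hsupp : τ.support ⊆ Δ := fun z hz => by
    by_contra hc; exact (Perm.mem_support.mp hz) (hτΔ z hc)
  have h2 : 1 < (Δ \ τ.support).card := by
    have := le_card_sdiff τ.support Δ
    rw [hτ.card_support] at this
    omega
  obtain ⟨w, hw, u, hu, hwu⟩ := one_lt_card.mp h2
  simp only [mem_sdiff, Perm.notMem_support] at hw hu
  have hbw : b ≠ w := fun e => htb (e ▸ hw.2)
  have hbu : b ≠ u := fun e => htb (e ▸ hu.2)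
  have haw : a ≠ w := fun e => hta (e ▸ hw.2)
  have hau : a ≠ u := fun e => hta (e ▸ hu.2)
  set c := swap b w * swap b u with hc
  have hc3 : c.IsThreeCycle := Perm.isThreeCycle_swap_mul_swap_same hbw hbu hwu
  have hca : c a = a := by
    simp [hc, swap_apply_of_ne_of_ne hab hau, swap_apply_of_ne_of_ne hab haw]
  have hcb : c b = u := by
    simp [hc, swap_apply_of_ne_of_ne hbu.symm hwu.symm]
  have hcΔ : ∀ z ∉ Δ, c z = z := by
    intro z hz
    have hzb : z ≠ b := fun e => hz (e ▸ hbΔ)
    have hzw : z ≠ w := fun e => hz (e ▸ hw.1)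
    have hzu : z ≠ u := fun e => hz (e ▸ hu.1)
    simp [hc, swap_apply_of_ne_of_ne hzb hzu, swap_apply_of_ne_of_ne hzb hzw]
  have hcH : c ∈ H := h c hc3 hcΔ (.inl hca)
  have hmem : c⁻¹ * τ * c ∈ H := by
    refine h _ ?_ (fun z hz => ?_) (.inr ?_)
    · rw [Perm.IsThreeCycle, show c⁻¹ * τ * c = c⁻¹ * τ * c⁻¹⁻¹ by simp, Perm.cycleType_conj]
      exact hτ
    · simp only [Perm.mul_apply]
      rw [hcΔ z hz, hτΔ z hz, Perm.inv_eq_iff_eq, hcΔ z hz]
    · simp only [Perm.mul_apply]
      rw [hcb, hu.2, Perm.inv_eq_iff_eq, hcb]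
  have := mul_mem (mul_mem hcH hmem) (inv_mem hcH)
  simpa [mul_assoc] using this

/-- If all three-cycles supported in `Δ` agree on `Δ` with elements of `G` then every even
permutation of `Δ` is induced by `G`. -/
theorem induces_alternating {G : Subgroup (Perm α)} {Δ : Finset α}
    (h : ∀ τ : Perm α, τ.IsThreeCycle → (∀ z ∉ Δ, τ z = z) → τ ∈ agree G Δ)
    (σ : Perm ↥Δ) (hσ : σ ∈ alternatingGroup ↥Δ) : ∃ g ∈ G, ∀ x : ↥Δ, g (x : α) = σ x := by
  have key : Perm.ofSubtype σ ∈ agree G Δ := by
    have : σ ∈ (agree G Δ).comap (Perm.ofSubtype (p := fun z => z ∈ Δ)) := by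
      rw [← Perm.closure_three_cycles_eq_alternating] at hσ
      refine (Subgroup.closure_le _).mpr ?_ hσ
      intro τ hτ
      refine Subgroup.mem_comap.mpr (h _ ?_ fun z hz => Perm.ofSubtype_apply_of_not_mem τ hz)
      show (Perm.ofSubtype τ).cycleType = {3}
      rw [Perm.cycleType_ofSubtype]; exact hτ
    exact this
  obtain ⟨-, g, hg, hgz⟩ := key
  exact ⟨g, hg, fun x => by rw [hgz _ x.2, Perm.ofSubtype_apply_coe]⟩

end Cfsg.Agent.Perm
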