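import Mathlib
import Cfsg.Agent.Perm.TupleStab

set_option autoImplicit false
set_option linter.unusedSectionVars false

/-!
Counting the tuples on which an involution induces a prescribed pattern.
-/

namespace Cfsg.Agent.Perm

open Equiv Finset

variable {α : Type*} [Fintype α] [DecidableEq α]

theorem two_dvd_card_sub_fixF {u : Perm α} (hu : u * u = 1) :
    2 ∣ Fintype.card α - (fixF u).card := by
  have h1 : ∀ c ∈ u.cycleType, c = 2 := by
    have : Fact (Nat.Prime 2) := ⟨Nat.prime_two⟩
    have := (Perm.pow_prime_eq_one_iff (p := 2) (σ := u)).mp (by rw [sq]; exact hu)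
    exact this
  have h2 : fixF u = u.supportᶜ := by ext; simp
  rw [h2, card_compl, Nat.sub_sub_self (card_le_univ _), ← Perm.sum_cycleType]
  exact Multiset.dvd_sum fun c hc => dvd_of_eq (h1 c hc).symm

/-- The tuples on which `u` induces `π`. -/
noncomputable def patF {ι : Type*} [Fintype ι] [DecidableEq ι] (u : Perm α) (π : Perm ι) : Finset (ι ↪ α) :=
  univ.filter fun x => ∀ i, u (x i) = x (π i)

@[simp] theorem mem_patF {ι : Type*} [Fintype ι] [DecidableEq ι] {u : Perm α} {π : Perm ι}
    {x : ι ↪ α} : x ∈ patF u π ↔ ∀ i, u (x i) = x (π i) := by simp [patF]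

theorem card_patF_one {κ : Type*} [Fintype κ] [DecidableEq κ] (u : Perm α) :
    (patF u (1 : Perm κ)).card = (fixF u).card.descFactorial (Fintype.card κ) := by
  rw [← Fintype.card_coe]
  have e : ↥(patF u (1 : Perm κ)) ≃ (κ ↪ ↥(fixF u)) :=
    { toFun := fun x => ⟨fun i => ⟨x.1 i, mem_fixF.mpr (by simpa using mem_patF.mp x.2 i)⟩,
        fun i j h => x.1.injective (congrArg Subtype.val h)⟩
      invFun := fun y => ⟨y.trans (Function.Embedding.subtype _),
        mem_patF.mpr fun i => mem_fixF.mp (y i).2⟩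
      left_inv := fun x => by ext; rfl
      right_inv := fun y => by ext; rfl }
  rw [Fintype.card_congr e, Fintype.card_embedding_eq, Fintype.card_coe]

theorem card_patF_sum {ι κ : Type*} [Fintype ι] [Fintype κ] [DecidableEq ι] [DecidableEq κ]
    (u : Perm α) (π : Perm ι) (hπ : ∀ i, π i ≠ i) :
    (patF u (Perm.sumCongr π (1 : Perm κ))).card =
      (patF u π).card * (fixF u).card.descFactorial (Fintype.card κ) := by
  rw [← card_patF_one (κ := κ), ← card_product]
  refine card_bij' (fun x _ => (Function.Embedding.inl.trans x, Function.Embedding.inr.trans x))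
    (fun p hp => ⟨Sum.elim p.1 p.2, ?_⟩) ?_ ?_ ?_ ?_
  · obtain ⟨h1, h2⟩ := mem_product.mp hp
    rintro (i | i) (j | j) h <;> simp only [Sum.elim_inl, Sum.elim_inr] at h
    · exact congrArg Sum.inl (p.1.injective h)
    · exfalso
      have e1 := mem_patF.mp h1 i
      have e2 := mem_patF.mp h2 j
      rw [h, e2] at e1
      simp only [Perm.coe_one, id_eq, ← h] at e1
      exact hπ i (p.1.injective e1).symm
    · exfalso
      have e1 := mem_patF.mp h1 j
      have e2 := mem_patF.mp h2 i
      rw [← h, e2] at e1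
      simp only [Perm.coe_one, id_eq, h] at e1
      exact hπ j (p.1.injective e1).symm
    · exact congrArg Sum.inr (p.2.injective h)
  · intro x hx
    rw [mem_product, mem_patF, mem_patF]
    exact ⟨fun i => mem_patF.mp hx (Sum.inl i), fun i => mem_patF.mp hx (Sum.inr i)⟩
  · intro p hp
    obtain ⟨h1, h2⟩ := mem_product.mp hp
    rw [mem_patF]
    rintro (i | i)
    · simpa using mem_patF.mp h1 i
    · simpa using mem_patF.mp h2 i
  · intro x hx; ext (i | i) <;> rfl
  · intro p hp; refine Prod.ext ?_ ?_ <;> ext i <;> rfl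

theorem card_patF_swap {u : Perm α} (hu : u * u = 1) :
    (patF u (swap (0 : Fin 2) 1)).card = Fintype.card α - (fixF u).card := by
  have huu : ∀ z, u (u z) = z := fun z => by rw [← Perm.mul_apply, hu]; rfl
  rw [← card_compl]
  refine card_bij' (fun x _ => x 0) (fun a ha => ⟨![a, u a], ?_⟩) ?_ ?_ ?_ ?_
  · rw [mem_compl, mem_fixF] at ha
    intro i j h
    fin_cases i <;> fin_cases j
    · rfl
    · exact absurd h.symm ha
    · exact absurd h ha
    · rfl
  · intro x hx
    rw [mem_compl, mem_fixF, mem_patF.mp hx 0]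
    intro h; exact absurd (x.injective h) (by decide)
  · intro a ha
    rw [mem_patF]
    intro i; fin_cases i
    · show u (![a, u a] 0) = ![a, u a] 1
      simp
    · show u (![a, u a] 1) = ![a, u a] 0
      simp [huu]
  · intro x hx
    ext i
    fin_cases i
    · rfl
    · show u (x 0) = x 1
      simpa using mem_patF.mp hx 0
  · intro a ha; rfl

theorem card_patF_double {u : Perm α} (hu : u * u = 1) :
    (patF u (swap (0 : Fin 4) 1 * swap 2 3)).card =
      (Fintype.card α - (fixF u).card) * (Fintype.card α - (fixF u).card - 2) := by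
  have huu : ∀ z, u (u z) = z := fun z => by rw [← Perm.mul_apply, hu]; rfl
  rw [← card_compl]
  set S := (fixF u)ᶜ with hS
  have hmem : ∀ {z}, z ∈ S ↔ u z ≠ z := fun {z} => by simp [hS]
  have hmemu : ∀ {z}, z ∈ S → u z ∈ S := fun {z} hz => by
    rw [hmem] at hz ⊢; rw [huu]; exact fun h => hz h.symm
  have hT : (S.sigma fun a => S \ {a, u a}).card = S.card * (S.card - 2) := by
    rw [card_sigma, sum_const_nat]
    intro a ha
    have h2 : ({a, u a} : Finset α).card = 2 := card_pair (hmem.mp ha).symm
    rw [card_sdiff_of_subset (by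
      intro z hz
      rcases mem_insert.mp hz with rfl | hz
      · exact ha
      · rw [mem_singleton.mp hz]; exact hmemu ha), h2]
  rw [← hT]
  refine card_bij' (fun x _ => ⟨x 0, x 2⟩) (fun p hp => ⟨![p.1, u p.1, p.2, u p.2], ?_⟩)
    ?_ ?_ ?_ ?_
  · obtain ⟨ha, hc⟩ := mem_sigma.mp hp
    rw [mem_sdiff, mem_insert, mem_singleton, not_or] at hc
    obtain ⟨hc, hca, hcua⟩ := hc
    have h1 := hmem.mp ha
    have h2 := hmem.mp hc
    have h3 : u p.2 ≠ p.1 := fun h => hcua (by rw [← h, huu])
    have h4 : u p.2 ≠ u p.1 := fun h => hca (u.injective h)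
    intro i j h
    fin_cases i <;> fin_cases j <;>
      first
        | rfl
        | (exfalso; simp [h1, h2, h3, h4, hca, hcua, h1.symm, h2.symm, h3.symm, h4.symm,
            Ne.symm hca, Ne.symm hcua] at h)
  · intro x hx
    have h0 := mem_patF.mp hx 0
    have h2 := mem_patF.mp hx 2
    simp [Perm.mul_apply, swap_apply_def] at h0 h2
    simp only [mem_sigma, hmem, mem_sdiff, mem_insert, mem_singleton, h0, h2]
    refine ⟨fun h => absurd (x.injective h) (by decide),
      fun h => absurd (x.injective h) (by decide), ?_⟩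
    rintro (h | h) <;> exact absurd (x.injective h) (by decide)
  · intro p hp
    rw [mem_patF]
    intro i; fin_cases i <;> simp [huu, Perm.mul_apply, swap_apply_def]
  · intro x hx
    have h0 := mem_patF.mp hx 0
    have h2 := mem_patF.mp hx 2
    simp [Perm.mul_apply, swap_apply_def] at h0 h2
    ext i
    fin_cases i <;> simp [h0, h2]
  · intro p hp; simp

/-- Double counting of the pairs (involution, tuple). -/
theorem sum_card_patF {ι : Type*} [Fintype ι] [DecidableEq ι] (I : Finset (Perm α)) (π : Perm ι) :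
    ∑ u ∈ I, (patF u π).card =
      ∑ x : ι ↪ α, (I.filter fun u => ∀ i, u (x i) = x (π i)).card := by
  simp only [patF, card_filter]
  exact sum_comm

/-- At most `|G_(x)|` elements of `G` induce a given permutation on the tuple `x`. -/
theorem card_lifts_le {G : Subgroup (Perm α)} {ι : Type*} [Fintype ι] [DecidableEq ι]
    (I : Finset (Perm α)) (hI : ∀ u ∈ I, u ∈ G) (π : Perm ι) (x : ι ↪ α) :
    (I.filter fun u => ∀ i, u (x i) = x (π i)).card ≤ Nat.card (tupleStab G x) := by
  classical
  set S := I.filter fun u => ∀ i, u (x i) = x (π i) with hS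
  rcases S.eq_empty_or_nonempty with h | ⟨u0, hu0⟩
  · simp [h]
  rw [hS, mem_filter] at hu0
  rw [← Fintype.card_coe, ← Nat.card_eq_fintype_card]
  refine Nat.card_le_card_of_injective (fun u : ↥S => (⟨u0⁻¹ * (u : Perm α), ?_⟩ : tupleStab G x)) ?_
  · obtain ⟨u, hu⟩ := u
    rw [hS, mem_filter] at hu
    refine mem_tupleStab.mpr ⟨mul_mem (inv_mem (hI _ hu0.1)) (hI _ hu.1), fun i => ?_⟩
    rw [Perm.mul_apply, hu.2, ← hu0.2, Perm.inv_eq_iff_eq]
  · intro u v h
    exact Subtype.ext (mul_left_cancel (congrArg Subtype.val h))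

theorem sum_patF_le {G : Subgroup (Perm α)} {ι : Type*} [Fintype ι] [DecidableEq ι]
    (I : Finset (Perm α)) (hI : ∀ u ∈ I, u ∈ G) (π : Perm ι) {c m : ℕ}
    (hc : ∀ u ∈ I, (patF u π).card = c) (hm : ∀ x : ι ↪ α, Nat.card (tupleStab G x) = m) :
    I.card * c ≤ (Fintype.card α).descFactorial (Fintype.card ι) * m := by
  have h := sum_card_patF I π
  rw [sum_congr rfl hc, sum_const, smul_eq_mul] at h
  rw [h, ← Fintype.card_embedding_eq, ← card_univ, ← smul_eq_mul, ← sum_const]
  exact sum_le_sum fun x _ => (card_lifts_le I hI π x).trans (hm x).le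

theorem le_sum_patF {ι : Type*} [Fintype ι] [DecidableEq ι]
    (I : Finset (Perm α)) (π : Perm ι) {c m : ℕ}
    (hc : ∀ u ∈ I, (patF u π).card = c)
    (hm : ∀ x : ι ↪ α, m ≤ (I.filter fun u => ∀ i, u (x i) = x (π i)).card) :
    (Fintype.card α).descFactorial (Fintype.card ι) * m ≤ I.card * c := by
  have h := sum_card_patF I π
  rw [sum_congr rfl hc, sum_const, smul_eq_mul] at h
  rw [h, ← Fintype.card_embedding_eq, ← card_univ, ← smul_eq_mul, ← sum_const]
  exact sum_le_sum fun x _ => hm x

theorem card_patF_congr {ι ι' : Type*} [Fintype ι] [DecidableEq ι] [Fintype ι'] [DecidableEq ι']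
    (u : Perm α) (e : ι ≃ ι') (π : Perm ι) :
    (patF u (e.permCongr π)).card = (patF u π).card := by
  refine card_bij' (fun x _ => e.toEmbedding.trans x) (fun x _ => e.symm.toEmbedding.trans x)
    ?_ ?_ ?_ ?_
  · intro x hx
    rw [mem_patF] at hx ⊢
    intro i
    simpa using hx (e i)
  · intro x hx
    rw [mem_patF] at hx ⊢
    intro i
    simpa using hx (e.symm i)
  · intro x _; ext i; simp
  · intro x _; ext i; simp

end Cfsg.Agent.Perm
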