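import Mathlib
import Cfsg.Agent.Perm.TupleStab
import Cfsg.Agent.Perm.InvolutionCount
import Cfsg.Agent.H33.Trans

set_option autoImplicit false
set_option linter.unusedSectionVars false

/-!
A `k`-transitive group (`4 ≤ k < n`) in which only the identity fixes more than `k` points has a
`(k+1)`-set on which it induces the alternating group.
-/

namespace Cfsg.Agent.Perm

open Equiv Finset

variable {α : Type*} [Fintype α] [DecidableEq α]

/-- The conclusion: some `(k+1)`-set on which all even permutations are induced. -/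
def SetAlt (G : Subgroup (Perm α)) (k : ℕ) : Prop :=
  ∃ Δ : Finset α, Δ.card = k + 1 ∧ ∀ σ : Perm ↥Δ, σ ∈ alternatingGroup ↥Δ →
    ∃ g ∈ G, ∀ x : ↥Δ, g (x : α) = σ x

section

variable {G : Subgroup (Perm α)} {k : ℕ}

theorem agree_of_index {x : Fin k ↪ α} {y : α} (hy : y ∉ Set.range x)
    (h : (inducedAt G x y).index ≤ 2) {π : Perm α} (hπ : π.IsThreeCycle)
    (hs : ∀ z ∉ insert y (univ.map x), π z = z) (hπy : π y = y) :
    π ∈ agree G (insert y (univ.map x)) := by
  have hpres : ∀ i, ∃ j, π (x i) = x j := by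
    intro i
    by_contra hc
    push Not at hc
    have hmem : π (x i) ∉ univ.map x := by
      simp only [mem_map, mem_univ, true_and]
      exact fun ⟨j, hj⟩ => hc j hj.symm
    by_cases hy' : π (x i) = y
    · exact hy ⟨i, π.injective (hy'.trans hπy.symm)⟩
    · have := hs (π (x i)) (by simp only [mem_insert, not_or]; exact ⟨hy', hmem⟩)
      exact hc i (π.injective this)
  choose f hf using hpres
  have finj : Function.Injective f := fun a b e =>
    x.injective (π.injective (by rw [hf, hf, e]))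
  let π' : Perm (Fin k) := Equiv.ofBijective f (Finite.injective_iff_bijective.mp finj)
  have hπ' : ∀ i, π (x i) = x (π' i) := hf
  have h3 : π' ^ 3 = 1 := by
    ext i
    apply Fin.val_eq_of_eq
    apply x.injective
    have e : π ^ 3 = 1 := by rw [← hπ.orderOf, pow_orderOf_eq_one]
    have := congrArg (fun g : Perm α => g (x i)) e
    simpa [pow_succ, hπ'] using this
  obtain ⟨g, hg, hgy, hgi⟩ := mem_of_index_le_two _ h h3
  refine ⟨hs, g, hg, fun z hz => ?_⟩
  rcases mem_insert.mp hz with rfl | hz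
  · rw [hgy, hπy]
  · obtain ⟨i, -, rfl⟩ := mem_map.mp hz
    rw [hgi, hπ']

theorem range_swap_insert (x : Fin k ↪ α) {y : α} (hy : y ∉ Set.range x) (i : Fin k) :
    x i ∉ Set.range (x.trans (swap (x i) y).toEmbedding) ∧
      insert (x i) (univ.map (x.trans (swap (x i) y).toEmbedding)) = insert y (univ.map x) := by
  have hne : ∀ j, x j ≠ y := fun j e => hy ⟨j, e⟩
  have hval : ∀ j, (x.trans (swap (x i) y).toEmbedding) j = if j = i then y else x j := by
    intro j
    by_cases h : j = i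
    · subst h; simp
    · simp [h, swap_apply_of_ne_of_ne (x.injective.ne h) (hne j)]
  refine ⟨?_, ?_⟩
  · rintro ⟨j, hj⟩
    rw [hval] at hj
    split_ifs at hj with h
    · exact hne i hj.symm
    · exact h (x.injective hj)
  · ext z
    simp only [mem_insert, mem_map, mem_univ, true_and, hval]
    constructor
    · rintro (rfl | ⟨j, rfl⟩)
      · exact .inr ⟨i, rfl⟩
      · split_ifs
        · exact .inl rfl
        · exact .inr ⟨j, rfl⟩
    · rintro (rfl | ⟨j, rfl⟩)
      · exact .inr ⟨i, if_pos rfl⟩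
      · by_cases h : j = i
        · subst h; exact .inl rfl
        · exact .inr ⟨j, if_neg h⟩

theorem setAlt_of_two (hk : 4 ≤ k) {x : Fin k ↪ α} {y : α} (hy : y ∉ Set.range x) (i : Fin k)
    (h1 : (inducedAt G x y).index ≤ 2)
    (h2 : (inducedAt G (x.trans (swap (x i) y).toEmbedding) (x i)).index ≤ 2) : SetAlt G k := by
  obtain ⟨hc, hΔ⟩ := range_swap_insert x hy i
  have hcard : (insert y (univ.map x)).card = k + 1 := by
    rw [card_insert_of_notMem, card_map, card_univ, Fintype.card_fin]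
    simpa using fun j e => hy ⟨j, e⟩
  refine ⟨insert y (univ.map x), hcard, induces_alternating fun τ hτ hτs => ?_⟩
  refine threeCycle_mem (by omega) (mem_insert_of_mem (mem_map_of_mem x (mem_univ i)))
    (fun e => hy ⟨i, e.symm⟩) ?_ hτ hτs (a := y)
  rintro π hπ hs (hf | hf)
  · exact agree_of_index hy h1 hπ hs hf
  · rw [← hΔ] at hs ⊢
    exact agree_of_index hc h2 hπ hs hf

theorem exists_notMem_range (hkn : k < Fintype.card α) (x : Fin k ↪ α) : ∃ y, y ∉ Set.range x := by
  by_contra h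
  push Not at h
  have := Fintype.card_le_of_surjective x h
  simp at this; omega

theorem setAlt_of_all_index (hk : 4 ≤ k) (hkn : k < Fintype.card α)
    (h : ∀ (x : Fin k ↪ α) (y : α), y ∉ Set.range x → (inducedAt G x y).index ≤ 2) :
    SetAlt G k := by
  obtain ⟨x⟩ : Nonempty (Fin k ↪ α) := Function.Embedding.nonempty_of_card_le (by simp; omega)
  obtain ⟨y, hy⟩ := exists_notMem_range hkn x
  exact setAlt_of_two hk hy ⟨0, by omega⟩ (h _ _ hy) (h _ _ (range_swap_insert x hy _).1)

variable (hG : MulAction.IsMultiplyPretransitive G α k)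
  (hsr : ∀ g ∈ G, k < (fixF g).card → g = 1)
include hG hsr

theorem setAlt_of_large_stab (hk : 4 ≤ k) (hkn : k < Fintype.card α) {m : ℕ}
    (hm : ∀ x : Fin k ↪ α, Nat.card (tupleStab G x) = m) (hb : Fintype.card α - k ≤ 2 * m) :
    SetAlt G k := by
  refine setAlt_of_all_index hk hkn fun x y hy => ?_
  have h := index_inducedAt_le hG hsr x hy
  rw [hm] at h
  have hpos : 0 < m := by rw [← hm x]; exact Nat.card_pos
  exact Nat.le_of_mul_le_mul_right (h.trans hb) hpos

omit hsr in
theorem exists_card_stab (hkn : k < Fintype.card α) : ∃ m, 0 < m ∧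
    (∀ x : Fin k ↪ α, Nat.card (tupleStab G x) = m) ∧
    ∀ {ι : Type} [Fintype ι], Fintype.card ι = k → ∀ x : ι ↪ α, Nat.card (tupleStab G x) = m := by
  obtain ⟨x0⟩ : Nonempty (Fin k ↪ α) := Function.Embedding.nonempty_of_card_le (by simp; omega)
  exact ⟨_, Nat.card_pos, fun x => card_tupleStab_eq hG (by simp) (by simp) x x0,
    fun {ι} _ hι x => card_tupleStab_eq hG hι (by simp) x x0⟩

/-- Case of an involution fixing `k` points. -/
theorem setAlt_even (hk : 4 ≤ k) (hkn : k < Fintype.card α) {t : Perm α} (htG : t ∈ G)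
    (ht : t * t = 1) (ht1 : t ≠ 1) (htf : k ≤ (fixF t).card) : SetAlt G k := by
  let _ : DecidablePred (· ∈ G) := Classical.decPred _
  obtain ⟨m, hm0, hm, hmι⟩ := exists_card_stab hG hkn
  refine setAlt_of_large_stab hG hsr hk hkn hm ?_
  set I : Finset (Perm α) := univ.filter fun u => u ∈ G ∧ u * u = 1 ∧ (fixF u).card = k with hI
  have hIG : ∀ u ∈ I, u ∈ G := fun u hu => (mem_filter.mp hu).2.1
  have htf' : (fixF t).card = k := le_antisymm (not_lt.mp fun h => ht1 (hsr t htG h)) htf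
  have h1 : ∀ x : Fin k ↪ α,
      1 ≤ (I.filter fun u => ∀ i, u (x i) = x ((1 : Perm (Fin k)) i)).card := by
    intro x
    obtain ⟨z⟩ : Nonempty (Fin k ↪ ↥(fixF t)) :=
      Function.Embedding.nonempty_of_card_le (by rw [Fintype.card_coe, htf', Fintype.card_fin])
    obtain ⟨g, hgG, hg⟩ := exists_map_tuple hG (by simp)
      (z.trans (Function.Embedding.subtype _)) x
    refine card_pos.mpr ⟨g * t * g⁻¹, ?_⟩
    have hfix : fixF (g * t * g⁻¹) = (fixF t).map g.toEmbedding := by
      ext w; simp [eq_comm, Equiv.symm_apply_eq]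
    simp only [hI, mem_filter, mem_univ, true_and]
    refine ⟨⟨mul_mem (mul_mem hgG htG) (inv_mem hgG), ?_, by rw [hfix, card_map, htf']⟩, fun i => ?_⟩
    · calc g * t * g⁻¹ * (g * t * g⁻¹) = g * (t * t) * g⁻¹ := by group
        _ = 1 := by rw [ht]; simp
    · have hz : t (z i : α) = z i := mem_fixF.mp (z i).2
      have hgz : g (z i : α) = x i := hg i
      have : g⁻¹ (x i) = z i := by rw [Perm.inv_eq_iff_eq, hgz]
      simp [Perm.mul_apply, this, hz, hgz]
  have hN := le_sum_patF I (1 : Perm (Fin k)) (c := k.factorial) (m := 1)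
    (fun u hu => by
      rw [card_patF_one, (mem_filter.mp hu).2.2.2, Fintype.card_fin, Nat.descFactorial_self])
    (fun x => by convert h1 x)
  have hA := sum_patF_le I hIG (Perm.sumCongr (swap (0 : Fin 2) 1) (1 : Perm (Fin (k - 2))))
    (c := (Fintype.card α - k) * k.descFactorial (k - 2))
    (fun u hu => by
      rw [card_patF_sum _ _ (by decide), card_patF_swap (mem_filter.mp hu).2.2.1,
        (mem_filter.mp hu).2.2.2, Fintype.card_fin])
    (hmι (by simp; omega))
  simp only [Fintype.card_fin, Fintype.card_sum, mul_one] at hN hA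
  rw [show 2 + (k - 2) = k by omega] at hA
  have hfac : 2 * k.descFactorial (k - 2) = k.factorial := by
    have := Nat.factorial_mul_descFactorial (show k - 2 ≤ k by omega)
    rwa [show k - (k - 2) = 2 by omega] at this
  have hNpos : 0 < (Fintype.card α).descFactorial k := by
    rw [Nat.pos_iff_ne_zero, ne_eq, Nat.descFactorial_eq_zero_iff_lt]; omega
  refine Nat.le_of_mul_le_mul_left ?_ hNpos
  calc (Fintype.card α).descFactorial k * (Fintype.card α - k)
      ≤ I.card * k.factorial * (Fintype.card α - k) := Nat.mul_le_mul_right _ hN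
    _ = 2 * (I.card * ((Fintype.card α - k) * k.descFactorial (k - 2))) := by rw [← hfac]; ring
    _ ≤ 2 * ((Fintype.card α).descFactorial k * m) := Nat.mul_le_mul_left _ hA
    _ = _ := by ring

omit hsr in
/-- Without involutions fixing `k` points, involutions of the symmetric group of a tuple lift to
involutions. -/
theorem exists_invol_lift (hodd : ∀ g ∈ G, g * g = 1 → k ≤ (fixF g).card → g = 1)
    {ι : Type*} [Fintype ι] (hι : Fintype.card ι = k) (x : ι ↪ α) {π : Perm ι}
    (hπ : π * π = 1) : ∃ u ∈ G, u * u = 1 ∧ ∀ i, u (x i) = x (π i) := by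
  obtain ⟨g, hgG, hg⟩ := exists_map_tuple hG hι x (π.toEmbedding.trans x)
  have hpow : ∀ j : ℕ, ∀ i, (g ^ j) (x i) = x ((π ^ j) i) := by
    intro j
    induction j with
    | zero => simp
    | succ j ih => intro i; rw [pow_succ', pow_succ', Perm.mul_apply, ih, hg]; rfl
  have hfix : ∀ j h, h ∈ G → (∀ i, h (x i) = x i) → h ^ 2 ^ j = 1 → h = 1 := by
    intro j
    induction j with
    | zero => intro h _ _ h1; simpa using h1
    | succ j ih =>
      intro h hh hx h1
      have h2 : h ^ 2 = 1 := ih _ (pow_mem hh 2) (fun i => by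
        rw [sq, Perm.mul_apply, hx, hx]) (by rw [← pow_mul, ← pow_succ', h1])
      refine hodd h hh (by rw [← sq, h2]) ?_
      calc k = (univ.map x).card := by rw [card_map, card_univ, hι]
        _ ≤ _ := card_le_card fun z hz => by
          obtain ⟨i, -, rfl⟩ := mem_map.mp hz
          exact mem_fixF.mpr (hx i)
  obtain ⟨a, b, hb, hab⟩ := Nat.exists_eq_pow_mul_and_not_dvd (orderOf_pos g).ne' 2 (by norm_num)
  have hbo : π ^ b = π := by
    obtain ⟨c, rfl⟩ := Nat.odd_iff.mpr (show b % 2 = 1 by omega)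
    rw [pow_succ, pow_mul, sq, hπ, one_pow, one_mul]
  refine ⟨g ^ b, pow_mem hgG b, ?_, fun i => by rw [hpow, hbo]⟩
  rw [← sq]
  refine hfix a _ (pow_mem (pow_mem hgG b) 2) (fun i => ?_) ?_
  · have e : π ^ b * π ^ b = 1 := by rw [hbo, hπ]
    rw [sq, Perm.mul_apply, hpow, hpow]
    exact congrArg x (congrArg (fun f : Perm ι => f i) e)
  · rw [← pow_mul, ← pow_mul, show b * (2 * 2 ^ a) = (2 ^ a * b) * 2 by ring, pow_mul,
      ← hab, pow_orderOf_eq_one, one_pow]

omit hG hsr in
theorem card_fixF_inter_tuple {ι : Type*} [Fintype ι] [DecidableEq ι] {u : Perm α} {x : ι ↪ α}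
    {a b : ι} (hab : a ≠ b) (hu : ∀ i, u (x i) = x (swap a b i)) :
    (fixF u ∩ univ.map x).card = Fintype.card ι - 2 := by
  have : fixF u ∩ univ.map x = ({a, b}ᶜ : Finset ι).map x := by
    ext z
    simp only [mem_inter, mem_fixF, mem_map, mem_univ, true_and, mem_compl, mem_insert,
      mem_singleton, not_or]
    constructor
    · rintro ⟨h, i, rfl⟩
      rw [hu, EmbeddingLike.apply_eq_iff_eq] at h
      refine ⟨i, ⟨?_, ?_⟩, rfl⟩ <;> rintro rfl
      · rw [swap_apply_left] at h; exact hab h.symm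
      · rw [swap_apply_right] at h; exact hab h
    · rintro ⟨i, ⟨hia, hib⟩, rfl⟩
      exact ⟨by rw [hu, swap_apply_of_ne_of_ne hia hib], i, rfl⟩
  rw [this, card_map, card_compl, card_pair hab]

omit hG hsr in
theorem fixF_swap_bounds (hodd : ∀ g ∈ G, g * g = 1 → k ≤ (fixF g).card → g = 1)
    {ι : Type*} [Fintype ι] [DecidableEq ι] (hι : Fintype.card ι = k) {u : Perm α} (huG : u ∈ G)
    (hu2 : u * u = 1) {x : ι ↪ α}
    {a b : ι} (hab : a ≠ b) (hu : ∀ i, u (x i) = x (swap a b i)) :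
    k - 2 ≤ (fixF u).card ∧ (fixF u).card < k ∧ 2 ∣ Fintype.card α - (fixF u).card := by
  refine ⟨?_, ?_, two_dvd_card_sub_fixF hu2⟩
  · have := card_fixF_inter_tuple hab hu
    have := card_le_card (inter_subset_left (s₁ := fixF u) (s₂ := univ.map x))
    omega
  · by_contra hc
    rw [hodd u huG hu2 (by omega)] at hu
    have := x.injective (hu a)
    rw [swap_apply_left] at this
    exact hab this

omit hG hsr in
theorem sumCongr_swap_one_eq {κ : Type*} [DecidableEq κ] :
    Perm.sumCongr (swap (0 : Fin 2) 1) (1 : Perm κ) = swap (Sum.inl 0) (Sum.inl 1) := by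
  refine Equiv.ext ?_
  rintro (i | i)
  · fin_cases i <;> simp
  · simp [swap_apply_def]

omit hsr in
/-- No involution fixing `k` points, `n - k` even. -/
theorem setAlt_odd_sameParity (hsr' : ∀ g ∈ G, k < (fixF g).card → g = 1) (hk : 4 ≤ k)
    (hkn : k < Fintype.card α) (hodd : ∀ g ∈ G, g * g = 1 → k ≤ (fixF g).card → g = 1)
    (hpar : 2 ∣ Fintype.card α - k) : SetAlt G k := by
  let _ : DecidablePred (· ∈ G) := Classical.decPred _
  obtain ⟨m, hm0, hm, hmι⟩ := exists_card_stab hG hkn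
  refine setAlt_of_large_stab hG hsr' hk hkn hm ?_
  set n := Fintype.card α with hn
  set I : Finset (Perm α) :=
    univ.filter fun u => u ∈ G ∧ u * u = 1 ∧ (fixF u).card = k - 2 with hI
  have hIG : ∀ u ∈ I, u ∈ G := fun u hu => (mem_filter.mp hu).2.1
  have hA := le_sum_patF I (Perm.sumCongr (swap (0 : Fin 2) 1) (1 : Perm (Fin (k - 2))))
    (c := (n - (k - 2)) * (k - 2).descFactorial (k - 2)) (m := 1)
    (fun u hu => by
      rw [card_patF_sum _ _ (by decide), card_patF_swap (mem_filter.mp hu).2.2.1,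
        (mem_filter.mp hu).2.2.2, Fintype.card_fin])
    (fun x => by
      have hι : Fintype.card (Fin 2 ⊕ Fin (k - 2)) = k := by simp; omega
      obtain ⟨u, huG, hu2, hu⟩ := exists_invol_lift hG hodd hι x
        (π := swap (Sum.inl 0) (Sum.inl 1)) (swap_mul_self _ _)
      obtain ⟨h1, h2, h3⟩ := fixF_swap_bounds hodd hι huG hu2 (by simp) hu
      refine card_pos.mpr ⟨u, ?_⟩
      simp only [hI, mem_filter, mem_univ, true_and, sumCongr_swap_one_eq]
      exact ⟨⟨huG, hu2, by omega⟩, hu⟩)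
  have hB := sum_patF_le I hIG (Perm.sumCongr (swap (0 : Fin 4) 1 * swap 2 3) (1 : Perm (Fin (k - 4))))
    (c := (n - (k - 2)) * (n - (k - 2) - 2) * (k - 2).descFactorial (k - 4))
    (fun u hu => by
      rw [card_patF_sum _ _ (by decide), card_patF_double (mem_filter.mp hu).2.2.1,
        (mem_filter.mp hu).2.2.2, Fintype.card_fin])
    (hmι (by simp; omega))
  simp only [Fintype.card_fin, Fintype.card_sum, mul_one, ← hn] at hA hB
  rw [show 2 + (k - 2) = k by omega] at hA
  rw [show 4 + (k - 4) = k by omega, show n - (k - 2) - 2 = n - k by omega] at hB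
  have hfac : 2 * (k - 2).descFactorial (k - 4) = (k - 2).descFactorial (k - 2) := by
    have := Nat.factorial_mul_descFactorial (show k - 4 ≤ k - 2 by omega)
    rw [show k - 2 - (k - 4) = 2 by omega] at this
    rw [Nat.descFactorial_self]; exact this
  have hNpos : 0 < n.descFactorial k := by
    rw [Nat.pos_iff_ne_zero, ne_eq, Nat.descFactorial_eq_zero_iff_lt]; omega
  refine Nat.le_of_mul_le_mul_left ?_ hNpos
  calc n.descFactorial k * (n - k)
      ≤ I.card * ((n - (k - 2)) * (k - 2).descFactorial (k - 2)) * (n - k) :=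
        Nat.mul_le_mul_right _ hA
    _ = 2 * (I.card * ((n - (k - 2)) * (n - k) * (k - 2).descFactorial (k - 4))) := by
        rw [← hfac]; ring
    _ ≤ 2 * (n.descFactorial k * m) := Nat.mul_le_mul_left _ hB
    _ = _ := by ring

omit hG hsr in
/-- A lift of a transposition with `k - 1` fixed points fixes a unique point outside the tuple. -/
theorem existsUnique_extra {ι : Type*} [Fintype ι] [DecidableEq ι] (hι : Fintype.card ι = k)
    (hk : 4 ≤ k) {u : Perm α} {x : ι ↪ α} {a b : ι} (hab : a ≠ b)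
    (hu : ∀ i, u (x i) = x (swap a b i)) (hf : (fixF u).card = k - 1) :
    ∃! y, y ∉ Set.range x ∧ u y = y := by
  have h1 := card_fixF_inter_tuple hab hu
  have h2 := card_sdiff_add_card_inter (fixF u) (univ.map x)
  obtain ⟨y, hy⟩ : ∃ y, fixF u \ univ.map x = {y} := card_eq_one.mp (by omega)
  have hmem : ∀ z, z ∉ Set.range x ∧ u z = z ↔ z = y := by
    intro z
    have := congrArg (z ∈ ·) hy
    simp only [mem_sdiff, mem_fixF, mem_map, mem_univ, true_and, mem_singleton, eq_iff_iff] at this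
    rw [← this, Set.mem_range]
    exact and_comm
  exact ⟨y, (hmem y).mpr rfl, fun z hz => (hmem z).mp hz⟩

/-- No involution fixing `k` points, `n - k` odd: then `n - k ≤ 7`. -/
theorem sub_le_seven (hk : 4 ≤ k) (hkn : k < Fintype.card α)
    (hodd : ∀ g ∈ G, g * g = 1 → k ≤ (fixF g).card → g = 1)
    (hpar : ¬ 2 ∣ Fintype.card α - k) : Fintype.card α - k ≤ 7 := by
  let _ : DecidablePred (· ∈ G) := Classical.decPred _
  obtain ⟨m, hm0, hm, hmι⟩ := exists_card_stab hG hkn
  set n := Fintype.card α with hn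
  set I : Finset (Perm α) :=
    univ.filter fun u => u ∈ G ∧ u * u = 1 ∧ (fixF u).card = k - 1 with hI
  have hIG : ∀ u ∈ I, u ∈ G := fun u hu => (mem_filter.mp hu).2.1
  have hA := le_sum_patF I (Perm.sumCongr (swap (0 : Fin 2) 1) (1 : Perm (Fin (k - 2))))
    (c := (n - (k - 1)) * (k - 1).descFactorial (k - 2)) (m := m)
    (fun u hu => by
      rw [card_patF_sum _ _ (by decide), card_patF_swap (mem_filter.mp hu).2.2.1,
        (mem_filter.mp hu).2.2.2, Fintype.card_fin])
    (fun x => by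
      have hι : Fintype.card (Fin 2 ⊕ Fin (k - 2)) = k := by simp; omega
      obtain ⟨u, huG, hu2, hu⟩ := exists_invol_lift hG hodd hι x
        (π := swap (Sum.inl 0) (Sum.inl 1)) (swap_mul_self _ _)
      obtain ⟨h1, h2, h3⟩ := fixF_swap_bounds hodd hι huG hu2 (by simp) hu
      have hfu : (fixF u).card = k - 1 := by omega
      obtain ⟨y, ⟨hyr, hyu⟩, hyuniq⟩ := existsUnique_extra hι hk (by simp) hu hfu
      have : Fintype (tupleStab G x) := Fintype.ofFinite _
      rw [← hmι hι x, Nat.card_eq_fintype_card, ← card_univ]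
      refine card_le_card_of_injOn (fun c : tupleStab G x => (c : Perm α) * u * (c : Perm α)⁻¹) ?_ ?_
      · intro c _
        obtain ⟨hcG, hc⟩ := mem_tupleStab.mp c.2
        have hc' : ∀ i, (c : Perm α)⁻¹ (x i) = x i := fun i => by rw [Perm.inv_eq_iff_eq, hc]
        have hfix : fixF ((c : Perm α) * u * (c : Perm α)⁻¹) = (fixF u).map (c : Perm α).toEmbedding := by
          ext w; simp [eq_comm, Equiv.symm_apply_eq]
        simp only [hI, coe_filter, mem_filter, mem_univ, true_and, sumCongr_swap_one_eq, Set.mem_ofPred_eq]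
        refine ⟨⟨mul_mem (mul_mem hcG huG) (inv_mem hcG), ?_, by rw [hfix, card_map, hfu]⟩, fun i => ?_⟩
        · calc (c : Perm α) * u * (c : Perm α)⁻¹ * ((c : Perm α) * u * (c : Perm α)⁻¹)
              = (c : Perm α) * (u * u) * (c : Perm α)⁻¹ := by group
            _ = 1 := by rw [hu2]; simp
        · simp [Perm.mul_apply, hc', hu, hc]
      · intro c _ d _ hcd
        simp only at hcd
        obtain ⟨heG, he⟩ := mem_tupleStab.mp (mul_mem (inv_mem d.2) c.2)
        set e : Perm α := (d : Perm α)⁻¹ * c with he'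
        have hcomm : e * u = u * e := by
          calc e * u = (d : Perm α)⁻¹ * ((c : Perm α) * u * (c : Perm α)⁻¹) * c := by rw [he']; group
            _ = u * e := by rw [hcd, he']; group
        have hey : e y = y := by
          refine hyuniq _ ⟨fun ⟨i, hi⟩ => hyr ⟨i, e.injective ((he i).trans hi)⟩, ?_⟩
          rw [← Perm.mul_apply, ← hcomm, Perm.mul_apply, hyu]
        have he1 : e = 1 := by
          refine hsr e heG ?_
          have hsub : insert y (univ.map x) ⊆ fixF e := fun z hz => by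
            rw [mem_fixF]
            rcases mem_insert.mp hz with rfl | hz
            · exact hey
            · obtain ⟨i, -, rfl⟩ := mem_map.mp hz; exact he i
          have h4 := card_le_card hsub
          rw [card_insert_of_notMem (by simpa using fun i e => hyr ⟨i, e⟩), card_map, card_univ, hι] at h4
          omega
        exact Subtype.ext (inv_mul_eq_one.mp he1).symm)
  have hB := sum_patF_le I hIG (Perm.sumCongr (swap (0 : Fin 4) 1 * swap 2 3) (1 : Perm (Fin (k - 4))))
    (c := (n - (k - 1)) * (n - (k - 1) - 2) * (k - 1).descFactorial (k - 4))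
    (fun u hu => by
      rw [card_patF_sum _ _ (by decide), card_patF_double (mem_filter.mp hu).2.2.1,
        (mem_filter.mp hu).2.2.2, Fintype.card_fin])
    (hmι (by simp; omega))
  simp only [Fintype.card_fin, Fintype.card_sum, ← hn] at hA hB
  rw [show 2 + (k - 2) = k by omega] at hA
  rw [show 4 + (k - 4) = k by omega, show n - (k - 1) - 2 = n - k - 1 by omega] at hB
  have hfac : 6 * (k - 1).descFactorial (k - 4) = (k - 1).descFactorial (k - 2) := by
    have h6 := Nat.factorial_mul_descFactorial (show k - 4 ≤ k - 1 by omega)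
    have h1 := Nat.factorial_mul_descFactorial (show k - 2 ≤ k - 1 by omega)
    rw [show k - 1 - (k - 4) = 3 by omega] at h6
    rw [show k - 1 - (k - 2) = 1 by omega, Nat.factorial_one, one_mul] at h1
    rw [h1]; exact h6
  have hNpos : 0 < n.descFactorial k * m := Nat.mul_pos (by
    rw [Nat.pos_iff_ne_zero, ne_eq, Nat.descFactorial_eq_zero_iff_lt]; omega) hm0
  have : n - k - 1 ≤ 6 := by
    refine Nat.le_of_mul_le_mul_left ?_ hNpos
    calc n.descFactorial k * m * (n - k - 1)
        ≤ I.card * ((n - (k - 1)) * (k - 1).descFactorial (k - 2)) * (n - k - 1) :=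
          Nat.mul_le_mul_right _ hA
      _ = 6 * (I.card * ((n - (k - 1)) * (n - k - 1) * (k - 1).descFactorial (k - 4))) := by
          rw [← hfac]; ring
      _ ≤ 6 * (n.descFactorial k * m) := Nat.mul_le_mul_left _ hB
      _ = _ := by ring
  omega

/-- The order of a tuple stabiliser divides `n - k`. -/
theorem card_tupleStab_dvd (x : Fin k ↪ α) :
    Nat.card (tupleStab G x) ∣ Fintype.card α - k := by
  have hset : ((univ.map x)ᶜ : Finset α).card = Fintype.card α - k := by
    rw [card_compl, card_map, card_univ, Fintype.card_fin]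
  rw [← hset, ← Set.ncard_coe_finset]
  refine Cfsg.Agent.H33.dvd_card_of_orbits (G := tupleStab G x) _ (Set.toFinite _) ?_ ?_
  · intro g y hy
    simp only [coe_compl, coe_map, coe_univ, Set.image_univ, Set.mem_compl_iff, Set.mem_range,
      Subgroup.smul_def, Perm.smul_def] at hy ⊢
    rintro ⟨i, hi⟩
    exact hy ⟨i, (g : Perm α).injective (((mem_tupleStab.mp g.2).2 i).trans hi)⟩
  · intro y hy
    have hinj : Function.Injective fun g : tupleStab G x => (g : Perm α) y := by
      intro g h e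
      obtain ⟨heG, he⟩ := mem_tupleStab.mp (mul_mem (inv_mem g.2) h.2)
      refine Subtype.ext (inv_mul_eq_one.mp (hsr _ heG ?_))
      have hsub : insert y (univ.map x) ⊆ fixF ((g : Perm α)⁻¹ * h) := fun z hz => by
        rw [mem_fixF]
        rcases mem_insert.mp hz with rfl | hz
        · rw [Perm.mul_apply, Perm.inv_eq_iff_eq]; exact e.symm
        · obtain ⟨i, -, rfl⟩ := mem_map.mp hz; exact he i
      have h4 := card_le_card hsub
      rw [card_insert_of_notMem (by simpa using hy), card_map, card_univ, Fintype.card_fin] at h4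
      omega
    exact dvd_of_eq (Set.ncard_range_of_injective hinj).symm

end

section Sharp

variable {G : Subgroup (Perm α)} {k : ℕ}

/-- Some point outside the tuple is fixed by every element of `G` stabilising the tuple setwise. -/
def HasFixed (G : Subgroup (Perm α)) {k : ℕ} (x : Fin k ↪ α) (y : α) : Prop :=
  y ∉ Set.range x ∧ ∀ g ∈ G, ∀ π : Perm (Fin k), (∀ i, g (x i) = x (π i)) → g y = y

variable (hG : MulAction.IsMultiplyPretransitive G α k)
  (huniq : ∀ (x : Fin k ↪ α), ∀ g ∈ G, ∀ h ∈ G, (∀ i, g (x i) = h (x i)) → g = h)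
  (hex : ∀ (x : Fin k ↪ α), ∀ u ∈ G, u * u = 1 → ∀ a b : Fin k, a ≠ b →
    (∀ i, u (x i) = x (swap a b i)) → ∃! y, y ∉ Set.range x ∧ u y = y)
  (hlift : ∀ (x : Fin k ↪ α) (π : Perm (Fin k)), π * π = 1 →
    ∃ u ∈ G, u * u = 1 ∧ ∀ i, u (x i) = x (π i))
include hG

theorem hasFixed_transport {x : Fin k ↪ α} {y : α} (h : HasFixed G x y) (x' : Fin k ↪ α) :
    ∃ y', HasFixed G x' y' := by
  obtain ⟨g, hgG, hg⟩ := exists_map_tuple hG (by simp) x x'
  refine ⟨g y, ?_, fun u huG π hu => ?_⟩
  · rintro ⟨i, hi⟩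
    exact h.1 ⟨i, g.injective ((hg i).trans hi)⟩
  · have e := h.2 (g⁻¹ * u * g) (mul_mem (mul_mem (inv_mem hgG) huG) hgG) π fun i => by
      simp only [Perm.mul_apply]
      rw [hg, hu, Perm.inv_eq_iff_eq, hg]
    simp only [Perm.mul_apply] at e
    exact (Perm.inv_eq_iff_eq.mp e)

include hex hlift

theorem setAlt_of_hasFixed (hk : 4 ≤ k) {x : Fin k ↪ α} {y : α} (h : HasFixed G x y) :
    SetAlt G k := by
  have index_one : ∀ {z : Fin k ↪ α} {w : α}, HasFixed G z w →
      (inducedAt G z w).index ≤ 2 := by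
    intro z w hzw
    have : inducedAt G z w = ⊤ := by
      rw [eq_top_iff]
      intro π _
      obtain ⟨g, hgG, hg⟩ := exists_map_tuple hG (by simp) z (π.toEmbedding.trans z)
      exact ⟨g, hgG, hzw.2 g hgG π hg, hg⟩
    rw [this, Subgroup.index_top]; norm_num
  let a : Fin k := ⟨0, by omega⟩
  let b : Fin k := ⟨1, by omega⟩
  let c : Fin k := ⟨2, by omega⟩
  have hab : a ≠ b := by simp [a, b]
  have hca : c ≠ a := by simp [a, c]
  have hcb : c ≠ b := by simp [b, c]
  obtain ⟨u, huG, hu2, hu⟩ := hlift x (swap a b) (swap_mul_self _ _)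
  have huy := h.2 u huG _ hu
  have huc : u (x c) = x c := by rw [hu, swap_apply_of_ne_of_ne hca hcb]
  set x' := x.trans (swap (x c) y).toEmbedding with hx'
  have hu' : ∀ i, u (x' i) = x' (swap a b i) := by
    intro i
    by_cases hi : i = c
    · subst hi
      have : x' c = y := by simp [hx']
      rw [swap_apply_of_ne_of_ne hca hcb, this, huy]
    · have hne : ∀ j, j ≠ c → x' j = x j := fun j hj => by
        simp only [hx', Function.Embedding.trans_apply, Equiv.coe_toEmbedding]
        exact swap_apply_of_ne_of_ne (x.injective.ne hj) fun e => h.1 ⟨j, e⟩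
      have hsc : swap a b i ≠ c := by
        intro e
        apply hi
        rw [← swap_apply_self a b i, e, swap_apply_of_ne_of_ne hca hcb]
      rw [hne i hi, hu, hne _ hsc]
  obtain ⟨hcr, -⟩ := range_swap_insert x h.1 c
  obtain ⟨y', hy'⟩ := hasFixed_transport hG h x'
  have : y' = x c :=
    (hex x' u huG hu2 a b hab hu').unique ⟨hy'.1, hy'.2 u huG _ hu'⟩ ⟨hcr, huc⟩
  subst this
  exact setAlt_of_two hk h.1 c (index_one h) (index_one hy')

include huniq

/-- A point fixed by the lifts of all transpositions is fixed by all elements stabilising the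
tuple. -/
theorem hasFixed_of_swaps {x : Fin k ↪ α} {y : α} (hy : y ∉ Set.range x)
    (h : ∀ a b : Fin k, a ≠ b → ∃ u ∈ G, (∀ i, u (x i) = x (swap a b i)) ∧ u y = y) :
    HasFixed G x y := by
  refine ⟨hy, fun g hgG π hg => ?_⟩
  have : π ∈ inducedAt G x y := by
    have htop : inducedAt G x y = ⊤ := by
      rw [eq_top_iff, ← Perm.closure_isSwap, Subgroup.closure_le]
      rintro σ ⟨a, b, hab, rfl⟩
      obtain ⟨u, huG, hu, huy⟩ := h a b hab
      exact ⟨u, huG, huy, hu⟩
    rw [htop]; trivial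
  obtain ⟨g', hg'G, hg'y, hg'⟩ := this
  rw [huniq x g hgG g' hg'G fun i => by rw [hg, hg'], hg'y]

/-- The extra fixed point of the lift of a transposition. -/
theorem exists_extraPoint (x : Fin k ↪ α) :
    ∃ Y : Fin k → Fin k → α, ∀ a b, a ≠ b → ∀ u ∈ G, (∀ i, u (x i) = x (swap a b i)) →
      Y a b ∉ Set.range x ∧ u (Y a b) = Y a b ∧ (u * u = 1) ∧
        ∀ z, z ∉ Set.range x → u z = z → z = Y a b := by
  have : ∀ a b : Fin k, ∃ y : α, a ≠ b → ∀ u ∈ G, (∀ i, u (x i) = x (swap a b i)) →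
      y ∉ Set.range x ∧ u y = y ∧ (u * u = 1) ∧
        ∀ z, z ∉ Set.range x → u z = z → z = y := by
    intro a b
    by_cases hab : a = b
    · exact ⟨x a, fun h => absurd hab h⟩
    obtain ⟨u0, hu0G, hu02, hu0⟩ := hlift x (swap a b) (swap_mul_self _ _)
    obtain ⟨y, ⟨hy, hyu⟩, hyq⟩ := hex x u0 hu0G hu02 a b hab hu0
    refine ⟨y, fun _ u huG hu => ?_⟩
    obtain rfl := huniq x u huG u0 hu0G fun i => by rw [hu, hu0]
    exact ⟨hy, hyu, hu02, fun z hz hzu => hyq z ⟨hz, hzu⟩⟩
  choose Y hY using this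
  exact ⟨Y, hY⟩

/-- Commuting transpositions have the same extra fixed point. -/
theorem extraPoint_eq_of_disjoint {x : Fin k ↪ α} {Y : Fin k → Fin k → α}
    (hY : ∀ a b, a ≠ b → ∀ u ∈ G, (∀ i, u (x i) = x (swap a b i)) →
      Y a b ∉ Set.range x ∧ u (Y a b) = Y a b ∧ (u * u = 1) ∧
        ∀ z, z ∉ Set.range x → u z = z → z = Y a b)
    {a b c d : Fin k} (hab : a ≠ b) (hcd : c ≠ d) (h1 : a ≠ c) (h2 : a ≠ d) (h3 : b ≠ c)
    (h4 : b ≠ d) : Y a b = Y c d := by
  obtain ⟨u, huG, hu2, hu⟩ := hlift x (swap a b) (swap_mul_self _ _)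
  obtain ⟨v, hvG, hv2, hv⟩ := hlift x (swap c d) (swap_mul_self _ _)
  obtain ⟨hy, huy, -, hyq⟩ := hY a b hab u huG hu
  obtain ⟨-, -, -, hzq⟩ := hY c d hcd v hvG hv
  have hcomm : u * v = v * u := by
    refine huniq x _ (mul_mem huG hvG) _ (mul_mem hvG huG) fun i => ?_
    simp only [Perm.mul_apply, hu, hv]
    have e : swap a b * swap c d = swap c d * swap a b := by
      rw [Equiv.mul_swap_eq_swap_mul, swap_apply_of_ne_of_ne h1.symm h3.symm,
        swap_apply_of_ne_of_ne h2.symm h4.symm]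
    exact congrArg x (congrArg (fun f : Perm (Fin k) => f i) e)
  have hvy : v (Y a b) = Y a b := by
    refine hyq _ ?_ ?_
    · rintro ⟨i, hi⟩
      refine hy ⟨swap c d i, v.injective ?_⟩
      rw [← hi, hv, swap_apply_self]
    · rw [← Perm.mul_apply, hcomm, Perm.mul_apply, huy]
  exact hzq _ hy hvy

theorem setAlt_sharp_five (hk : 5 ≤ k) (x : Fin k ↪ α) : SetAlt G k := by
  obtain ⟨Y, hY⟩ := exists_extraPoint hG huniq hex hlift x
  have hdis := @extraPoint_eq_of_disjoint α _ _ G k hG huniq hex hlift x Y hY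
  have avoid : ∀ a b c : Fin k, ∃ d e : Fin k, d ≠ e ∧ d ∉ ({a, b, c} : Finset _) ∧
      e ∉ ({a, b, c} : Finset _) := by
    intro a b c
    have h3 : ({a, b, c} : Finset (Fin k)).card ≤ 3 := card_le_three
    obtain ⟨d, hd, e, he, hde⟩ := one_lt_card.mp (show 1 < ({a, b, c} : Finset (Fin k))ᶜ.card by
      rw [card_compl, Fintype.card_fin]; omega)
    exact ⟨d, e, hde, mem_compl.mp hd, mem_compl.mp he⟩
  have share : ∀ a b c : Fin k, a ≠ b → a ≠ c → Y a b = Y a c ∧ Y b a = Y a c := by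
    intro a b c hab hac
    obtain ⟨d, e, hde, hd, he⟩ := avoid a b c
    simp only [mem_insert, mem_singleton, not_or] at hd he
    have e3 := hdis hac hde (Ne.symm hd.1) (Ne.symm he.1) (Ne.symm hd.2.2) (Ne.symm he.2.2)
    exact ⟨(hdis hab hde (Ne.symm hd.1) (Ne.symm he.1) (Ne.symm hd.2.1) (Ne.symm he.2.1)).trans e3.symm,
      (hdis hab.symm hde (Ne.symm hd.2.1) (Ne.symm he.2.1) (Ne.symm hd.1) (Ne.symm he.1)).trans e3.symm⟩
  let o : Fin k := ⟨0, by omega⟩
  let p : Fin k := ⟨1, by omega⟩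
  have hop : o ≠ p := by simp [o, p]
  have hall : ∀ a b, a ≠ b → Y a b = Y o p := by
    intro a b hab
    by_cases hao : a = o
    · subst hao; exact (share _ b p hab hop).1
    · rw [(share a b o hab hao).1, (share o a p (Ne.symm hao) hop).2]
  obtain ⟨u, huG, -, hu⟩ := hlift x (swap o p) (swap_mul_self _ _)
  refine setAlt_of_hasFixed hG hex hlift (by omega) (x := x) (y := Y o p)
    (hasFixed_of_swaps hG huniq hex hlift (hY o p hop u huG hu).1 fun a b hab => ?_)
  obtain ⟨v, hvG, -, hv⟩ := hlift x (swap a b) (swap_mul_self _ _)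
  exact ⟨v, hvG, hv, hall a b hab ▸ (hY a b hab v hvG hv).2.1⟩

omit hG hex hlift in
theorem card_tupleStab_one (x : Fin k ↪ α) : Nat.card (tupleStab G x) ≤ 1 := by
  rw [Finite.card_le_one_iff_subsingleton]
  refine ⟨fun g h => Subtype.ext (huniq x _ (mem_tupleStab.mp g.2).1 _ (mem_tupleStab.mp h.2).1
    fun i => ?_)⟩
  rw [(mem_tupleStab.mp g.2).2, (mem_tupleStab.mp h.2).2]

/-- An element inducing `π` permutes the extra fixed points accordingly. -/
theorem map_extraPoint {x : Fin k ↪ α} {Y : Fin k → Fin k → α}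
    (hY : ∀ a b, a ≠ b → ∀ u ∈ G, (∀ i, u (x i) = x (swap a b i)) →
      Y a b ∉ Set.range x ∧ u (Y a b) = Y a b ∧ (u * u = 1) ∧
        ∀ z, z ∉ Set.range x → u z = z → z = Y a b)
    {v : Perm α} (hvG : v ∈ G) {π : Perm (Fin k)} (hv : ∀ i, v (x i) = x (π i))
    {a b : Fin k} (hab : a ≠ b) : v (Y a b) = Y (π a) (π b) := by
  obtain ⟨u, huG, -, hu⟩ := hlift x (swap a b) (swap_mul_self _ _)
  obtain ⟨hy, huy, -, -⟩ := hY a b hab u huG hu
  refine (hY _ _ (π.injective.ne hab) (v * u * v⁻¹)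
    (mul_mem (mul_mem hvG huG) (inv_mem hvG)) fun i => ?_).2.2.2 _ ?_ ?_
  · have h1 : v⁻¹ (x i) = x (π⁻¹ i) := by rw [Perm.inv_eq_iff_eq, hv]; simp
    simp only [Perm.mul_apply, h1, hu, hv]
    rw [Equiv.swap_apply_apply]
    rfl

  · rintro ⟨i, hi⟩
    exact hy ⟨π⁻¹ i, v.injective (by rw [hv, ← hi]; simp)⟩
  · simp [Perm.mul_apply, huy]

end Sharp

section SharpFour

variable {G : Subgroup (Perm α)}
  (hG : MulAction.IsMultiplyPretransitive G α 4)
  (huniq : ∀ (x : Fin 4 ↪ α), ∀ g ∈ G, ∀ h ∈ G, (∀ i, g (x i) = h (x i)) → g = h)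
  (hex : ∀ (x : Fin 4 ↪ α), ∀ u ∈ G, u * u = 1 → ∀ a b : Fin 4, a ≠ b →
    (∀ i, u (x i) = x (swap a b i)) → ∃! y, y ∉ Set.range x ∧ u y = y)
  (hlift : ∀ (x : Fin 4 ↪ α) (π : Perm (Fin 4)), π * π = 1 →
    ∃ u ∈ G, u * u = 1 ∧ ∀ i, u (x i) = x (π i))
include hG huniq hex hlift

theorem hasFixed_of_extraPoint_eq {x : Fin 4 ↪ α} {Y : Fin 4 → Fin 4 → α}
    (hY : ∀ a b, a ≠ b → ∀ u ∈ G, (∀ i, u (x i) = x (swap a b i)) →
      Y a b ∉ Set.range x ∧ u (Y a b) = Y a b ∧ (u * u = 1) ∧
        ∀ z, z ∉ Set.range x → u z = z → z = Y a b)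
    {a b c d : Fin 4} (hab : a ≠ b) (hac : a ≠ c) (hbc : b ≠ c) (hda : d ≠ a) (hdb : d ≠ b)
    (hdc : d ≠ c) (hall : ∀ i, i = a ∨ i = b ∨ i = c ∨ i = d) (h : Y a b = Y a c) :
    HasFixed G x (Y a b) := by
  have hdis := @extraPoint_eq_of_disjoint α _ _ G 4 hG huniq hex hlift x Y hY
  have hsymm : ∀ p q, p ≠ q → Y q p = Y p q := by
    intro p q hpq
    obtain ⟨u, huG, -, hu⟩ := hlift x (swap p q) (swap_mul_self _ _)
    obtain ⟨h1, h2, -, -⟩ := hY q p hpq.symm u huG (by rw [swap_comm]; exact hu)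
    exact (hY p q hpq u huG hu).2.2.2 _ h1 h2
  obtain ⟨w, hwG, -, hw⟩ := hlift x (swap a c) (swap_mul_self _ _)
  have hcb : Y c b = Y a b := by
    have e := map_extraPoint hG huniq hex hlift hY hwG hw hab
    rw [swap_apply_left, swap_apply_of_ne_of_ne hab.symm hbc] at e
    have hfix : w (Y a b) = Y a b := by rw [h]; exact (hY a c hac w hwG hw).2.1
    rw [← e, hfix]
  have hcd : Y c d = Y a b := hdis hdc.symm hab hac.symm hbc.symm hda hdb
  have hbd : Y b d = Y a b := (hdis hdb.symm hac hab.symm hbc hda hdc).trans h.symm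
  have had : Y a d = Y a b := (hdis hda.symm hbc.symm hac hab hdc hdb).trans hcb
  have heq : ∀ p q, p ≠ q → Y p q = Y a b := by
    intro p q hpq
    rcases hall p with rfl | rfl | rfl | rfl <;> rcases hall q with rfl | rfl | rfl | rfl <;>
      first
        | exact absurd rfl hpq
        | rfl
        | exact h.symm
        | exact hcb
        | exact hcd
        | exact hbd
        | exact had
        | (refine (hsymm _ _ (Ne.symm hpq)).trans ?_
           first | rfl | exact h.symm | exact hcb | exact hcd | exact hbd | exact had)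
  obtain ⟨u, huG, -, hu⟩ := hlift x (swap a b) (swap_mul_self _ _)
  refine hasFixed_of_swaps hG huniq hex hlift (hY a b hab u huG hu).1 fun p q hpq => ?_
  obtain ⟨v, hvG, -, hv⟩ := hlift x (swap p q) (swap_mul_self _ _)
  exact ⟨v, hvG, hv, heq p q hpq ▸ (hY p q hpq v hvG hv).2.1⟩

theorem setAlt_sharp_four (hn : 4 < Fintype.card α)
    (hodd : ∀ g ∈ G, g * g = 1 → 4 ≤ (fixF g).card → g = 1) (x₀ : Fin 4 ↪ α) : SetAlt G 4 := by
  by_contra hno
  have hnofix : ∀ (x : Fin 4 ↪ α) (y : α), ¬ HasFixed G x y :=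
    fun x y h => hno (setAlt_of_hasFixed hG hex hlift le_rfl h)
  let d1 : Perm (Fin 4) := swap 0 1 * swap 2 3
  let d2 : Perm (Fin 4) := swap 0 2 * swap 1 3
  let d3 : Perm (Fin 4) := swap 0 3 * swap 1 2
  -- the three double transpositions fix exactly the three extra points
  have key : ∀ (x : Fin 4 ↪ α) (Y : Fin 4 → Fin 4 → α),
      (∀ a b, a ≠ b → ∀ u ∈ G, (∀ i, u (x i) = x (swap a b i)) →
        Y a b ∉ Set.range x ∧ u (Y a b) = Y a b ∧ (u * u = 1) ∧
          ∀ z, z ∉ Set.range x → u z = z → z = Y a b) →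
      ({Y 0 1, Y 0 2, Y 0 3} : Finset α).card = 3 ∧
      ∀ π ∈ ({d1, d2, d3} : Finset (Perm (Fin 4))), ∀ v ∈ G, v * v = 1 →
        (∀ i, v (x i) = x (π i)) → fixF v = {Y 0 1, Y 0 2, Y 0 3} := by
    intro x Y hY
    have hdis := @extraPoint_eq_of_disjoint α _ _ G 4 hG huniq hex hlift x Y hY
    have ne : ∀ {a b c d : Fin 4}, a ≠ b → a ≠ c → b ≠ c → d ≠ a → d ≠ b → d ≠ c →
        (∀ i, i = a ∨ i = b ∨ i = c ∨ i = d) → Y a b ≠ Y a c := fun h1 h2 h3 h4 h5 h6 h7 h =>
      hnofix x _ (hasFixed_of_extraPoint_eq hG huniq hex hlift hY h1 h2 h3 h4 h5 h6 h7 h)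
    have n12 : Y 0 1 ≠ Y 0 2 := ne (d := 3) (by decide) (by decide) (by decide) (by decide)
      (by decide) (by decide) (by decide)
    have n13 : Y 0 1 ≠ Y 0 3 := ne (d := 2) (by decide) (by decide) (by decide) (by decide)
      (by decide) (by decide) (by decide)
    have n23 : Y 0 2 ≠ Y 0 3 := ne (d := 1) (by decide) (by decide) (by decide) (by decide)
      (by decide) (by decide) (by decide)
    have hcard : ({Y 0 1, Y 0 2, Y 0 3} : Finset α).card = 3 :=
      card_eq_three.mpr ⟨_, _, _, n12, n13, n23, rfl⟩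
    refine ⟨hcard, fun π hπ v hvG hv2 hv => ?_⟩
    have hmove : ∀ i, π i ≠ i := by
      simp only [mem_insert, mem_singleton] at hπ
      rcases hπ with rfl | rfl | rfl <;> decide
    have hstable : ∀ j, j ≠ 0 → (π 0 = 0 ∧ π j = j) ∨ (π 0 = j ∧ π j = 0) ∨
        (π 0 ≠ 0 ∧ π 0 ≠ j ∧ π j ≠ 0 ∧ π j ≠ j) := by
      simp only [mem_insert, mem_singleton] at hπ
      rcases hπ with rfl | rfl | rfl <;> decide
    have hfix : ∀ j, j ≠ 0 → v (Y 0 j) = Y 0 j := by
      intro j hj
      rw [map_extraPoint hG huniq hex hlift hY hvG hv (Ne.symm hj)]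
      rcases hstable j hj with ⟨e1, e2⟩ | ⟨e1, e2⟩ | ⟨e1, e2, e3, e4⟩
      · rw [e1, e2]
      · rw [e1, e2]
        obtain ⟨u, huG, -, hu⟩ := hlift x (swap 0 j) (swap_mul_self _ _)
        obtain ⟨h1, h2, -, -⟩ := hY j 0 hj u huG (by rw [swap_comm]; exact hu)
        exact (hY 0 j (Ne.symm hj) u huG hu).2.2.2 _ h1 h2
      · exact hdis (π.injective.ne (Ne.symm hj)) (Ne.symm hj) e1 e2 e3 e4
    symm
    refine eq_of_subset_of_card_le (fun z hz => ?_) ?_
    · simp only [mem_insert, mem_singleton] at hz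
      rw [mem_fixF]
      rcases hz with rfl | rfl | rfl <;> exact hfix _ (by decide)
    · rw [hcard]
      by_contra hc
      rw [hodd v hvG hv2 (by omega)] at hv
      exact hmove 0 (x.injective (hv 0)).symm
  have hm : ∀ x : Fin 4 ↪ α, Nat.card (tupleStab G x) = 1 := fun x =>
    le_antisymm (card_tupleStab_one huniq x) Nat.card_pos
  let _ : DecidablePred (· ∈ G) := Classical.decPred _
  set n := Fintype.card α with hndef
  set I : Finset (Perm α) := univ.filter fun u => u ∈ G ∧ u * u = 1 ∧ (fixF u).card = 3 with hI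
  have hIG : ∀ u ∈ I, u ∈ G := fun u hu => (mem_filter.mp hu).2.1
  have hcA : ∀ u ∈ I, (patF u (swap (0 : Fin 4) 1)).card = (n - 3) * 6 := by
    intro u hu
    have e : (finSumFinEquiv : Fin 2 ⊕ Fin 2 ≃ Fin 4).permCongr
        (Perm.sumCongr (swap (0 : Fin 2) 1) (1 : Perm (Fin 2))) = swap 0 1 := by decide
    rw [← e, card_patF_congr, card_patF_sum _ _ (by decide),
      card_patF_swap (mem_filter.mp hu).2.2.1, (mem_filter.mp hu).2.2.2]
    rfl
  have hcB : ∀ u ∈ I, (patF u d1).card = (n - 3) * (n - 5) := by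
    intro u hu
    rw [card_patF_double (mem_filter.mp hu).2.2.1, (mem_filter.mp hu).2.2.2]
    congr 1
  have lA := le_sum_patF I (swap (0 : Fin 4) 1) (m := 1) hcA (fun x => by
    obtain ⟨u, huG, hu2, hu⟩ := hlift x (swap 0 1) (swap_mul_self _ _)
    obtain ⟨y, ⟨hy, huy⟩, -⟩ := hex x u huG hu2 0 1 (by decide) hu
    have h1 := card_fixF_inter_tuple (show (0 : Fin 4) ≠ 1 by decide) hu
    have h2 := card_sdiff_add_card_inter (fixF u) (univ.map x)
    have h3 : 0 < (fixF u \ univ.map x).card := card_pos.mpr ⟨y, by simpa [huy] using hy⟩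
    have h4 : ¬ 4 ≤ (fixF u).card := fun hc => by
      rw [hodd u huG hu2 hc] at hu
      exact absurd (x.injective (hu 0)) (by decide)
    rw [Fintype.card_fin] at h1
    exact card_pos.mpr ⟨u, by simp only [hI, mem_filter, mem_univ, true_and]; exact ⟨⟨huG, hu2, by omega⟩, hu⟩⟩)
  have uA := sum_patF_le I hIG (swap (0 : Fin 4) 1) hcA hm
  have lB := le_sum_patF I d1 (m := 1) hcB (fun x => by
    obtain ⟨Y, hY⟩ := exists_extraPoint hG huniq hex hlift x
    obtain ⟨u, huG, hu2, hu⟩ := hlift x d1 (by decide)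
    obtain ⟨hc, hf⟩ := key x Y hY
    exact card_pos.mpr ⟨u, by
      simp only [hI, mem_filter, mem_univ, true_and]
      exact ⟨⟨huG, hu2, by rw [hf d1 (by simp) u huG hu2 hu, hc]⟩, hu⟩⟩)
  have uB := sum_patF_le I hIG d1 hcB hm
  simp only [Fintype.card_fin, mul_one, ← hndef] at lA uA lB uB
  have hNpos : 0 < n.descFactorial 4 := by
    rw [Nat.pos_iff_ne_zero, ne_eq, Nat.descFactorial_eq_zero_iff_lt]; omega
  have hn11 : n = 11 := by
    have e := (le_antisymm uA lA).trans (le_antisymm lB uB)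
    have hIpos : 0 < I.card * (n - 3) := by
      rcases Nat.eq_zero_or_pos (I.card * (n - 3)) with h0 | h0
      · rw [← mul_assoc, h0, zero_mul] at lA
        omega
      · exact h0
    rw [← mul_assoc, ← mul_assoc] at e
    have := Nat.eq_of_mul_eq_mul_left hIpos e
    omega
  -- the four remaining points
  obtain ⟨Y, hY⟩ := exists_extraPoint hG huniq hex hlift x₀
  obtain ⟨hc3, hfix⟩ := key x₀ Y hY
  set S : Finset α := {Y 0 1, Y 0 2, Y 0 3} with hS
  obtain ⟨v1, hv1G, hv12, hv1⟩ := hlift x₀ d1 (by decide)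
  obtain ⟨v2, hv2G, hv22, hv2⟩ := hlift x₀ d2 (by decide)
  obtain ⟨v3, hv3G, hv32, hv3⟩ := hlift x₀ d3 (by decide)
  obtain ⟨t, htG, ht2, ht⟩ := hlift x₀ (swap 0 1) (swap_mul_self _ _)
  have f1 := hfix d1 (by simp) v1 hv1G hv12 hv1
  have f2 := hfix d2 (by simp) v2 hv2G hv22 hv2
  have f3 := hfix d3 (by simp) v3 hv3G hv32 hv3
  set Z : Finset α := (univ.map x₀ ∪ S)ᶜ with hZ
  have hZmem : ∀ {z}, z ∈ Z ↔ z ∉ Set.range x₀ ∧ z ∉ S := fun {z} => by
    simp [hZ]
  have hdisj : Disjoint (univ.map x₀) S := by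
    rw [disjoint_left]
    intro z hz hzS
    obtain ⟨i, -, rfl⟩ := mem_map.mp hz
    rw [← f1, mem_fixF, hv1] at hzS
    exact (by decide : ∀ i, d1 i ≠ i) i (x₀.injective hzS)
  have hZcard : Z.card = 4 := by
    rw [hZ, card_compl, card_union_of_disjoint hdisj, card_map, card_univ, Fintype.card_fin, hc3,
      ← hndef, hn11]
  obtain ⟨z, hz⟩ : Z.Nonempty := card_pos.mp (by omega)
  have hrange : ∀ {v : Perm α} {π : Perm (Fin 4)}, (∀ i, v (x₀ i) = x₀ (π i)) →
      ∀ {w}, w ∉ Set.range x₀ → v w ∉ Set.range x₀ := by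
    intro v π hv w hw
    rintro ⟨i, hi⟩
    exact hw ⟨π⁻¹ i, v.injective (by rw [hv, ← hi]; simp)⟩
  have hmap : ∀ {v : Perm α} {π : Perm (Fin 4)}, (∀ i, v (x₀ i) = x₀ (π i)) →
      (∀ w ∈ S, v w ∈ S) → ∀ {w}, w ∈ Z → v w ∈ Z := by
    intro v π hv hvS w hw
    rw [hZmem] at hw ⊢
    refine ⟨hrange hv hw.1, fun h => hw.2 ?_⟩
    have himg : S.image v = S := eq_of_subset_of_card_le
      (fun u hu => by obtain ⟨s, hs, rfl⟩ := mem_image.mp hu; exact hvS s hs)
      (by rw [card_image_of_injective _ v.injective])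
    rw [← himg, mem_image] at h
    obtain ⟨s, hs, e⟩ := h
    exact v.injective e ▸ hs
  have hvS : ∀ {v : Perm α}, fixF v = S → ∀ w ∈ S, v w ∈ S := fun {v} hv w hw => by
    have : v w = w := mem_fixF.mp (hv ▸ hw)
    rwa [this]
  have rel : ∀ {a b c : Perm α} {p q r : Perm (Fin 4)}, a ∈ G → b ∈ G → c ∈ G →
      (∀ i, a (x₀ i) = x₀ (p i)) → (∀ i, b (x₀ i) = x₀ (q i)) → (∀ i, c (x₀ i) = x₀ (r i)) →
      p * q = r → ∀ w, a (b w) = c w := by
    intro a b c p q r haG hbG hcG ha hb hc hpq w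
    have : a * b = c := huniq x₀ _ (mul_mem haG hbG) _ hcG fun i => by
      rw [Perm.mul_apply, hb, ha, hc, ← hpq]; rfl
    rw [← this]; rfl
  have r31 := rel hv3G hv1G hv2G hv3 hv1 hv2 (by decide)
  have r32 := rel hv3G hv2G hv1G hv3 hv2 hv1 (by decide)
  have r23 := rel hv2G hv3G hv1G hv2 hv3 hv1 (by decide)
  have rel2 : ∀ {a b c d : Perm α} {p q r s : Perm (Fin 4)}, a ∈ G → b ∈ G → c ∈ G → d ∈ G →
      (∀ i, a (x₀ i) = x₀ (p i)) → (∀ i, b (x₀ i) = x₀ (q i)) → (∀ i, c (x₀ i) = x₀ (r i)) →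
      (∀ i, d (x₀ i) = x₀ (s i)) → p * q = r * s → ∀ w, a (b w) = c (d w) := by
    intro a b c d p q r s haG hbG hcG hdG ha hb hc hd hpq w
    have : a * b = c * d := huniq x₀ _ (mul_mem haG hbG) _ (mul_mem hcG hdG) fun i => by
      rw [Perm.mul_apply, hb, ha, Perm.mul_apply, hd, hc]
      exact congrArg x₀ (congrArg (fun f : Perm (Fin 4) => f i) hpq)
    exact congrArg (fun f : Perm α => f w) this
  have t1 := rel2 htG hv1G hv1G htG ht hv1 hv1 ht (by decide)
  have t2 := rel2 htG hv2G hv3G htG ht hv2 hv3 ht (by decide)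
  have t3 := rel2 htG hv3G hv2G htG ht hv3 hv2 ht (by decide)
  -- `t` stabilises `S`, hence `Z`
  have htS : ∀ w ∈ S, t w ∈ S := fun w hw => by
    have h1 : v1 w = w := mem_fixF.mp (f1 ▸ hw)
    rw [← f1, mem_fixF, ← t1, h1]
  have htZ := hmap ht htS hz
  have tt : ∀ w, t (t w) = w := fun w => by rw [← Perm.mul_apply, ht2]; rfl
  have free : ∀ {v : Perm α}, fixF v = S → v z ≠ z := fun {v} hv h =>
    (hZmem.mp hz).2 (hv ▸ mem_fixF.mpr h)
  have hVz : ({z, v1 z, v2 z, v3 z} : Finset α) = Z := by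
    refine eq_of_subset_of_card_le (fun w hw => ?_) ?_
    · simp only [mem_insert, mem_singleton] at hw
      rcases hw with rfl | rfl | rfl | rfl
      · exact hz
      · exact hmap hv1 (hvS f1) hz
      · exact hmap hv2 (hvS f2) hz
      · exact hmap hv3 (hvS f3) hz
    · rw [hZcard]
      have n12 : v1 z ≠ v2 z := fun h => free f3 (by
        apply v2.injective
        rw [r23, h])
      have n13 : v1 z ≠ v3 z := fun h => free f2 (by
        have e : v3 (v3 z) = z := by rw [← Perm.mul_apply, hv32]; rfl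
        rw [← r31, h, e])
      have n23 : v2 z ≠ v3 z := fun h => free f1 (by
        have e : v3 (v3 z) = z := by rw [← Perm.mul_apply, hv32]; rfl
        rw [← r32, h, e])
      refine le_of_eq (card_eq_four.mpr ⟨z, v1 z, v2 z, v3 z, (free f1).symm, (free f2).symm,
        (free f3).symm, n12, n13, n23, rfl⟩).symm
  rw [← hVz] at htZ
  simp only [mem_insert, mem_singleton] at htZ
  obtain ⟨hy1, -, -, hy1q⟩ := hY 0 1 (by decide) t htG ht
  have hy1S : Y 0 1 ∈ S := by simp [hS]
  rcases htZ with e | e | e | e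
  · exact (hZmem.mp hz).2 (hy1q z (hZmem.mp hz).1 e ▸ hy1S)
  · -- `t` fixes `v2 z`
    have h2 : t (v2 z) = v2 z := by rw [t2, e, r31]
    have h3 := hmap hv2 (hvS f2) hz
    exact (hZmem.mp h3).2 (hy1q _ (hZmem.mp h3).1 h2 ▸ hy1S)
  · refine free f1 ?_
    calc v1 z = v3 (v2 z) := (r32 z).symm
      _ = v3 (t z) := by rw [e]
      _ = t (v2 z) := (t2 z).symm
      _ = z := by rw [← e, tt]
  · refine free f1 ?_
    calc v1 z = v2 (v3 z) := (r23 z).symm
      _ = v2 (t z) := by rw [e]
      _ = t (v3 z) := (t3 z).symm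
      _ = z := by rw [← e, tt]

end SharpFour


end Cfsg.Agent.Perm

namespace Cfsg.Agent.Perm

open Equiv Finset

variable {α : Type*} [Fintype α] [DecidableEq α]

/-- The semiregular case: if only the identity fixes more than `k` points then some `(k+1)`-set
carries the alternating group. -/
theorem setAlt_of_sr {G : Subgroup (Perm α)} {k : ℕ}
    (hG : MulAction.IsMultiplyPretransitive G α k)
    (hsr : ∀ g ∈ G, k < (fixF g).card → g = 1) (hk : 4 ≤ k) (hkn : k < Fintype.card α) :
    SetAlt G k := by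
  by_cases hodd : ∀ g ∈ G, g * g = 1 → k ≤ (fixF g).card → g = 1
  swap
  · push Not at hodd
    obtain ⟨t, htG, ht, htf, ht1⟩ := hodd
    exact setAlt_even hG hsr hk hkn htG ht ht1 htf
  by_cases hpar : 2 ∣ Fintype.card α - k
  · exact setAlt_odd_sameParity hG hsr hk hkn hodd hpar
  have h7 := sub_le_seven hG hsr hk hkn hodd hpar
  obtain ⟨m, hm0, hm, hmι⟩ := exists_card_stab hG hkn
  obtain ⟨x₀⟩ : Nonempty (Fin k ↪ α) := Function.Embedding.nonempty_of_card_le (by simp; omega)
  rcases eq_or_ne m 1 with rfl | hm1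
  swap
  · refine setAlt_of_large_stab hG hsr hk hkn hm ?_
    have hd : m ∣ Fintype.card α - k := hm x₀ ▸ card_tupleStab_dvd hG hsr x₀
    set N := Fintype.card α - k
    rcases (show N = 1 ∨ N = 3 ∨ N = 5 ∨ N = 7 by omega) with h | h | h | h <;> rw [h] at hd ⊢
    · exact absurd (Nat.dvd_one.mp hd) hm1
    all_goals
      have := (Nat.dvd_prime (by norm_num)).mp hd
      omega
  have huniq : ∀ (x : Fin k ↪ α), ∀ g ∈ G, ∀ h ∈ G, (∀ i, g (x i) = h (x i)) → g = h := by
    intro x g hg h hh he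
    have hmem : g⁻¹ * h ∈ tupleStab G x :=
      mem_tupleStab.mpr ⟨mul_mem (inv_mem hg) hh, fun i => by
        rw [Perm.mul_apply, Perm.inv_eq_iff_eq, he]⟩
    have : Subsingleton (tupleStab G x) := Finite.card_le_one_iff_subsingleton.mp (hm x).le
    exact inv_mul_eq_one.mp (congrArg Subtype.val
      (Subsingleton.elim (⟨_, hmem⟩ : tupleStab G x) 1))
  have hex : ∀ (x : Fin k ↪ α), ∀ u ∈ G, u * u = 1 → ∀ a b : Fin k, a ≠ b →
      (∀ i, u (x i) = x (swap a b i)) → ∃! y, y ∉ Set.range x ∧ u y = y := by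
    intro x u huG hu2 a b hab hu
    obtain ⟨h1, h2, h3⟩ := fixF_swap_bounds hodd (Fintype.card_fin k) huG hu2 hab hu
    exact existsUnique_extra (Fintype.card_fin k) hk hab hu (by omega)
  have hlift : ∀ (x : Fin k ↪ α) (π : Perm (Fin k)), π * π = 1 →
      ∃ u ∈ G, u * u = 1 ∧ ∀ i, u (x i) = x (π i) := fun x π hπ =>
    exists_invol_lift hG hodd (Fintype.card_fin k) x hπ
  rcases eq_or_lt_of_le hk with h4 | h5
  · subst h4
    exact setAlt_sharp_four hG huniq hex hlift hkn hodd x₀
  · exact setAlt_sharp_five hG huniq hex hlift h5 x₀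

end Cfsg.Agent.Perm
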