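import Mathlib
import Cfsg.Agent.Perm.SetAlternating
import Cfsg.Agent.H33.Trans

set_option autoImplicit false
set_option linter.unusedSectionVars false

/-!
Livingstone–Wagner: a `k`-transitive group, `4 ≤ k < n`, induces the alternating group on some
`(k+1)`-set. Reduction to the case that only the identity fixes more than `k` points.
-/

namespace Cfsg.Agent.Perm

open Equiv Finset

universe u

variable {α : Type u} [Fintype α] [DecidableEq α]

/-- The group induced on a set `F` by the elements of `N` (all of them if they preserve `F`). -/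
def inducedOn (N : Subgroup (Perm α)) (F : Finset α) : Subgroup (Perm ↥F) where
  carrier := {σ | ∃ g ∈ N, ∀ x : ↥F, g (x : α) = σ x}
  one_mem' := ⟨1, one_mem _, fun _ => rfl⟩
  mul_mem' := by
    rintro a b ⟨g, hg, hga⟩ ⟨h, hh, hhb⟩
    exact ⟨g * h, mul_mem hg hh, fun x => by simp [hhb, hga]⟩
  inv_mem' := by
    rintro a ⟨g, hg, hga⟩
    refine ⟨g⁻¹, inv_mem hg, fun x => ?_⟩
    rw [Perm.inv_eq_iff_eq, hga]
    simp

theorem exists_inducedOn {N : Subgroup (Perm α)} {F : Finset α} {g : Perm α} (hg : g ∈ N)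
    (hF : ∀ x ∈ F, g x ∈ F) : ∃ σ : inducedOn N F, ∀ x : ↥F, ((σ : Perm ↥F) x : α) = g x := by
  have hinj : Function.Injective fun x : ↥F => (⟨g x, hF x x.2⟩ : ↥F) := fun a b h =>
    Subtype.ext (g.injective (congrArg Subtype.val h))
  exact ⟨⟨Equiv.ofBijective _ (Finite.injective_iff_bijective.mp hinj), g, hg, fun x => rfl⟩,
    fun x => rfl⟩

theorem isPGroup_inducedOn {N : Subgroup (Perm α)} {F : Finset α} {p : ℕ} (h : IsPGroup p N) :
    IsPGroup p (inducedOn N F) := by
  rintro ⟨σ, g, hg, hgσ⟩
  obtain ⟨j, hj⟩ := h ⟨g, hg⟩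
  refine ⟨j, Subtype.ext (Equiv.ext fun x => Subtype.ext ?_)⟩
  have hpow : ∀ i : ℕ, ∀ x : ↥F, (g ^ i) (x : α) = (σ ^ i) x := by
    intro i
    induction i with
    | zero => simp
    | succ i ih =>
      intro x
      rw [pow_succ', pow_succ', Perm.mul_apply, Perm.mul_apply, ih, hgσ]
  have : g ^ p ^ j = 1 := congrArg Subtype.val hj
  rw [SubgroupClass.coe_pow, ← hpow, this]
  rfl

theorem normalizer_preserves_fixed {Q : Subgroup (Perm α)} {F : Finset α}
    (hF : ∀ x, x ∈ F ↔ ∀ q ∈ Q, q x = x) {g : Perm α}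
    (hg : g ∈ Subgroup.normalizer (Q : Set (Perm α))) : ∀ x ∈ F, g x ∈ F := by
  intro x hx
  rw [hF] at hx ⊢
  intro q hq
  have : g⁻¹ * q * g ∈ Q := by
    have := (Subgroup.mem_normalizer_iff.mp (inv_mem hg) q).mp hq
    simpa using this
  have e := hx _ this
  rw [Perm.mul_apply, Perm.mul_apply, Perm.inv_eq_iff_eq] at e
  exact e

/-- If a nontrivial element fixes more than `k` points, the normaliser of a suitable subgroup
is `k`-transitive on its set of fixed points, of size between `k` and `n`. -/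
theorem exists_normalizer_transitive {G : Subgroup (Perm α)} {k : ℕ}
    (hG : MulAction.IsMultiplyPretransitive G α k) (_hk : 1 ≤ k)
    (hns : ∃ g ∈ G, k < (fixF g).card ∧ g ≠ 1) :
    ∃ (Q : Subgroup (Perm α)) (F : Finset α), Q ≤ G ∧ (∀ x, x ∈ F ↔ ∀ q ∈ Q, q x = x) ∧
      k < F.card ∧ F.card < Fintype.card α ∧
      MulAction.IsMultiplyPretransitive (inducedOn (G ⊓ Subgroup.normalizer (Q : Set (Perm α))) F) ↥F k := by
  classical
  obtain ⟨g, hgG, hgk, hg1⟩ := hns
  obtain ⟨p, hp, hpd⟩ := Nat.exists_prime_and_dvd (mt orderOf_eq_one_iff.mp hg1)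
  have : Fact p.Prime := ⟨hp⟩
  let fixS : Subgroup (Perm α) → Finset α := fun Q => univ.filter fun x => ∀ q ∈ Q, q x = x
  let P : Set (Subgroup (Perm α)) :=
    {Q | Q ≤ G ∧ IsPGroup p Q ∧ Q ≠ ⊥ ∧ k < (fixS Q).card}
  have hne : P.Nonempty := by
    have ho : orderOf (g ^ (orderOf g / p)) = p := orderOf_pow_orderOf_div (orderOf_pos g).ne' hpd
    refine ⟨Subgroup.zpowers (g ^ (orderOf g / p)), Subgroup.zpowers_le.mpr (pow_mem hgG _),
      IsPGroup.of_card (n := 1) (by rw [Nat.card_zpowers, ho, pow_one]), ?_, ?_⟩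
    · rw [ne_eq, Subgroup.zpowers_eq_bot]
      intro h
      rw [h, orderOf_one] at ho
      exact hp.one_lt.ne ho
    · refine hgk.trans_le (card_le_card fun x hx => ?_)
      rw [mem_fixF] at hx
      simp only [fixS, mem_filter, mem_univ, true_and]
      intro q hq
      obtain ⟨j, rfl⟩ := Subgroup.mem_zpowers_iff.mp hq
      have h1 : (g ^ (orderOf g / p)) x = x := by
        induction (orderOf g / p) with
        | zero => rfl
        | succ i ih => rw [pow_succ, Perm.mul_apply, hx, ih]
      exact Perm.zpow_apply_eq_self_of_apply_eq_self h1 j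
  obtain ⟨Q, hQ, hmax⟩ := Set.exists_max_image P (fun Q => Nat.card Q) (Set.toFinite _) hne
  obtain ⟨hQG, hQp, hQ1, hQk⟩ := hQ
  set F := fixS Q with hFdef
  have hF : ∀ x, x ∈ F ↔ ∀ q ∈ Q, q x = x := fun x => by simp [hFdef, fixS]
  have hFn : F.card < Fintype.card α := by
    refine lt_of_le_of_ne (card_le_univ _) fun h => hQ1 ?_
    rw [card_eq_iff_eq_univ] at h
    rw [eq_bot_iff]
    intro q hq
    exact Subgroup.mem_bot.mpr (Equiv.ext fun x => (hF x).mp (h ▸ mem_univ x) q hq)
  refine ⟨Q, F, hQG, hF, hQk, hFn, ?_⟩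
  set N := G ⊓ Subgroup.normalizer (Q : Set (Perm α)) with hN
  have hpres : ∀ {g : Perm α}, g ∈ N → ∀ x ∈ F, g x ∈ F := fun hg =>
    normalizer_preserves_fixed hF hg.2
  have hQstab : ∀ x : Fin k ↪ ↥F, Q ≤ tupleStab G (x.trans (Function.Embedding.subtype _)) :=
    fun x q hq => mem_tupleStab.mpr ⟨hQG hq, fun i => (hF _).mp (x i).2 q hq⟩
  obtain ⟨x₀⟩ : Nonempty (Fin k ↪ ↥F) :=
    Function.Embedding.nonempty_of_card_le (by rw [Fintype.card_fin, Fintype.card_coe]; omega)
  set m := Nat.card (tupleStab G (x₀.trans (Function.Embedding.subtype _))) with hm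
  by_cases hsyl : Nat.card Q = p ^ m.factorization p
  · -- `Q` is a Sylow subgroup of all the tuple stabilisers
    rw [MulAction.isMultiplyPretransitive_iff]
    intro x y
    obtain ⟨g, hgG, hg⟩ := exists_map_tuple hG (Fintype.card_fin k)
      (x.trans (Function.Embedding.subtype _)) (y.trans (Function.Embedding.subtype _))
    set S := tupleStab G (y.trans (Function.Embedding.subtype _)) with hS
    have hcard : Nat.card S = m := card_tupleStab_eq hG (Fintype.card_fin k) (Fintype.card_fin k) _ _
    set Q' := Q.map (MulAut.conj g).toMonoidHom with hQ'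
    have hQ'S : Q' ≤ S := by
      rintro _ ⟨q, hq, rfl⟩
      obtain ⟨hqG, hqx⟩ := mem_tupleStab.mp (hQstab x hq)
      refine mem_tupleStab.mpr ⟨mul_mem (mul_mem hgG hqG) (inv_mem hgG), fun i => ?_⟩
      have e : g⁻¹ (y.trans (Function.Embedding.subtype _) i) =
          x.trans (Function.Embedding.subtype _) i := by rw [Perm.inv_eq_iff_eq, hg]
      simp only [MulEquiv.coe_toMonoidHom, MulAut.conj_apply, Perm.mul_apply, e, hqx, hg]
    have c1 : Nat.card (Q.subgroupOf S) = p ^ (Nat.card S).factorization p := by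
      rw [hcard, ← hsyl]
      exact Nat.card_congr (Subgroup.subgroupOfEquivOfLe (hQstab y)).toEquiv
    have c2 : Nat.card (Q'.subgroupOf S) = p ^ (Nat.card S).factorization p := by
      rw [hcard, ← hsyl, Nat.card_congr (Subgroup.subgroupOfEquivOfLe hQ'S).toEquiv, hQ']
      exact (Nat.card_congr (Subgroup.equivMapOfInjective _ _ (MulEquiv.injective _)).toEquiv).symm
    obtain ⟨h, hh⟩ := MulAction.exists_smul_eq S (Sylow.ofCard _ c2) (Sylow.ofCard _ c1)
    obtain ⟨hhG, hhy⟩ := mem_tupleStab.mp h.2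
    have hmemN : (h : Perm α) * g ∈ N := by
      refine ⟨mul_mem hhG hgG, ?_⟩
      show (h : Perm α) * g ∈ Subgroup.normalizer (Q : Set (Perm α))
      rw [Subgroup.mem_normalizer_iff_map_conj_eq]
      refine Subgroup.eq_of_le_of_card_ge ?_ (le_of_eq (Nat.card_congr
        (Subgroup.equivMapOfInjective _ _ (MulEquiv.injective _)).toEquiv))
      rintro _ ⟨q, hq, rfl⟩
      have hq' : g * q * g⁻¹ ∈ Q' := ⟨q, hq, rfl⟩
      have hmem : (h * ⟨g * q * g⁻¹, hQ'S hq'⟩ * h⁻¹ : S) ∈ Q.subgroupOf S := by
        have h1 := congrArg (fun P : Sylow p S => (P : Subgroup S)) hh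
        simp only [Sylow.coe_subgroup_smul, Sylow.coe_ofCard] at h1
        rw [← h1]
        exact Subgroup.smul_mem_pointwise_smul _ (MulAut.conj h) _ hq'
      rw [Subgroup.mem_subgroupOf] at hmem
      simpa [mul_assoc] using hmem
    obtain ⟨σ, hσ⟩ := exists_inducedOn hmemN (hpres hmemN)
    refine ⟨σ, Function.Embedding.ext fun i => Subtype.ext ?_⟩
    have e : g (x i : α) = (y i : α) := hg i
    have e' : (h : Perm α) (y i : α) = (y i : α) := hhy i
    show ((σ : Perm ↥F) (x i) : α) = y i
    rw [hσ, Perm.mul_apply, e, e']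
  · -- every tuple has a `p`-group fixing exactly it
    refine Cfsg.Agent.H33.pretransitive_of_fixing (by rw [Fintype.card_coe]; omega) fun t ht => ?_
    intro a ha b hb
    refine Cfsg.Agent.H33.fixing_transitive t hp.two_le (fun z hz => ?_) ha hb
    have hc : (insert z t).card = k := by rw [card_insert_of_notMem hz, ht]
    let x : Fin k ↪ ↥F := ((insert z t).equivFinOfCardEq hc).symm.toEmbedding.trans
      (Function.Embedding.subtype _)
    set S := tupleStab G (x.trans (Function.Embedding.subtype _)) with hS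
    have hcard : Nat.card S = m := card_tupleStab_eq hG (Fintype.card_fin k) (Fintype.card_fin k) _ _
    have hQS : IsPGroup p (Q.subgroupOf S) :=
      hQp.comap_subtype
    obtain ⟨R, hR⟩ := hQS.exists_le_sylow
    have hlt : Q.subgroupOf S < (R : Subgroup S) := by
      refine lt_of_le_of_ne hR fun h => hsyl ?_
      rw [← hcard, ← R.card_eq_multiplicity, ← h]
      exact (Nat.card_congr (Subgroup.subgroupOfEquivOfLe (hQstab x)).toEquiv).symm
    have : Group.IsNilpotent (R : Subgroup S) := R.isPGroup'.isNilpotent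
    have hlt' : (Q.subgroupOf S).subgroupOf (R : Subgroup S) < ⊤ :=
      lt_top_iff_ne_top.mpr fun h => hlt.not_ge (Subgroup.subgroupOf_eq_top.mp h)
    have hnc := Group.normalizerCondition_of_isNilpotent _ hlt'
    set U := (Subgroup.normalizer (((Q.subgroupOf S).subgroupOf (R : Subgroup S) : Subgroup _) :
      Set (R : Subgroup S))).map ((S.subtype).comp (R : Subgroup S).subtype) with hU
    have hmapQ : ((Q.subgroupOf S).subgroupOf (R : Subgroup S)).map
        ((S.subtype).comp (R : Subgroup S).subtype) = Q := by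
      rw [← Subgroup.map_map, Subgroup.map_subgroupOf_eq_of_le hR,
        Subgroup.map_subgroupOf_eq_of_le (hQstab x)]
    have hinj : Function.Injective ((S.subtype).comp (R : Subgroup S).subtype) :=
      S.subtype_injective.comp (R : Subgroup S).subtype_injective
    have hQU : Q < U := by
      rw [← hmapQ]
      exact (Subgroup.map_lt_map_iff_of_injective hinj).mpr hnc
    have hUN : U ≤ N := by
      rw [hU, hN]
      refine le_inf ?_ ?_
      · rintro _ ⟨r, -, rfl⟩
        exact (mem_tupleStab.mp (r : S).2).1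
      · refine (Subgroup.le_normalizer_map _).trans ?_
        rw [hmapQ]
    have hUS : U ≤ S := by
      rintro _ ⟨r, -, rfl⟩
      exact (r : S).2
    have hUp : IsPGroup p U := (R.isPGroup'.to_subgroup _).map _
    refine ⟨(inducedOn U F).subgroupOf (inducedOn N F), ?_, ?_⟩
    · rintro ⟨σ, hσN⟩ hσ
      obtain ⟨u, hu, hue⟩ := hσ
      have hfix : ∀ w ∈ insert z t, σ w = w := by
        intro w hw
        have e : u (x ((insert z t).equivFinOfCardEq hc ⟨w, hw⟩) : α) =
            (x ((insert z t).equivFinOfCardEq hc ⟨w, hw⟩) : α) := (mem_tupleStab.mp (hUS hu)).2 _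
        have ex : x ((insert z t).equivFinOfCardEq hc ⟨w, hw⟩) = w := by simp [x]
        rw [ex] at e
        exact Subtype.ext ((hue w).symm.trans e)
      exact ⟨hfix z (mem_insert_self _ _), fun w hw => hfix w (mem_insert_of_mem hw)⟩
    · intro y hy hyz
      have hp' : IsPGroup p ((inducedOn U F).subgroupOf (inducedOn N F)) :=
        (isPGroup_inducedOn hUp).comap_subtype
      obtain ⟨j, hj⟩ := hp'.card_orbit y
      rcases j with _ | j
      · exfalso
        -- then `U` fixes more than `k` points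
        rw [pow_zero, Nat.card_coe_set_eq, Set.ncard_eq_one] at hj
        obtain ⟨w, hw⟩ := hj
        have hyw : ∀ σ : (inducedOn U F).subgroupOf (inducedOn N F), σ • y = y := by
          intro σ
          have e1 : σ • y ∈ ({w} : Set ↥F) := hw ▸ MulAction.mem_orbit y σ
          have e2 : y ∈ ({w} : Set ↥F) := hw ▸ MulAction.mem_orbit_self y
          rw [Set.mem_singleton_iff] at e1 e2
          rw [e1, e2]
        have hsub : insert (y : α) ((insert z t).map (Function.Embedding.subtype _)) ⊆ fixS U := by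
          intro v hv
          simp only [fixS, mem_filter, mem_univ, true_and]
          intro u hu
          rcases mem_insert.mp hv with rfl | hv
          · obtain ⟨σ, hσ⟩ := exists_inducedOn hu (hpres (hUN hu))
            have hσN : (σ : Perm ↥F) ∈ inducedOn N F := ⟨u, hUN hu, fun x => (hσ x).symm⟩
            have e := hyw ⟨⟨σ, hσN⟩, σ.2⟩
            exact (hσ y).symm.trans (congrArg Subtype.val e)
          · obtain ⟨w', hw', rfl⟩ := mem_map.mp hv
            have e : u (x ((insert z t).equivFinOfCardEq hc ⟨w', hw'⟩) : α) =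
                (x ((insert z t).equivFinOfCardEq hc ⟨w', hw'⟩) : α) := (mem_tupleStab.mp (hUS hu)).2 _
            have ex : x ((insert z t).equivFinOfCardEq hc ⟨w', hw'⟩) = w' := by simp [x]
            rw [ex] at e
            exact e
        have hcl := card_le_card hsub
        rw [card_insert_of_notMem (by
          simp only [mem_map, Function.Embedding.subtype_apply, not_exists, not_and]
          intro w' hw' e
          rcases mem_insert.mp hw' with h | h
          · exact hyz ((Subtype.ext e).symm.trans h)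
          · exact hy ((Subtype.ext e) ▸ h)), card_map, hc] at hcl
        have hle := hmax U ⟨hUN.trans inf_le_left, hUp, fun h => hQ1 (le_bot_iff.mp (h ▸ hQU.le)),
          by omega⟩
        exact absurd (Subgroup.eq_of_le_of_card_ge hQU.le hle) hQU.ne
      · rw [← Nat.card_coe_set_eq, hj]
        exact dvd_pow_self p (by omega)

/-- Livingstone–Wagner. -/
theorem exists_setAlt : ∀ (n : ℕ) {α : Type u} [Fintype α] [DecidableEq α], Fintype.card α = n →
    ∀ (G : Subgroup (Perm α)) (k : ℕ), 4 ≤ k → k < n →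
      MulAction.IsMultiplyPretransitive G α k → SetAlt G k := by
  intro n
  induction n using Nat.strong_induction_on with
  | h n ih =>
    intro α _ _ hn G k hk hkn hG
    by_cases hsr : ∀ g ∈ G, k < (fixF g).card → g = 1
    · exact setAlt_of_sr hG hsr hk (hn ▸ hkn)
    push Not at hsr
    obtain ⟨Q, F, -, -, hkF, hFn, hT⟩ := exists_normalizer_transitive hG (by omega) hsr
    obtain ⟨Δ, hΔ, h⟩ := ih F.card (hn ▸ hFn) (Fintype.card_coe F) _ k hk hkF hT
    refine ⟨Δ.map (Function.Embedding.subtype _), by rw [card_map, hΔ], fun σ hσ => ?_⟩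
    let e : ↥Δ ≃ ↥(Δ.map (Function.Embedding.subtype (fun z => z ∈ F))) :=
      (Equiv.ofBijective (fun d => ⟨((d : ↥F) : α), mem_map.mpr ⟨d, d.2, rfl⟩⟩) ⟨fun a b hab =>
        Subtype.ext (Subtype.ext (show ((a : ↥F) : α) = ((b : ↥F) : α) from
          congrArg (fun z : ↥(Δ.map (Function.Embedding.subtype (fun z => z ∈ F))) => (z : α)) hab)), fun b => by
        obtain ⟨a, ha, he⟩ := mem_map.mp b.2
        exact ⟨⟨a, ha⟩, Subtype.ext he⟩⟩)
    obtain ⟨τ, ⟨g, hgN, hg⟩, hτ⟩ := h (e.symm.permCongr σ) (by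
      rw [Perm.mem_alternatingGroup, Perm.sign_permCongr]; exact Perm.mem_alternatingGroup.mp hσ)
    refine ⟨g, hgN.1, fun x => ?_⟩
    have h1 : g ((e.symm x : ↥F) : α) = ((τ (e.symm x : ↥F)) : α) := hg _
    rw [hτ (e.symm x), permCongr_apply, Equiv.symm_symm, Equiv.apply_symm_apply] at h1
    have h2 : ∀ d : ↥Δ, ((e d : ↥(Δ.map _)) : α) = ((d : ↥F) : α) := fun d => rfl
    rw [← h2 (e.symm x), ← h2 (e.symm (σ x)), Equiv.apply_symm_apply, Equiv.apply_symm_apply] at h1
    exact h1

end Cfsg.Agent.Perm
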