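import Mathlib
import Cfsg.Agent.Perm.TupleStab
import Cfsg.Agent.Perm.InvolutionCount
import Cfsg.Agent.Perm.SetAlternating
import Cfsg.Agent.Perm.SetAltExists
import Cfsg.Agent.Coprime.Generation

set_option autoImplicit false
set_option linter.unusedSectionVars false

/-!
A `(j-1)`-transitive, `j`-homogeneous group, `5 ≤ j`, `j + 2 ≤ n`, is `j`-transitive.
-/

namespace Cfsg.Agent.Perm

open Equiv Finset
open scoped Pointwise IsMulCommutative

universe u

variable {α : Type u} [Fintype α] [DecidableEq α] {G : Subgroup (Perm α)} {j : ℕ}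

/-- No element of `G` induces an odd permutation on a `j`-tuple. -/
def OddFree (G : Subgroup (Perm α)) (j : ℕ) : Prop :=
  ∀ (x : Fin j ↪ α), ∀ g ∈ G, ∀ π : Perm (Fin j), (∀ i, g (x i) = x (π i)) → Perm.sign π = 1

theorem sign_eq_one_of_oddFree (hev : OddFree G j) {ι : Type*} [Fintype ι] [DecidableEq ι]
    (hι : Fintype.card ι = j) (x : ι ↪ α) {g : Perm α} (hg : g ∈ G) (π : Perm ι)
    (h : ∀ i, g (x i) = x (π i)) : Perm.sign π = 1 := by
  let e := Fintype.equivFinOfCardEq hι
  have := hev (e.symm.toEmbedding.trans x) g hg (e.permCongr π) fun i => by simp [h]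
  rwa [Perm.sign_permCongr] at this

/-- Involutions fix at most `j - 3` points. -/
theorem invol_fix_lt (hev : OddFree G j) (hj : 2 ≤ j) {g : Perm α} (hg : g ∈ G) (h2 : g * g = 1)
    (hf : j - 2 ≤ (fixF g).card) : g = 1 := by
  by_contra h1
  obtain ⟨a, ha⟩ : ∃ a, g a ≠ a := by
    by_contra hc
    push Not at hc
    exact h1 (Equiv.ext hc)
  have hlt : (fixF g).card < Fintype.card α := card_lt_univ_of_notMem (x := a) (by simpa using ha)
  have hpat : 0 < (patF g (Perm.sumCongr (swap (0 : Fin 2) 1) (1 : Perm (Fin (j - 2))))).card := by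
    rw [card_patF_sum _ _ (by decide), card_patF_swap h2, Fintype.card_fin]
    refine Nat.mul_pos (by omega) ?_
    rw [Nat.pos_iff_ne_zero, ne_eq, Nat.descFactorial_eq_zero_iff_lt]; omega
  obtain ⟨x, hx⟩ := card_pos.mp hpat
  have := sign_eq_one_of_oddFree hev (by simp; omega) x hg _ (mem_patF.mp hx)
  rw [Perm.sign_sumCongr, Perm.sign_swap (by decide), Perm.sign_one] at this
  exact absurd this (by decide)

theorem exists_three_cycles {u : Perm α} (hu : u * u = 1) (h6 : 5 ≤ (fixF u)ᶜ.card) :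
    0 < (patF u (Perm.sumCongr (swap (0 : Fin 2) 1) (swap (0 : Fin 4) 1 * swap 2 3))).card := by
  have huu : ∀ z, u (u z) = z := fun z => by rw [← Perm.mul_apply, hu]; rfl
  have hS : ∀ {z}, z ∈ (fixF u)ᶜ ↔ u z ≠ z := fun {z} => by simp
  obtain ⟨a, ha⟩ : (fixF u)ᶜ.Nonempty := card_pos.mp (by omega)
  obtain ⟨b, hb⟩ : ((fixF u)ᶜ \ {a, u a}).Nonempty := card_pos.mp (by
    have := le_card_sdiff {a, u a} (fixF u)ᶜ
    have := card_le_two (a := a) (b := u a)
    omega)
  obtain ⟨c, hc⟩ : ((fixF u)ᶜ \ {a, u a, b, u b}).Nonempty := card_pos.mp (by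
    have := le_card_sdiff {a, u a, b, u b} (fixF u)ᶜ
    have := card_le_four (a := a) (b := u a) (c := b) (d := u b)
    omega)
  simp only [mem_sdiff, mem_insert, mem_singleton, not_or] at hb hc
  rw [hS] at ha hb hc
  obtain ⟨hb, hba, hbua⟩ := hb
  obtain ⟨hc, hca, hcua, hcb, hcub⟩ := hc
  have h1 : u b ≠ a := fun h => hbua (by rw [← h, huu])
  have h2 : u b ≠ u a := fun h => hba (u.injective h)
  have h3 : u c ≠ a := fun h => hcua (by rw [← h, huu])
  have h4 : u c ≠ u a := fun h => hca (u.injective h)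
  have h5 : u c ≠ b := fun h => hcub (by rw [← h, huu])
  have h6' : u c ≠ u b := fun h => hcb (u.injective h)
  refine card_pos.mpr ⟨⟨Sum.elim ![a, u a] ![b, u b, c, u c], ?_⟩, mem_patF.mpr ?_⟩
  · rintro (i | i) (k | k) h <;> fin_cases i <;> fin_cases k <;>
      first
        | rfl
        | (exfalso; simp [ha, hb, hc, hba, hbua, hca, hcua, hcb, hcub, h1, h2, h3, h4, h5, h6',
            ha.symm, hb.symm, hc.symm, Ne.symm hba, Ne.symm hbua, Ne.symm hca, Ne.symm hcua,
            Ne.symm hcb, Ne.symm hcub, h1.symm, h2.symm, h3.symm, h4.symm, h5.symm, h6'.symm] at h)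
  · show ∀ i, u (Sum.elim ![a, u a] ![b, u b, c, u c] i) =
      Sum.elim ![a, u a] ![b, u b, c, u c]
        (Perm.sumCongr (swap (0 : Fin 2) 1) (swap (0 : Fin 4) 1 * swap 2 3) i)
    simp [Sum.forall, Fin.forall_fin_succ, huu, swap_apply_def]

/-- `j ≥ 6`: impossible. -/
theorem not_oddFree_of_six (hj : 6 ≤ j) (hn : j + 2 ≤ Fintype.card α)
    (hT : MulAction.IsMultiplyPretransitive G α (j - 1)) : ¬ OddFree G j := by
  intro hev
  have hodd : ∀ g ∈ G, g * g = 1 → j - 1 ≤ (fixF g).card → g = 1 :=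
    fun g hg h2 hf => invol_fix_lt hev (by omega) hg h2 (by omega)
  obtain ⟨x⟩ : Nonempty (Fin (j - 1) ↪ α) := Function.Embedding.nonempty_of_card_le (by simp; omega)
  have hab : (⟨0, by omega⟩ : Fin (j - 1)) ≠ ⟨1, by omega⟩ := by simp
  obtain ⟨u, huG, hu2, hu⟩ := exists_invol_lift hT hodd (Fintype.card_fin _) x
    (π := swap ⟨0, by omega⟩ ⟨1, by omega⟩) (swap_mul_self _ _)
  obtain ⟨h1, -, -⟩ := fixF_swap_bounds hodd (Fintype.card_fin _) huG hu2 hab hu
  have hu1 : u ≠ 1 := fun h => by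
    rw [h] at hu
    have := x.injective (hu ⟨0, by omega⟩)
    simp at this
  have hf : (fixF u).card < j - 2 := by
    by_contra hc
    exact hu1 (invol_fix_lt hev (by omega) huG hu2 (by omega))
  obtain ⟨y, hy⟩ := card_pos.mp (exists_three_cycles hu2 (by rw [card_compl]; omega))
  obtain ⟨z⟩ : Nonempty (Fin (j - 6) ↪ ↥(fixF u)) :=
    Function.Embedding.nonempty_of_card_le (by rw [Fintype.card_fin, Fintype.card_coe]; omega)
  set π : Perm ((Fin 2 ⊕ Fin 4) ⊕ Fin (j - 6)) :=
    Perm.sumCongr (Perm.sumCongr (swap (0 : Fin 2) 1) (swap (0 : Fin 4) 1 * swap 2 3)) 1 with hπ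
  have hmoved : ∀ i, Perm.sumCongr (swap (0 : Fin 2) 1) (swap (0 : Fin 4) 1 * swap 2 3) i ≠ i := by
    decide
  have hpat : 0 < (patF u π).card := by
    rw [hπ, card_patF_sum _ _ hmoved]
    refine Nat.mul_pos (card_pos.mpr ⟨y, hy⟩) ?_
    rw [Nat.pos_iff_ne_zero, ne_eq, Nat.descFactorial_eq_zero_iff_lt, Fintype.card_fin]; omega
  obtain ⟨w, hw⟩ := card_pos.mp hpat
  have := sign_eq_one_of_oddFree hev (by simp; omega) w huG π (mem_patF.mp hw)
  rw [hπ, Perm.sign_sumCongr, Perm.sign_one, mul_one] at this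
  exact absurd this (by decide)

section Five

/-- A four-tuple and a further point. -/
def extend4 (x : Fin 4 ↪ α) {y : α} (hy : y ∉ Set.range x) : Option (Fin 4) ↪ α :=
  x.optionElim y hy

@[simp] theorem extend4_some (x : Fin 4 ↪ α) {y : α} (hy : y ∉ Set.range x) (i : Fin 4) :
    extend4 x hy (some i) = x i := rfl

@[simp] theorem extend4_none (x : Fin 4 ↪ α) {y : α} (hy : y ∉ Set.range x) :
    extend4 x hy none = y := rfl

variable (hT : MulAction.IsMultiplyPretransitive G α 4) (hev : OddFree G 5)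
  (hall : ∀ (x : Option (Fin 4) ↪ α) (π : Perm (Option (Fin 4))), Perm.sign π = 1 →
    ∃ g ∈ G, ∀ i, g (x i) = x (π i))
include hT hev hall

theorem odd_card_tupleStab (x : Fin 4 ↪ α) : Odd (Nat.card (tupleStab G x)) := by
  rw [← Nat.not_even_iff_odd]
  intro he
  have : Fact (Nat.Prime 2) := ⟨Nat.prime_two⟩
  obtain ⟨t, ht⟩ := exists_prime_orderOf_dvd_card' (G := tupleStab G x) 2 (even_iff_two_dvd.mp he)
  have h2 : (t : Perm α) * t = 1 := by
    rw [← Subgroup.coe_mul, ← sq, ← ht, pow_orderOf_eq_one]; rfl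
  have := invol_fix_lt hev (by norm_num) (mem_tupleStab.mp t.2).1 h2 (by
    calc 5 - 2 ≤ (univ.map x).card := by simp
      _ ≤ _ := card_le_card fun z hz => by
        obtain ⟨i, -, rfl⟩ := mem_map.mp hz
        exact mem_fixF.mpr ((mem_tupleStab.mp t.2).2 i))
  rw [orderOf_eq_prime_iff] at ht
  exact ht.2 (Subtype.ext this)

theorem orbit_out (x : Fin 4 ↪ α) {y : α} (hy : y ∉ Set.range x) {w : α}
    (hw : w ∈ MulAction.orbit (tupleStab G x) y) : w ∉ Set.range x := by
  obtain ⟨m, rfl⟩ := hw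
  rintro ⟨i, hi⟩
  exact hy ⟨i, (m : Perm α).injective (((mem_tupleStab.mp m.2).2 i).trans hi)⟩

/-- Elements inducing even permutations on `x` preserve the orbits of the stabiliser of `x`. -/
theorem even_preserves_orbit (x : Fin 4 ↪ α) {v : Perm α} (hvG : v ∈ G) {π : Perm (Fin 4)}
    (hπ : Perm.sign π = 1) (hv : ∀ i, v (x i) = x (π i)) {y : α} (hy : y ∉ Set.range x) :
    ∀ w ∈ MulAction.orbit (tupleStab G x) y, v w ∈ MulAction.orbit (tupleStab G x) y := by
  intro w hw
  have hwo := orbit_out hT hev hall x hy hw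
  have hw' : v w ∉ Set.range x := by
    rintro ⟨i, hi⟩
    exact hwo ⟨π⁻¹ i, v.injective (by rw [hv, ← hi]; simp)⟩
  obtain ⟨g, hgG, hg⟩ := hall (extend4 x hw') (Equiv.optionCongr π⁻¹)
    (by rw [Equiv.optionCongr_sign, Perm.sign_inv, hπ])
  have hm : g * v ∈ tupleStab G x := mem_tupleStab.mpr ⟨mul_mem hgG hvG, fun i => by
    have := hg (some (π i))
    simp at this
    rw [Perm.mul_apply, hv, this]⟩
  have hg5 : g (v w) = v w := by simpa using hg none
  have : (⟨g * v, hm⟩ : tupleStab G x) • w ∈ MulAction.orbit (tupleStab G x) y :=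
    MulAction.mem_orbit_of_mem_orbit _ hw
  rwa [Subgroup.smul_def, Perm.smul_def, Perm.mul_apply, hg5] at this

/-- An involution inducing an even permutation fixes a point in each orbit. -/
theorem exists_fixed_in_orbit (x : Fin 4 ↪ α) {v : Perm α} (hvG : v ∈ G) (hv2 : v * v = 1)
    {π : Perm (Fin 4)} (hπ : Perm.sign π = 1) (hv : ∀ i, v (x i) = x (π i))
    {y : α} (hy : y ∉ Set.range x) :
    ∃ z ∈ MulAction.orbit (tupleStab G x) y, v z = z := by
  classical
  set O := MulAction.orbit (tupleStab G x) y with hO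
  have hOodd : Odd O.toFinset.card := by
    rw [← Set.ncard_eq_toFinset_card', ← Nat.card_coe_set_eq,
      Nat.card_congr (MulAction.orbitEquivQuotientStabilizer (tupleStab G x) y),
      ← Subgroup.index_eq_card]
    exact Odd.of_dvd_nat (odd_card_tupleStab hT hev hall x) (Subgroup.index_dvd_card _)
  have hO' := even_preserves_orbit hT hev hall x hvG hπ hv hy
  have hvv : ∀ z, v (v z) = z := fun z => by rw [← Perm.mul_apply, hv2]; rfl
  by_contra hc
  push Not at hc
  let vO : Perm ↥O.toFinset := v.subtypePerm (fun z => by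
    rw [Set.mem_toFinset, Set.mem_toFinset]
    exact ⟨fun h => hvv z ▸ hO' _ h, hO' z⟩)
  have h2O := two_dvd_card_sub_fixF (u := vO)
    (Equiv.ext fun z => Subtype.ext (by exact hvv z))
  have h0 : fixF vO = ∅ := by
    ext z
    simp only [mem_fixF, Finset.notMem_empty, iff_false]
    intro h
    exact hc z (Set.mem_toFinset.mp z.2) (congrArg Subtype.val h)
  rw [h0, card_empty, Nat.sub_zero, Fintype.card_coe] at h2O
  exact Nat.not_even_iff_odd.mpr hOodd (even_iff_two_dvd.mpr h2O)

/-- A transposition lift moves every orbit to another one. -/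
theorem swap_moves_orbit (x : Fin 4 ↪ α) {u : Perm α} (huG : u ∈ G)
    (hu : ∀ i, u (x i) = x (swap 0 1 i)) {w : α} (hw : w ∉ Set.range x) :
    u w ∉ MulAction.orbit (tupleStab G x) w := by
  rintro ⟨m, hm⟩
  simp only [Subgroup.smul_def, Perm.smul_def] at hm
  have hs := sign_eq_one_of_oddFree hev (by simp) (extend4 x hw)
    (mul_mem (inv_mem (mem_tupleStab.mp m.2).1) huG) (Equiv.optionCongr (swap 0 1)) fun i => by
    rcases i with _ | i
    · simp [Perm.mul_apply, ← hm, swap_apply_of_ne_of_ne]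
    · simp only [extend4_some, Perm.mul_apply, hu, Equiv.optionCongr_apply, Option.map_some]
      rw [Perm.inv_eq_iff_eq, (mem_tupleStab.mp m.2).2]
  rw [Equiv.optionCongr_sign, Perm.sign_swap (by decide)] at hs
  exact absurd hs (by decide)

/-- An involution inducing a double transposition fixes exactly one point of each orbit. -/
theorem unique_fixed_in_orbit (x : Fin 4 ↪ α) {v : Perm α} (hvG : v ∈ G) (hv2 : v * v = 1)
    {π : Perm (Fin 4)} (hπm : ∀ i, π i ≠ i) (hπ : Perm.sign π = 1)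
    (hv : ∀ i, v (x i) = x (π i)) {y : α} (hy : y ∉ Set.range x) :
    ∃! z, z ∈ MulAction.orbit (tupleStab G x) y ∧ v z = z := by
  obtain ⟨z, hz, hvz⟩ := exists_fixed_in_orbit hT hev hall x hvG hv2 hπ hv hy
  refine ⟨z, ⟨hz, hvz⟩, fun z' ⟨hz', hvz'⟩ => ?_⟩
  by_contra hne
  obtain ⟨u, huG, hu⟩ := exists_map_tuple hT (Fintype.card_fin 4) x
    ((swap (0 : Fin 4) 1).toEmbedding.trans x)
  have hzo := orbit_out hT hev hall x hy hz
  have huz : u z ∉ Set.range x := by
    rintro ⟨i, hi⟩
    exact hzo ⟨swap 0 1 i, u.injective (by rw [hu, ← hi]; simp)⟩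
  obtain ⟨w, hw, hvw⟩ := exists_fixed_in_orbit hT hev hall x hvG hv2 hπ hv huz
  have hwO : w ∉ MulAction.orbit (tupleStab G x) y := by
    intro h
    refine swap_moves_orbit hT hev hall x huG (fun i => by rw [hu]; rfl) hzo ?_
    rw [MulAction.orbit_eq_iff.mpr hz, ← MulAction.orbit_eq_iff.mpr h,
      MulAction.orbit_eq_iff.mpr hw]
    exact MulAction.mem_orbit_self _
  have hsub : ({z, z', w} : Finset α) ⊆ fixF v := by
    intro a ha
    simp only [mem_insert, mem_singleton] at ha
    rcases ha with rfl | rfl | rfl <;> simpa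
  have hc := card_le_card hsub
  rw [card_eq_three.mpr ⟨z, z', w, Ne.symm hne, fun e => hwO (e ▸ hz), fun e => hwO (e ▸ hz'), rfl⟩] at hc
  have := invol_fix_lt hev (by norm_num) hvG hv2 (by omega)
  rw [this] at hv
  exact hπm 0 (x.injective (hv 0)).symm

/-- The stabiliser of four points fixes every point. -/
theorem tupleStab_fixes (x : Fin 4 ↪ α) {y : α} (hy : y ∉ Set.range x) :
    ∀ g ∈ tupleStab G x, g y = y := by
  classical
  have hodd : ∀ g ∈ G, g * g = 1 → 4 ≤ (fixF g).card → g = 1 :=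
    fun g hg h2 hf => invol_fix_lt hev (by norm_num) hg h2 (by omega)
  set M := tupleStab G x with hM
  set O := MulAction.orbit M y with hO
  let d1 : Perm (Fin 4) := swap 0 1 * swap 2 3
  let d2 : Perm (Fin 4) := swap 0 2 * swap 1 3
  let d3 : Perm (Fin 4) := swap 0 3 * swap 1 2
  obtain ⟨v1, hv1G, hv12, hv1⟩ := exists_invol_lift hT hodd (Fintype.card_fin 4) x (π := d1)
    (by decide)
  obtain ⟨v2, hv2G, hv22, hv2⟩ := exists_invol_lift hT hodd (Fintype.card_fin 4) x (π := d2)
    (by decide)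
  -- a commuting lift
  set w := v1 * v2 with hw
  obtain ⟨a, b, hb, hab⟩ := Nat.exists_eq_pow_mul_and_not_dvd (orderOf_pos w).ne' 2 (by norm_num)
  set z := w ^ b with hz
  have hpow : ∀ i : ℕ, ∀ k, (w ^ i) (x k) = x ((d3 ^ i) k) := by
    intro i
    induction i with
    | zero => simp
    | succ i ih =>
      intro k
      rw [pow_succ', pow_succ', Perm.mul_apply, ih, hw, Perm.mul_apply, hv2, hv1]
      exact congrArg x (congrArg (fun f : Perm (Fin 4) => f ((d3 ^ i) k)) (show d1 * d2 = d3 by decide))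
  have hd3 : d3 ^ b = d3 := by
    obtain ⟨c, rfl⟩ := Nat.odd_iff.mpr (show b % 2 = 1 by omega)
    rw [pow_succ, pow_mul, show d3 ^ 2 = 1 by decide, one_pow, one_mul]
  have hzG : z ∈ G := pow_mem (mul_mem hv1G hv2G) b
  have hzx : ∀ k, z (x k) = x (d3 k) := fun k => by rw [hz, hpow, hd3]
  have hz2 : z * z = 1 := by
    have hmem : z * z ∈ M := mem_tupleStab.mpr ⟨mul_mem hzG hzG, fun k => by
      rw [Perm.mul_apply, hzx, hzx]
      exact congrArg x ((by decide : ∀ k, d3 (d3 k) = k) k)⟩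
    have h1 : orderOf (z * z) ∣ Nat.card M := Subgroup.orderOf_dvd_natCard M hmem
    have h2 : orderOf (z * z) ∣ 2 ^ a := orderOf_dvd_of_pow_eq_one (by
      rw [hz, ← pow_add, ← pow_mul, show (b + b) * 2 ^ a = (2 ^ a * b) * 2 by ring, pow_mul, ← hab,
        pow_orderOf_eq_one, one_pow])
    have := Nat.dvd_gcd h1 h2
    have hco : (Nat.card M).Coprime (2 ^ a) :=
      ((odd_card_tupleStab hT hev hall x).coprime_two_right).pow_right a
    rw [hco.gcd_eq_one, Nat.dvd_one, orderOf_eq_one_iff] at this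
    exact this
  have hzinv : z⁻¹ = z := inv_eq_of_mul_eq_one_right hz2
  have i1 : v1⁻¹ = v1 := inv_eq_of_mul_eq_one_right hv12
  have i2 : v2⁻¹ = v2 := inv_eq_of_mul_eq_one_right hv22
  have hconj : v1 * w * v1⁻¹ = w⁻¹ := by
    rw [hw, mul_inv_rev, i1, i2, ← mul_assoc, hv12, one_mul]
  have hcomm : Commute v1 z := by
    have : v1 * z * v1⁻¹ = z := by rw [hz, ← conj_pow, hconj, inv_pow, ← hz, hzinv]
    show v1 * z = z * v1
    calc v1 * z = v1 * z * v1⁻¹ * v1 := by simp
      _ = z * v1 := by rw [this]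
  have hvz : (z * v1) * (z * v1) = 1 := by
    rw [show (z * v1) * (z * v1) = z * (v1 * z) * v1 by simp [mul_assoc], hcomm.eq]
    rw [show z * (z * v1) * v1 = (z * z) * (v1 * v1) by simp [mul_assoc], hz2, hv12, one_mul]
  have hzv1 : ∀ k, (z * v1) (x k) = x ((d3 * d1) k) := fun k => by
    rw [Perm.mul_apply, hv1, hzx]; rfl
  obtain ⟨p, ⟨hpO, hp1⟩, hp1u⟩ := unique_fixed_in_orbit hT hev hall x hv1G hv12 (π := d1)
    (by decide) (by decide) hv1 hy
  have hpz : z p = p := by
    refine hp1u _ ⟨even_preserves_orbit hT hev hall x hzG (π := d3) (by decide) hzx hy p hpO, ?_⟩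
    rw [← Perm.mul_apply, hcomm.eq, Perm.mul_apply, hp1]
  have hfixp : ∀ v ∈ G, v * v = 1 → ∀ π : Perm (Fin 4), (∀ i, π i ≠ i) → Perm.sign π = 1 →
      (∀ i, v (x i) = x (π i)) → v p = p → ∀ c ∈ M, c * v = v * c → c p = p := by
    intro v hvG hv2' π hπm hπ hv hvp c hc hcv
    obtain ⟨q, -, hq⟩ := unique_fixed_in_orbit hT hev hall x hvG hv2' hπm hπ hv hy
    have h1 := hq p ⟨hpO, hvp⟩
    have h2 : c p = q := by
      refine hq _ ⟨?_, by rw [← Perm.mul_apply, ← hcv, Perm.mul_apply, hvp]⟩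
      exact MulAction.mem_orbit_of_mem_orbit (⟨c, hc⟩ : M) hpO
    rw [h2, h1]
  -- the four-group acts coprimely on the stabiliser
  set A := Subgroup.closure ({v1, z} : Set (Perm α)) with hA
  have hAcomm : IsMulCommutative A := Subgroup.isMulCommutative_closure (by
    rintro a (rfl | rfl) b (rfl | rfl)
    · rfl
    · exact hcomm.eq
    · exact hcomm.eq.symm
    · rfl)
  have hA2 : IsPGroup 2 A := by
    intro g
    refine ⟨1, ?_⟩
    obtain ⟨g, hg⟩ := g
    apply Subtype.ext
    show g ^ 2 ^ 1 = 1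
    rw [pow_one]
    refine Subgroup.closure_induction (p := fun g _ => g ^ 2 = 1) ?_ (one_pow 2) ?_ ?_ hg
    · rintro a (rfl | rfl) <;> rw [sq]
      · exact hv12
      · exact hz2
    · intro a c ha hc h1 h2
      have hac : Commute a c := Subtype.ext_iff.mp (mul_comm (⟨a, ha⟩ : A) ⟨c, hc⟩)
      rw [hac.mul_pow, h1, h2, one_mul]
    · intro a _ h1
      rw [inv_pow, h1, inv_one]
  have hco : (Nat.card A).Coprime (Nat.card M) := by
    have : Fact (Nat.Prime 2) := ⟨Nat.prime_two⟩
    obtain ⟨i, hi⟩ := IsPGroup.iff_card.mp hA2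
    rw [hi]
    exact ((odd_card_tupleStab hT hev hall x).coprime_two_right.symm).pow_left i
  have hnorm : A ≤ Subgroup.normalizer (M : Set (Perm α)) := by
    rw [hA, Subgroup.closure_le]
    have key : ∀ {v : Perm α} {π : Perm (Fin 4)}, v ∈ G → (∀ i, v (x i) = x (π i)) →
        v ∈ Subgroup.normalizer (M : Set (Perm α)) := by
      intro v π hvG hv
      have hv' : ∀ i, v⁻¹ (x i) = x (π⁻¹ i) := fun i => by rw [Perm.inv_eq_iff_eq, hv]; simp
      rw [Subgroup.mem_normalizer_iff_map_conj_eq]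
      refine Subgroup.eq_of_le_of_card_ge ?_ (le_of_eq (Nat.card_congr
        (Subgroup.equivMapOfInjective _ _ (MulEquiv.injective _)).toEquiv))
      rintro _ ⟨m, hm, rfl⟩
      obtain ⟨hmG, hmx⟩ := mem_tupleStab.mp hm
      refine mem_tupleStab.mpr ⟨mul_mem (mul_mem hvG hmG) (inv_mem hvG), fun i => ?_⟩
      show (v * m * v⁻¹) (x i) = x i
      rw [Perm.mul_apply, Perm.mul_apply, hv', hmx, hv]
      simp
    rintro a (rfl | rfl)
    · exact key hv1G hv1
    · exact key hzG hzx
  have hM_le : M ≤ MulAction.stabilizer (Perm α) p := by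
    have : Fact (Nat.Prime 2) := ⟨Nat.prime_two⟩
    refine Cfsg.Agent.Coprime.le_of_centralizer_le (A := A) (p := 2) (x := z) (y := v1)
      (Subgroup.subset_closure (by simp)) (Subgroup.subset_closure (by simp)) M _ hnorm hco
      (odd_card_tupleStab hT hev hall x).coprime_two_left
      (by rw [sq, hz2]; exact one_mem _) (by rw [sq, hv12]; exact one_mem _) ?_ ?_
    · rintro c ⟨hc, hcv⟩
      exact hfixp v1 hv1G hv12 d1 (by decide) (by decide) hv1 hp1 c hc
        (Subgroup.mem_centralizer_iff.mp hcv v1 rfl).symm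
    · intro i hi
      rintro c ⟨hc, hcv⟩
      replace hcv : c * (z * v1 ^ i) = z * v1 ^ i * c :=
        (Subgroup.mem_centralizer_iff.mp hcv _ rfl).symm
      interval_cases i
      · rw [pow_zero, mul_one] at hcv
        exact hfixp z hzG hz2 d3 (by decide) (by decide) hzx hpz c hc hcv
      · rw [pow_one] at hcv
        exact hfixp (z * v1) (mul_mem hzG hv1G) hvz (d3 * d1) (by decide) (by decide) hzv1
          (by rw [Perm.mul_apply, hp1, hpz]) c hc hcv
  intro g hg
  have hOp : ∀ q ∈ O, q = p := by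
    intro q hq
    rw [hO, ← MulAction.orbit_eq_iff.mpr hpO] at hq
    obtain ⟨m, rfl⟩ := hq
    exact hM_le m.2
  have : g p = p := hM_le hg
  rw [hOp _ (MulAction.mem_orbit_self y)]
  exact this

/-- With five-point odd-free, four-transitive: at most six points. -/
theorem card_le_six_of_oddFree (hn : 7 ≤ Fintype.card α) : False := by
  classical
  obtain ⟨x⟩ : Nonempty (Fin 4 ↪ α) := Function.Embedding.nonempty_of_card_le (by simp; omega)
  have hodd : ∀ g ∈ G, g * g = 1 → 4 ≤ (fixF g).card → g = 1 :=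
    fun g hg h2 hf => invol_fix_lt hev (by norm_num) hg h2 (by omega)
  obtain ⟨v, hvG, hv2, hv⟩ := exists_invol_lift hT hodd (Fintype.card_fin 4) x
    (π := swap 0 1 * swap 2 3) (by decide)
  have hv1 : v ≠ 1 := fun h => by
    rw [h] at hv; exact absurd (x.injective (hv 0)) (by decide)
  have hsub : (univ.map x)ᶜ ⊆ fixF v := by
    intro y hy
    have hy' : y ∉ Set.range x := by simpa using hy
    obtain ⟨z, hz, hvz⟩ := exists_fixed_in_orbit hT hev hall x hvG hv2 (by decide) hv hy'
    obtain ⟨m, rfl⟩ := hz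
    replace hvz : v ((m : Perm α) y) = (m : Perm α) y := hvz
    rw [tupleStab_fixes hT hev hall x hy' m m.2] at hvz
    exact mem_fixF.mpr hvz
  have := card_le_card hsub
  rw [card_compl, card_map, card_univ, Fintype.card_fin] at this
  exact hv1 (invol_fix_lt hev (by norm_num) hvG hv2 (by omega))

end Five

/-- A homogeneous group inducing every permutation of one tuple is transitive on tuples. -/
theorem transitive_of_full (hh : MulAction.IsPretransitive G (Set.powersetCard α j))
    (x₀ : Fin j ↪ α) (h : ∀ π : Perm (Fin j), ∃ g ∈ G, ∀ i, g (x₀ i) = x₀ (π i)) :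
    MulAction.IsMultiplyPretransitive G α j := by
  rw [MulAction.isMultiplyPretransitive_iff]
  intro x y
  have key : ∀ b : Fin j ↪ α, ∃ g : G, ∀ i, (g : Perm α) (x₀ i) = b i := by
    intro b
    obtain ⟨k, hk⟩ := MulAction.exists_smul_eq G
      (⟨univ.map x₀, Set.powersetCard.mem_iff.mpr (by simp)⟩ : Set.powersetCard α j)
      (⟨univ.map b, Set.powersetCard.mem_iff.mpr (by simp)⟩ : Set.powersetCard α j)
    have he : k • univ.map x₀ = univ.map b := congrArg Subtype.val hk
    have : ∀ i, ∃ l, (k : Perm α) (x₀ i) = b l := by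
      intro i
      have hi : (k : Perm α) (x₀ i) ∈ univ.map b := by
        rw [← he]; exact smul_mem_smul_finset (a := k) (mem_map_of_mem x₀ (mem_univ i))
      obtain ⟨l, -, hl⟩ := mem_map.mp hi
      exact ⟨l, hl.symm⟩
    choose σ hσ using this
    have hinj : Function.Injective σ := fun p q e' => x₀.injective ((k : Perm α).injective (by
      rw [hσ, hσ, e']))
    obtain ⟨g, hg, hgx⟩ := h (Equiv.ofBijective σ (Finite.injective_iff_bijective.mp hinj))⁻¹
    refine ⟨k * ⟨g, hg⟩, fun i => ?_⟩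
    show (k : Perm α) (g (x₀ i)) = b i
    rw [hgx, hσ]
    exact congrArg b (Equiv.apply_symm_apply (Equiv.ofBijective σ _) i)
  obtain ⟨g, hg⟩ := key x
  obtain ⟨g', hg'⟩ := key y
  refine ⟨g' * g⁻¹, Function.Embedding.ext fun i => ?_⟩
  show (g' : Perm α) ((g : Perm α)⁻¹ (x i)) = y i
  rw [Perm.inv_eq_iff_eq.mpr (hg i).symm, hg']

/-- A `(j-1)`-transitive `j`-homogeneous group, `5 ≤ j`, `j + 2 ≤ n`, is `j`-transitive. -/
theorem transitive_of_homogeneous (hj : 5 ≤ j) (hn : j + 2 ≤ Fintype.card α)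
    (hh : MulAction.IsPretransitive G (Set.powersetCard α j))
    (hT : MulAction.IsMultiplyPretransitive G α (j - 1)) :
    MulAction.IsMultiplyPretransitive G α j := by
  classical
  obtain ⟨Δ, hΔ, halt⟩ := exists_setAlt _ rfl G (j - 1) (by omega) (by omega) hT
  have hΔ' : Δ.card = j := by omega
  -- all even permutations are induced on every `j`-tuple
  have hall : ∀ {ι : Type} [Fintype ι] [DecidableEq ι], Fintype.card ι = j → ∀ (x : ι ↪ α)
      (π : Perm ι), Perm.sign π = 1 → ∃ g ∈ G, ∀ i, g (x i) = x (π i) := by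
    intro ι _ _ hι x π hπ
    obtain ⟨h, hh'⟩ := MulAction.exists_smul_eq G (⟨Δ, hΔ'⟩ : Set.powersetCard α j)
      (⟨univ.map x, Set.powersetCard.mem_iff.mpr (by rw [card_map, card_univ, hι])⟩ : Set.powersetCard α j)
    have hmem : ∀ i, (h : Perm α)⁻¹ (x i) ∈ Δ := by
      intro i
      have hi : x i ∈ univ.map x := mem_map_of_mem x (mem_univ i)
      have e : h • Δ = univ.map x := congrArg Subtype.val hh'
      rw [← e] at hi
      obtain ⟨d, hd, hdi⟩ := mem_smul_finset.mp hi
      rw [Subgroup.smul_def, Perm.smul_def] at hdi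
      rwa [Perm.inv_eq_iff_eq.mpr hdi.symm]
    let f : ι → ↥Δ := fun i => ⟨(h : Perm α)⁻¹ (x i), hmem i⟩
    have hf : Function.Bijective f := (Fintype.bijective_iff_injective_and_card f).mpr
      ⟨fun a b e => x.injective ((h : Perm α)⁻¹.injective (congrArg Subtype.val e)), by
        rw [Fintype.card_coe, hι, hΔ']⟩
    let e := Equiv.ofBijective f hf
    obtain ⟨g, hg, hge⟩ := halt (e.permCongr π)
      (by rw [Perm.mem_alternatingGroup, Perm.sign_permCongr, hπ])
    refine ⟨(h : Perm α) * g * (h : Perm α)⁻¹, mul_mem (mul_mem h.2 hg) (inv_mem h.2), fun i => ?_⟩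
    have := hge (e i)
    simp only [Equiv.permCongr_apply, Equiv.symm_apply_apply] at this
    simp only [e, Equiv.ofBijective_apply, f] at this
    rw [Perm.mul_apply, Perm.mul_apply, this]
    simp
  by_cases hev : OddFree G j
  · exfalso
    rcases eq_or_lt_of_le hj with h5 | h6
    · subst h5
      exact card_le_six_of_oddFree hT hev (fun x π hπ => hall (by simp) x π hπ) (by omega)
    · exact not_oddFree_of_six h6 hn hT hev
  -- some odd permutation is induced: then all permutations, on all tuples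
  unfold OddFree at hev
  push Not at hev
  obtain ⟨x, g0, hg0, ρ, hρ0, hsign⟩ := hev
  refine transitive_of_full hh x fun π => ?_
  have hρ : Perm.sign ρ = -1 := (Int.units_eq_one_or _).resolve_left hsign
  rcases Int.units_eq_one_or (Perm.sign π) with h1 | h1
  · exact hall (Fintype.card_fin j) x π h1
  · obtain ⟨g', hg', hgπ⟩ := hall (Fintype.card_fin j) x (π * ρ⁻¹)
      (by rw [map_mul, map_inv, h1, hρ, mul_inv_cancel])
    exact ⟨g' * g0, mul_mem hg' hg0, fun i => by rw [Perm.mul_apply, hρ0, hgπ]; simp⟩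

end Cfsg.Agent.Perm
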