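import Mathlib
import Cfsg.Agent.Perm.TupleStab
import Cfsg.Agent.Perm.OddFree

set_option autoImplicit false
set_option linter.unusedSectionVars false

/-!
Small cases of the Livingstone–Wagner theorem: `k`-homogeneous for `k = 3, 4, 5`.
-/

namespace Cfsg.Agent.Perm

open Equiv Finset
open scoped Pointwise

variable {α : Type*} [Fintype α] [DecidableEq α] {G : Subgroup (Perm α)}

theorem exists_map_set {j : ℕ} (hh : MulAction.IsPretransitive G (Set.powersetCard α j))
    {s t : Finset α} (hs : s.card = j) (ht : t.card = j) :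
    ∃ g ∈ G, ∀ z, z ∈ s ↔ g z ∈ t := by
  obtain ⟨g, hg⟩ := MulAction.exists_smul_eq G
    (⟨s, Set.powersetCard.mem_iff.mpr hs⟩ : Set.powersetCard α j)
    (⟨t, Set.powersetCard.mem_iff.mpr ht⟩ : Set.powersetCard α j)
  have e : g • s = t := congrArg Subtype.val hg
  refine ⟨g, g.2, fun z => ?_⟩
  rw [← e]
  exact (smul_mem_smul_finset_iff g).symm

/-- `3`-homogeneous of degree at least six gives `2`-transitive. -/
theorem two_transitive_of_three_homogeneous (hn : 6 ≤ Fintype.card α)
    (h1 : ∀ a b : α, ∃ g ∈ G, g a = b)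
    (hh2 : MulAction.IsPretransitive G (Set.powersetCard α 2))
    (hh3 : MulAction.IsPretransitive G (Set.powersetCard α 3)) :
    MulAction.IsMultiplyPretransitive G α 2 := by
  classical
  by_contra hno
  have noswap : ∀ a b : α, a ≠ b → ∀ g ∈ G, g a = b → g b ≠ a := by
    intro a b hab g hg hga hgb
    apply hno
    refine transitive_of_full hh2 ⟨![a, b], ?_⟩ fun π => ?_
    · intro i k h
      fin_cases i <;> fin_cases k
      · rfl
      · exact absurd h hab
      · exact absurd h.symm hab
      · rfl
    · have : π = 1 ∨ π = swap 0 1 := by revert π; decide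
      rcases this with rfl | rfl
      · exact ⟨1, one_mem _, fun i => rfl⟩
      · refine ⟨g, hg, fun i => ?_⟩
        fin_cases i
        · exact hga
        · exact hgb
  obtain ⟨p, q, hpq⟩ := Fintype.exists_pair_of_one_lt_card (α := α) (by omega)
  let R : α → α → Prop := fun a b => ∃ g ∈ G, g p = a ∧ g q = b
  have Rne : ∀ {a b}, R a b → a ≠ b := by
    rintro a b ⟨g, -, rfl, rfl⟩; exact g.injective.ne hpq
  have Rasymm : ∀ {a b}, R a b → ¬ R b a := by
    rintro a b ⟨g, hg, hga, hgb⟩ ⟨h, hh, hhb, hha⟩
    exact noswap a b (by rw [← hga, ← hgb]; exact g.injective.ne hpq) (h * g⁻¹)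
      (mul_mem hh (inv_mem hg))
      (by rw [Perm.mul_apply, Perm.inv_eq_iff_eq.mpr hga.symm, hhb])
      (by rw [Perm.mul_apply, Perm.inv_eq_iff_eq.mpr hgb.symm, hha])
  have Rtotal : ∀ {a b}, a ≠ b → R a b ∨ R b a := by
    intro a b hab
    obtain ⟨g, hg, hgs⟩ := exists_map_set hh2 (card_pair hpq) (card_pair hab)
    have hp' := (hgs p).mp (by simp)
    have hq' := (hgs q).mp (by simp)
    simp only [mem_insert, mem_singleton] at hp' hq'
    have hne := g.injective.ne hpq
    rcases hp' with e1 | e1 <;> rcases hq' with e2 | e2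
    · exact absurd (e1.trans e2.symm) hne
    · exact .inl ⟨g, hg, e1, e2⟩
    · exact .inr ⟨g, hg, e1, e2⟩
    · exact absurd (e1.trans e2.symm) hne
  have Rmap : ∀ {g : Perm α}, g ∈ G → ∀ {a b}, R a b → R (g a) (g b) := by
    rintro g hg a b ⟨h, hh, rfl, rfl⟩
    exact ⟨g * h, mul_mem hg hh, rfl, rfl⟩
  let out : α → Finset α := fun a => univ.filter (R a)
  let inn : α → Finset α := fun a => univ.filter fun b => R b a
  have hout : ∀ a b, (out a).card = (out b).card := by
    intro a b
    obtain ⟨g, hg, hgab⟩ := h1 a b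
    refine card_equiv g fun z => ?_
    simp only [out, mem_filter, mem_univ, true_and]
    refine ⟨fun h => hgab ▸ Rmap hg h, fun h => ?_⟩
    have := Rmap (inv_mem hg) h
    simpa [← hgab] using this
  have hsplit : ∀ a, (out a).card + (inn a).card + 1 = Fintype.card α := by
    intro a
    have hd : Disjoint (out a) (inn a) := by
      rw [disjoint_left]
      simp only [out, inn, mem_filter, mem_univ, true_and]
      exact fun z => Rasymm
    have hu : out a ∪ inn a = univ.erase a := by
      ext z
      simp only [out, inn, mem_union, mem_filter, mem_univ, true_and, mem_erase, and_true]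
      exact ⟨fun h => h.elim (fun h => (Rne h).symm) Rne, fun h => Rtotal (Ne.symm h)⟩
    rw [← card_union_of_disjoint hd, hu, card_erase_of_mem (mem_univ a), card_univ]
    omega
  have hsum : ∑ a, (out a).card = ∑ a, (inn a).card := by
    simp only [out, inn, card_filter]
    exact sum_comm
  obtain ⟨a⟩ : Nonempty α := ⟨p⟩
  set d := (out a).card with hd
  have hdd : 2 * d + 1 = Fintype.card α := by
    have e1 : ∑ b, (out b).card = Fintype.card α * d := by
      rw [sum_congr rfl fun b _ => hout b a, sum_const, card_univ, smul_eq_mul]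
    have e2 : ∑ b, ((out b).card + (inn b).card + 1) = Fintype.card α * Fintype.card α := by
      rw [sum_congr rfl fun b _ => hsplit b, sum_const, card_univ, smul_eq_mul]
    rw [sum_add_distrib, sum_add_distrib, ← hsum, e1, sum_const, card_univ, smul_eq_mul,
      mul_one] at e2
    refine Nat.eq_of_mul_eq_mul_left (show 0 < Fintype.card α by omega) ?_
    rw [← e2]; ring
  -- a transitive triple and a cyclic triple
  obtain ⟨b, hb, c, hc, hbc⟩ := one_lt_card.mp (show 1 < (out a).card by omega)
  simp only [out, mem_filter, mem_univ, true_and] at hb hc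
  have hcyc : ∃ c', R b c' ∧ R c' a := by
    by_contra h
    push Not at h
    have hsub : insert b (out b) ⊆ out a := by
      intro z hz
      simp only [out, mem_insert, mem_filter, mem_univ, true_and] at hz ⊢
      rcases hz with rfl | hz
      · exact hb
      · exact (Rtotal (a := a) (b := z) fun e => Rasymm hb (by rw [e]; exact hz)).resolve_right (h z hz)
    have := card_le_card hsub
    rw [card_insert_of_notMem (by simpa [out] using fun h => Rne h rfl), hout b a] at this
    omega
  obtain ⟨c', hbc', hc'a⟩ := hcyc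
  obtain ⟨g, hg, hgs⟩ := exists_map_set hh3
    (show ({a, b, c} : Finset α).card = 3 from card_eq_three.mpr ⟨a, b, c, Rne hb, Rne hc, hbc, rfl⟩)
    (show ({a, b, c'} : Finset α).card = 3 from
      card_eq_three.mpr ⟨a, b, c', Rne hb, (Rne hc'a).symm, Rne hbc', rfl⟩)
  have ga := Rmap hg hb
  have gc := Rmap hg hc
  have ha' := (hgs a).mp (by simp)
  have hb' := (hgs b).mp (by simp)
  have hc' := (hgs c).mp (by simp)
  simp only [mem_insert, mem_singleton] at ha' hb' hc'
  have hne := g.injective.ne hbc
  rcases ha' with e | e | e <;> rw [e] at ga gc <;>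
    rcases hb' with e1 | e1 | e1 <;> rw [e1] at ga hne <;>
    rcases hc' with e2 | e2 | e2 <;> rw [e2] at gc hne <;>
    first
      | exact absurd rfl hne
      | exact absurd rfl (Rne ga)
      | exact absurd rfl (Rne gc)
      | exact Rasymm hb ga
      | exact Rasymm hb gc
      | exact Rasymm hbc' ga
      | exact Rasymm hbc' gc
      | exact Rasymm hc'a ga
      | exact Rasymm hc'a gc

/-- An orientation of the `j`-tuples invariant under an odd-free homogeneous group, extended by
zero to all maps. -/
theorem exists_orientation {j : ℕ} (hev : OddFree G j)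
    (hh : MulAction.IsPretransitive G (Set.powersetCard α j)) :
    ∃ c : (Fin j → α) → ℤ, (∀ v, Function.Injective v → c v = 1 ∨ c v = -1) ∧
      (∀ v, ¬ Function.Injective v → c v = 0) ∧
      (∀ v (π : Perm (Fin j)), c (v ∘ π) = Perm.sign π * c v) ∧
      (∀ g ∈ G, ∀ v, c (g ∘ v) = c v) := by
  classical
  by_cases hne : Nonempty (Fin j ↪ α)
  swap
  · have hni : ∀ v : Fin j → α, ¬ Function.Injective v := fun v hv => hne ⟨⟨v, hv⟩⟩
    exact ⟨fun _ => 0, fun v hv => absurd hv (hni v), fun _ _ => rfl, fun _ _ => by simp,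
      fun _ _ _ => rfl⟩
  obtain ⟨x₀⟩ := hne
  have hex : ∀ x : Fin j ↪ α, ∃ π : Perm (Fin j), ∃ g ∈ G, ∀ i, g (x₀ i) = x (π i) := by
    intro x
    obtain ⟨g, hg, hgs⟩ := exists_map_set hh (s := univ.map x₀) (t := univ.map x)
      (by simp) (by simp)
    have : ∀ i, ∃ l, g (x₀ i) = x l := fun i => by
      obtain ⟨l, -, hl⟩ := mem_map.mp ((hgs (x₀ i)).mp (mem_map_of_mem x₀ (mem_univ i)))
      exact ⟨l, hl.symm⟩
    choose σ hσ using this
    have hinj : Function.Injective σ := fun a b e => x₀.injective (g.injective (by rw [hσ, hσ, e]))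
    exact ⟨Equiv.ofBijective σ (Finite.injective_iff_bijective.mp hinj), g, hg, hσ⟩
  choose ρ hρ using hex
  have huniq : ∀ (x : Fin j ↪ α) (π : Perm (Fin j)), ∀ g ∈ G, (∀ i, g (x₀ i) = x (π i)) →
      Perm.sign (ρ x) = Perm.sign π := by
    intro x π g hg hgx
    obtain ⟨h, hh', hhx⟩ := hρ x
    have := hev x (h * g⁻¹) (mul_mem hh' (inv_mem hg)) (ρ x * π⁻¹) fun i => by
      have : g⁻¹ (x i) = x₀ (π⁻¹ i) := by rw [Perm.inv_eq_iff_eq, hgx]; simp
      rw [Perm.mul_apply, this, hhx]; rfl
    rw [map_mul, map_inv, mul_inv_eq_one] at this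
    exact this
  refine ⟨fun v => if h : Function.Injective v then (Perm.sign (ρ ⟨v, h⟩) : ℤ) else 0,
    fun v hv => ?_, fun v hv => dif_neg hv, fun v π => ?_, fun g hg v => ?_⟩ <;> dsimp only
  · rw [dif_pos hv]
    rcases Int.units_eq_one_or (Perm.sign (ρ ⟨v, hv⟩)) with h | h <;> simp [h]
  · by_cases hv : Function.Injective v
    · rw [dif_pos hv, dif_pos (hv.comp π.injective)]
      obtain ⟨g, hg, hgx⟩ := hρ ⟨v, hv⟩
      rw [huniq ⟨v ∘ π, hv.comp π.injective⟩ (π⁻¹ * ρ ⟨v, hv⟩) g hg fun i => by
        rw [hgx]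
        show v (ρ ⟨v, hv⟩ i) = v (π (π⁻¹ (ρ ⟨v, hv⟩ i)))
        simp]
      rw [map_mul, map_inv, Int.units_inv_eq_self, Units.val_mul]
    · rw [dif_neg hv, dif_neg fun h => hv ((Function.Injective.of_comp_iff' v π.bijective).mp h),
        mul_zero]
  · by_cases hv : Function.Injective v
    · rw [dif_pos hv, dif_pos (g.injective.comp hv)]
      obtain ⟨h, hh', hhx⟩ := hρ ⟨v, hv⟩
      rw [huniq ⟨g ∘ v, g.injective.comp hv⟩ (ρ ⟨v, hv⟩) (g * h) (mul_mem hg hh') fun i => by
        rw [Perm.mul_apply, hhx]; rfl]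
    · rw [dif_neg hv, dif_neg fun h => hv (Function.Injective.of_comp h)]

theorem sum_update_eq_zero {j : ℕ} (hj : 3 ≤ j)
    (hT : MulAction.IsMultiplyPretransitive G α (j - 1)) {c : (Fin j → α) → ℤ}
    (h0 : ∀ v, ¬ Function.Injective v → c v = 0)
    (hsgn : ∀ v (π : Perm (Fin j)), c (v ∘ π) = Perm.sign π * c v)
    (hinv : ∀ g ∈ G, ∀ v, c (g ∘ v) = c v) (w : Fin j → α) (i0 : Fin j) :
    ∑ a, c (Function.update w i0 a) = 0 := by
  classical
  by_cases hinj : Function.Injective fun i : {i // i ≠ i0} => w i
  swap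
  · refine sum_eq_zero fun a _ => h0 _ fun h => hinj fun p q e => ?_
    refine Subtype.ext (h ?_)
    rw [Function.update_of_ne p.2, Function.update_of_ne q.2]
    exact e
  obtain ⟨p, hp, q, hq, hpq⟩ := one_lt_card.mp
    (show 1 < ({i0} : Finset (Fin j))ᶜ.card by rw [card_compl, card_singleton, Fintype.card_fin]; omega)
  simp only [mem_compl, mem_singleton] at hp hq
  have hs : swap p q i0 = i0 := swap_apply_of_ne_of_ne (Ne.symm hp) (Ne.symm hq)
  have hsne : ∀ {i}, i ≠ i0 → swap p q i ≠ i0 := fun {i} hi e => hi (by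
    rw [← swap_apply_self p q i, e, hs])
  let x : {i // i ≠ i0} ↪ α := ⟨_, hinj⟩
  let y : {i // i ≠ i0} ↪ α := ⟨fun i => w (swap p q i), fun a b e =>
    Subtype.ext ((swap p q).injective
      (congrArg Subtype.val (hinj (a₁ := ⟨swap p q a, hsne a.2⟩) (a₂ := ⟨swap p q b, hsne b.2⟩) e)))⟩
  obtain ⟨g, hg, hgx⟩ := exists_map_tuple hT (by simp [Fintype.card_subtype_compl]) x y
  have key : ∀ a, c (Function.update w i0 a) = - c (Function.update w i0 (g a)) := by
    intro a
    have e : (g : α → α) ∘ Function.update w i0 a = Function.update w i0 (g a) ∘ swap p q := by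
      funext i
      by_cases hi : i = i0
      · subst hi; simp [hs]
      · simp only [Function.comp_apply, Function.update_of_ne hi, Function.update_of_ne (hsne hi)]
        exact hgx ⟨i, hi⟩
    rw [← hinv g hg (Function.update w i0 a), e, hsgn, Perm.sign_swap hpq]
    simp
  have := Equiv.sum_comp g fun a => c (Function.update w i0 a)
  have h2 : ∑ a, c (Function.update w i0 a) = - ∑ a, c (Function.update w i0 a) := by
    conv_lhs => rw [sum_congr rfl fun a _ => key a, sum_neg_distrib, this]
  omega

/-- The Laplace identity for an odd-free homogeneous group. -/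
theorem oddFree_equation {j : ℕ} (hj : 3 ≤ j) (hn : j + 1 ≤ Fintype.card α) (hev : OddFree G j)
    (hT : MulAction.IsMultiplyPretransitive G α (j - 1))
    (hh : MulAction.IsPretransitive G (Set.powersetCard α j))
    (hh1 : MulAction.IsPretransitive G (Set.powersetCard α (j + 1))) :
    ∃ e : Fin (j + 1) → ℤ, (∀ i, e i = 1 ∨ e i = -1) ∧
      (∑ i, e i) ^ 2 * (Fintype.card α - j : ℕ) = (j + 1 : ℕ) * (Fintype.card α : ℤ) := by
  classical
  obtain ⟨c, h1, h0, hsgn, hinv⟩ := exists_orientation hev hh
  set n := Fintype.card α with hndef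
  let F : (Fin (j + 1) → α) → ℤ := fun v =>
    ∑ π : Perm (Fin (j + 1)), Perm.sign π * c ((v ∘ π) ∘ Fin.succ)
  have sq1 : ∀ u : ℤˣ, ((u : ℤ) * u) = 1 := fun u => by
    rw [← Units.val_mul, ← sq, Int.units_sq, Units.val_one]
  have hFsgn : ∀ v (π : Perm (Fin (j + 1))), F (v ∘ π) = Perm.sign π * F v := by
    intro v π
    simp only [F, mul_sum]
    refine Fintype.sum_equiv (Equiv.mulLeft π) _ _ fun σ => ?_
    simp only [coe_mulLeft, map_mul, Units.val_mul, Function.comp_assoc, Perm.coe_mul]
    rw [← mul_assoc, ← mul_assoc, sq1, one_mul]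
  have hFinv : ∀ g ∈ G, ∀ v, F (g ∘ v) = F v := fun g hg v => by
    simp only [F, Function.comp_assoc, hinv g hg]
  have hF0 : ∀ v, ¬ Function.Injective v → F v = 0 := by
    intro v hv
    rw [Function.Injective] at hv
    push Not at hv
    obtain ⟨a, b, e, hab⟩ := hv
    have h := hFsgn v (swap a b)
    have hv' : v ∘ swap a b = v := funext fun i => by
      simp only [Function.comp_apply, swap_apply_def]
      split_ifs with h1 h2 <;> simp_all
    rw [hv', Perm.sign_swap hab] at h
    simp at h
    omega
  -- the marginal sums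
  have hmarg : ∀ t : Fin j → α, ∑ a, F (Fin.cons a t) = n * j.factorial * c t := by
    intro t
    simp only [F]
    rw [sum_comm, ← Equiv.sum_comp Perm.decomposeFin.symm, Fintype.sum_prod_type,
      Fintype.sum_eq_single 0]
    · have hterm : ∀ σ : Perm (Fin j), ∀ a : α,
          (Perm.sign (Perm.decomposeFin.symm ((0 : Fin (j + 1)), σ)) : ℤ) *
            c ((Fin.cons a t ∘ Perm.decomposeFin.symm ((0 : Fin (j + 1)), σ)) ∘ Fin.succ) = c t := by
        intro σ a
        have : (Fin.cons a t ∘ Perm.decomposeFin.symm ((0 : Fin (j + 1)), σ)) ∘ Fin.succ = t ∘ σ := by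
          funext i; simp
        rw [this, hsgn, Perm.decomposeFin.symm_sign, if_pos rfl, one_mul, ← mul_assoc, sq1, one_mul]
      simp only [hterm, sum_const, card_univ, Fintype.card_perm, Fintype.card_fin, nsmul_eq_mul]
      rw [← hndef]; ring
    · intro a ha
      refine sum_eq_zero fun σ _ => ?_
      rw [← mul_sum]
      set π := Perm.decomposeFin.symm (a, σ) with hπ
      obtain ⟨i0, hi0⟩ : ∃ i0 : Fin j, π i0.succ = 0 := by
        rcases Fin.eq_zero_or_eq_succ (π⁻¹ 0) with h | ⟨i, hi⟩
        · exfalso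
          apply ha
          have h' := congrArg π h
          simp [hπ] at h'
          exact h'.symm
        · exact ⟨i, by rw [← hi]; simp⟩
      have : (∀ b, (Fin.cons b t ∘ π) ∘ Fin.succ =
          Function.update ((Fin.cons (t i0) t ∘ π) ∘ Fin.succ) i0 b) := by
        intro b
        funext i
        by_cases hi : i = i0
        · subst hi; simp [hi0]
        · rw [Function.update_of_ne hi]
          simp only [Function.comp_apply]
          obtain ⟨l, hl⟩ : ∃ l, π i.succ = Fin.succ l := by
            rcases Fin.eq_zero_or_eq_succ (π i.succ) with h | h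
            · exact absurd (Fin.succ_injective _ (π.injective (h.trans hi0.symm))) hi
            · exact h
          rw [hl, Fin.cons_succ, Fin.cons_succ]
      rw [sum_congr rfl fun b _ => congrArg c (this b), sum_update_eq_zero hj hT h0 hsgn hinv, mul_zero]
  -- the two evaluations of the sum of squares
  have hT2 : ∑ v, F v * F v = (j + 1).factorial * (n * j.factorial) * ∑ t, c t * c t := by
    have e : ∑ v, F v * F v = (j + 1).factorial * ∑ v, F v * c (v ∘ Fin.succ) := by
      calc ∑ v, F v * F v
          = ∑ v, ∑ π : Perm (Fin (j + 1)), F (v ∘ π) * c ((v ∘ π) ∘ Fin.succ) := by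
            refine sum_congr rfl fun v _ => ?_
            conv_lhs => arg 2; simp only [F]
            rw [mul_sum]
            refine sum_congr rfl fun π _ => ?_
            rw [hFsgn]; ring
        _ = ∑ _π : Perm (Fin (j + 1)), ∑ v, F v * c (v ∘ Fin.succ) := by
            rw [sum_comm]
            refine sum_congr rfl fun π _ => ?_
            exact Fintype.sum_equiv (Equiv.arrowCongr π.symm (Equiv.refl α)) _ _ fun v => rfl
        _ = _ := by
            rw [sum_const, card_univ, Fintype.card_perm, Fintype.card_fin, nsmul_eq_mul]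
    rw [e, ← (Fin.consEquiv fun _ => α).sum_comp, Fintype.sum_prod_type, sum_comm, mul_assoc]
    congr 1
    rw [mul_sum]
    refine sum_congr rfl fun t _ => ?_
    have hsucc : ∀ a, ((Fin.consEquiv fun _ => α) (a, t)) ∘ Fin.succ = t := fun a =>
      funext fun i => Fin.cons_succ (α := fun _ => α) a t i
    simp only [hsucc]
    rw [← sum_mul]
    have : ∑ a, F ((Fin.consEquiv fun _ => α) (a, t)) = n * j.factorial * c t := hmarg t
    rw [this]; ring
  -- value of `F` on injective tuples
  obtain ⟨x⟩ : Nonempty (Fin (j + 1) ↪ α) := Function.Embedding.nonempty_of_card_le (by simpa using hn)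
  let e : Fin (j + 1) → ℤ := fun a =>
    Perm.sign (Perm.decomposeFin.symm (a, (1 : Perm (Fin j)))) *
      c ((x ∘ Perm.decomposeFin.symm (a, (1 : Perm (Fin j)))) ∘ Fin.succ)
  refine ⟨e, fun a => ?_, ?_⟩
  · have hi := h1 _ ((x.injective.comp (Perm.decomposeFin.symm (a, (1 : Perm (Fin j)))).injective).comp
      (Fin.succ_injective j))
    simp only [e]
    rcases Int.units_eq_one_or (Perm.sign (Perm.decomposeFin.symm (a, (1 : Perm (Fin j))))) with h | h <;>
      rcases hi with h' | h' <;> rw [h, h'] <;> simp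
  have hFx : F x = j.factorial * ∑ a, e a := by
    simp only [F]
    rw [← Equiv.sum_comp Perm.decomposeFin.symm, Fintype.sum_prod_type, mul_sum]
    refine sum_congr rfl fun a _ => ?_
    have hterm : ∀ σ : Perm (Fin j), (Perm.sign (Perm.decomposeFin.symm (a, σ)) : ℤ) *
        c ((x ∘ Perm.decomposeFin.symm (a, σ)) ∘ Fin.succ) = e a := by
      intro σ
      have hd : (x ∘ Perm.decomposeFin.symm (a, σ)) ∘ Fin.succ =
          ((x ∘ Perm.decomposeFin.symm (a, (1 : Perm (Fin j)))) ∘ Fin.succ) ∘ σ := by
        funext i; simp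
      rw [hd, hsgn, Perm.decomposeFin.symm_sign]
      simp only [e, Perm.decomposeFin.symm_sign, Perm.sign_one, mul_one, Units.val_mul]
      rw [← mul_assoc, mul_assoc (((if a = 0 then (1 : ℤˣ) else -1) : ℤˣ) : ℤ), sq1, mul_one]
    simp only [hterm, sum_const, card_univ, Fintype.card_perm, Fintype.card_fin, nsmul_eq_mul]
  have hconst : ∀ v, Function.Injective v → F v * F v = F x * F x := by
    intro v hv
    obtain ⟨g, hg, hgs⟩ := exists_map_set hh1 (s := univ.map x) (t := univ.map ⟨v, hv⟩)
      (by simp) (by simp)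
    have : ∀ i, ∃ l, g (x i) = v l := fun i => by
      obtain ⟨l, -, hl⟩ := mem_map.mp ((hgs (x i)).mp (mem_map_of_mem x (mem_univ i)))
      exact ⟨l, hl.symm⟩
    choose σ hσ using this
    have hinj : Function.Injective σ := fun a b e => x.injective (g.injective (by rw [hσ, hσ, e]))
    have hcomp : (g : α → α) ∘ x = v ∘ Equiv.ofBijective σ (Finite.injective_iff_bijective.mp hinj) :=
      funext hσ
    have h' := hFinv g hg x
    rw [hcomp, hFsgn] at h'
    rw [← h', mul_mul_mul_comm, sq1, one_mul]
  have hL : ∑ v, F v * F v = n.descFactorial (j + 1) * (F x * F x) := by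
    rw [← sum_filter_of_ne (p := Function.Injective) (fun v _ hv => by
      by_contra h; exact hv (by rw [hF0 v h]; simp))]
    rw [sum_congr rfl fun v hv => hconst v (mem_filter.mp hv).2, sum_const, nsmul_eq_mul]
    congr 2
    rw [← Fintype.card_subtype, Fintype.card_congr (Equiv.subtypeInjectiveEquivEmbedding _ _),
      Fintype.card_embedding_eq, Fintype.card_fin]
  have hR : ∑ t, c t * c t = n.descFactorial j := by
    rw [← sum_filter_of_ne (p := Function.Injective) (fun v _ hv => by
      by_contra h; exact hv (by rw [h0 v h]; simp))]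
    rw [sum_congr rfl (g := fun _ => (1 : ℤ)) fun v hv => by
      rcases h1 v (mem_filter.mp hv).2 with h | h <;> simp [h], sum_const, nsmul_one]
    congr 1
    rw [← Fintype.card_subtype, Fintype.card_congr (Equiv.subtypeInjectiveEquivEmbedding _ _),
      Fintype.card_embedding_eq, Fintype.card_fin]
  rw [hL, hR, hFx, Nat.descFactorial_succ] at hT2
  have hfac : ((j + 1).factorial : ℤ) = (j + 1 : ℕ) * j.factorial := by
    rw [Nat.factorial_succ]; push_cast; ring
  rw [hfac] at hT2
  have hpos : (0 : ℤ) < n.descFactorial j * (j.factorial * j.factorial) := by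
    have h1 : 0 < n.descFactorial j := by
      rw [Nat.pos_iff_ne_zero, ne_eq, Nat.descFactorial_eq_zero_iff_lt]; omega
    have h2 := j.factorial_pos
    positivity
  refine mul_left_cancel₀ hpos.ne' ?_
  push_cast at hT2 ⊢
  linear_combination hT2

end Cfsg.Agent.Perm
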