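import Mathlib
import Cfsg.Agent.Perm.TupleStab
import Cfsg.Agent.Perm.SmallHomogeneous

set_option autoImplicit false
set_option linter.unusedSectionVars false

/-!
Counting invariant sets of tuples in homogeneous groups.
-/

namespace Cfsg.Agent.Perm

open Equiv Finset
open scoped Pointwise

variable {α : Type*} [Fintype α] [DecidableEq α] {G : Subgroup (Perm α)}

/-- An invariant set of injective `m`-tuples is equally distributed over the `m`-sets. -/
theorem card_eq_choose_mul_fibre {m : ℕ} (hh : MulAction.IsPretransitive G (Set.powersetCard α m))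
    (T : Finset (Fin m → α)) (hinj : ∀ v ∈ T, Function.Injective v)
    (hinv : ∀ g ∈ G, ∀ v ∈ T, g ∘ v ∈ T) {s₀ : Finset α} (hs₀ : s₀.card = m) :
    T.card = (Fintype.card α).choose m * (T.filter fun v => univ.image v = s₀).card := by
  rw [card_eq_sum_card_fiberwise (f := fun v => univ.image v)
    (t := (univ : Finset α).powersetCard m) (fun v hv => by
      rw [mem_coe] at hv ⊢
      rw [mem_powersetCard, card_image_of_injective _ (hinj v hv), card_univ, Fintype.card_fin]
      exact ⟨subset_univ _, rfl⟩)]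
  rw [sum_const_nat (m := (T.filter fun v => univ.image v = s₀).card), card_powersetCard, card_univ]
  intro s hs
  rw [mem_powersetCard] at hs
  obtain ⟨g, hg, hgs⟩ := exists_map_set hh hs.2 hs₀
  have himg : ∀ v : Fin m → α, univ.image (g ∘ v) = (univ.image v).image g := fun v => by
    rw [image_image]
  have hsimg : s.image g = s₀ := by
    refine eq_of_subset_of_card_le (fun z hz => ?_) ?_
    · obtain ⟨w, hw, rfl⟩ := mem_image.mp hz
      exact (hgs w).mp hw
    · rw [card_image_of_injective _ g.injective, hs.2, hs₀]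
  refine card_bij' (fun v _ => g ∘ v) (fun v _ => ⇑g⁻¹ ∘ v) ?_ ?_ ?_ ?_
  · intro v hv
    rw [mem_filter] at hv ⊢
    exact ⟨hinv g hg v hv.1, by rw [himg, hv.2, hsimg]⟩
  · intro v hv
    rw [mem_filter] at hv ⊢
    refine ⟨hinv _ (inv_mem hg) v hv.1, ?_⟩
    have : univ.image (⇑g⁻¹ ∘ v) = (univ.image v).image ⇑g⁻¹ := by rw [image_image]
    rw [this, hv.2, ← hsimg, image_image]
    simp
  · intro v _; funext i; simp
  · intro v _; funext i; simp

/-- A set with an involution exchanging `p` and its negation has twice the number of `p`. -/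
theorem card_eq_two_mul_filter {β : Type*} [DecidableEq β] (T : Finset β) (σ : β → β)
    (p : β → Prop) [DecidablePred p] (hσ : ∀ v ∈ T, σ v ∈ T) (h2 : ∀ v, σ (σ v) = v)
    (hp : ∀ v ∈ T, p (σ v) ↔ ¬ p v) : T.card = 2 * (T.filter p).card := by
  have h := card_filter_add_card_filter_not (s := T) p
  have : (T.filter fun v => ¬ p v).card = (T.filter p).card := by
    refine card_bij' (fun v _ => σ v) (fun v _ => σ v) ?_ ?_ (fun v _ => h2 v) (fun v _ => h2 v)
    · intro v hv; rw [mem_filter] at hv ⊢; exact ⟨hσ v hv.1, (hp v hv.1).mpr hv.2⟩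
    · intro v hv; rw [mem_filter] at hv ⊢; exact ⟨hσ v hv.1, fun h => (hp v hv.1).mp h hv.2⟩
  omega

/-- A set of injective tuples closed under two disjoint transpositions of positions has fibres
divisible by four. -/
theorem four_dvd_fibre {m : ℕ} (T : Finset (Fin m → α)) (hinj : ∀ v ∈ T, Function.Injective v)
    {a b c d : Fin m} (hab : a ≠ b) (hcd : c ≠ d) (hac : a ≠ c) (had : a ≠ d) (hbc : b ≠ c)
    (hbd : b ≠ d) (h1 : ∀ v ∈ T, v ∘ swap a b ∈ T) (h2 : ∀ v ∈ T, v ∘ swap c d ∈ T)
    (s₀ : Finset α) : 4 ∣ (T.filter fun v => univ.image v = s₀).card := by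
  classical
  let _ : LinearOrder α := LinearOrder.lift' (Fintype.equivFin α) (Equiv.injective _)
  set S := T.filter fun v => univ.image v = s₀ with hS
  have himg : ∀ (v : Fin m → α) (σ : Perm (Fin m)), univ.image (v ∘ σ) = univ.image v := fun v σ => by
    ext z
    simp only [mem_image, mem_univ, true_and, Function.comp_apply]
    exact ⟨fun ⟨i, hi⟩ => ⟨σ i, hi⟩, fun ⟨i, hi⟩ => ⟨σ⁻¹ i, by simp [← hi]⟩⟩
  have hmem : ∀ {σ : Perm (Fin m)}, (∀ v ∈ T, v ∘ σ ∈ T) → ∀ v ∈ S, v ∘ σ ∈ S := by
    intro σ h v hv
    rw [hS, mem_filter] at hv ⊢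
    exact ⟨h v hv.1, by rw [himg, hv.2]⟩
  have hflip : ∀ {x y : Fin m}, x ≠ y → ∀ v ∈ S, ((v ∘ swap x y) x < (v ∘ swap x y) y) ↔ ¬ v x < v y := by
    intro x y hxy v hv
    simp only [Function.comp_apply, swap_apply_left, swap_apply_right, not_lt]
    exact ⟨le_of_lt, fun h => lt_of_le_of_ne h fun e => hxy ((hinj v (mem_filter.mp hv).1) e).symm⟩
  rw [card_eq_two_mul_filter S (· ∘ swap a b) (fun v => v a < v b) (hmem h1)
    (fun v => by funext i; simp) (hflip hab)]
  rw [card_eq_two_mul_filter (S.filter fun v => v a < v b) (· ∘ swap c d) (fun v => v c < v d)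
    (fun v hv => by
      rw [mem_filter] at hv ⊢
      refine ⟨hmem h2 v hv.1, ?_⟩
      simpa [swap_apply_of_ne_of_ne hac had, swap_apply_of_ne_of_ne hbc hbd] using hv.2)
    (fun v => by funext i; simp) (fun v hv => hflip hcd v (mem_filter.mp hv).1)]
  exact ⟨_, by ring⟩

theorem two_dvd_fibre {m : ℕ} (T : Finset (Fin m → α)) (hinj : ∀ v ∈ T, Function.Injective v)
    {a b : Fin m} (hab : a ≠ b) (h1 : ∀ v ∈ T, v ∘ swap a b ∈ T)
    (s₀ : Finset α) : 2 ∣ (T.filter fun v => univ.image v = s₀).card := by
  classical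
  let _ : LinearOrder α := LinearOrder.lift' (Fintype.equivFin α) (Equiv.injective _)
  refine ⟨_, card_eq_two_mul_filter _ (· ∘ swap a b) (fun v => v a < v b) (fun v hv => ?_)
    (fun v => by funext i; simp) fun v hv => ?_⟩
  · rw [mem_filter] at hv ⊢
    refine ⟨h1 v hv.1, ?_⟩
    rw [← hv.2]
    ext z
    simp only [mem_image, mem_univ, true_and, Function.comp_apply]
    exact ⟨fun ⟨i, hi⟩ => ⟨_, hi⟩, fun ⟨i, hi⟩ => ⟨swap a b i, by simp [← hi]⟩⟩
  · simp only [Function.comp_apply, swap_apply_left, swap_apply_right, not_lt]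
    exact ⟨le_of_lt, fun h => lt_of_le_of_ne h fun e => hab ((hinj v (mem_filter.mp hv).1) e).symm⟩

/-- The number of pairs of completions of a tuple by a binary relation with constant fibres. -/
theorem card_pairs {m : ℕ} (P : (Fin (m + 1) → α) → Prop) [DecidablePred P] (u : ℕ)
    (hP : ∀ v, P v → Function.Injective v)
    (hu : ∀ t : Fin m → α, Function.Injective t → (univ.filter fun d => P (Fin.snoc t d)).card = u) :
    (univ.filter fun v : Fin (m + 2) → α => P (Fin.init v) ∧
        P (Fin.snoc (Fin.init (Fin.init v)) (v (Fin.last _))) ∧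
        v (Fin.last _) ≠ Fin.init v (Fin.last _)).card =
      (Fintype.card α).descFactorial m * (u * (u - 1)) := by
  classical
  let U : (Fin m → α) → Finset α := fun t => univ.filter fun d => P (Fin.snoc t d)
  let S : Finset ((_ : Fin m → α) × (α × α)) :=
    (univ.filter fun t : Fin m → α => Function.Injective t).sigma fun t => (U t).offDiag
  have hS : S.card = (Fintype.card α).descFactorial m * (u * (u - 1)) := by
    rw [card_sigma, sum_const_nat (m := u * (u - 1)), ← Fintype.card_subtype,
      Fintype.card_congr (Equiv.subtypeInjectiveEquivEmbedding _ _), Fintype.card_embedding_eq,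
      Fintype.card_fin]
    intro t ht
    rw [offDiag_card, hu t (mem_filter.mp ht).2, Nat.mul_sub_one]
  rw [← hS]
  refine card_bij' (fun v _ => ⟨Fin.init (Fin.init v), (Fin.init v (Fin.last _), v (Fin.last _))⟩)
    (fun p _ => Fin.snoc (Fin.snoc p.1 p.2.1) p.2.2) ?_ ?_ ?_ ?_
  · intro v hv
    simp only [mem_filter, mem_univ, true_and] at hv
    obtain ⟨h1, h2, h3⟩ := hv
    simp only [S, U, mem_sigma, mem_filter, mem_univ, true_and, mem_offDiag]
    refine ⟨?_, ?_, h2, h3.symm⟩
    · have := hP _ h1
      exact fun a b e => Fin.castSucc_injective _ (this (a₁ := a.castSucc) (a₂ := b.castSucc) e)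
    · rwa [Fin.snoc_init_self]
  · rintro ⟨t, d, e⟩ hp
    simp only [S, U, mem_sigma, mem_filter, mem_univ, true_and, mem_offDiag] at hp
    simp only [mem_filter, mem_univ, true_and, Fin.init_snoc, Fin.snoc_last]
    exact ⟨hp.2.1, hp.2.2.1, hp.2.2.2.symm⟩
  · intro v _
    simp only [Fin.snoc_init_self]
  · rintro ⟨t, d, e⟩ _
    simp only [Fin.init_snoc, Fin.snoc_last]

/-- Rotating the positions of an invariant pattern does not change its count. -/
theorem sum_completions_eq {m : ℕ} (P Q : (Fin (m + 1) → α) → Prop) [DecidablePred P] [DecidablePred Q]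
    (ρ : Perm (Fin (m + 1))) (hPQ : ∀ v, Q v ↔ P (v ∘ ρ)) (hP : ∀ v, P v → Function.Injective v)
    {u w : ℕ}
    (hu : ∀ t : Fin m → α, Function.Injective t → (univ.filter fun d => P (Fin.snoc t d)).card = u)
    (hw : ∀ t : Fin m → α, Function.Injective t → (univ.filter fun d => Q (Fin.snoc t d)).card = w)
    (hm : m ≤ Fintype.card α) : u = w := by
  classical
  have hQ : ∀ v, Q v → Function.Injective v := fun v hv =>
    (Function.Injective.of_comp_iff' v ρ.bijective).mp (hP _ ((hPQ v).mp hv))
  have key : ∀ (R : (Fin (m + 1) → α) → Prop) [DecidablePred R], (∀ v, R v → Function.Injective v) →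
      ∀ {r : ℕ}, (∀ t : Fin m → α, Function.Injective t →
        (univ.filter fun d => R (Fin.snoc t d)).card = r) →
      (univ.filter R).card = (Fintype.card α).descFactorial m * r := by
    intro R _ hR r hr
    let S : Finset ((_ : Fin m → α) × α) :=
      (univ.filter fun t : Fin m → α => Function.Injective t).sigma
        fun t => univ.filter fun d => R (Fin.snoc t d)
    have hS : S.card = (Fintype.card α).descFactorial m * r := by
      rw [card_sigma, sum_const_nat (m := r), ← Fintype.card_subtype,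
        Fintype.card_congr (Equiv.subtypeInjectiveEquivEmbedding _ _), Fintype.card_embedding_eq,
        Fintype.card_fin]
      exact fun t ht => hr t (mem_filter.mp ht).2
    rw [← hS]
    refine card_bij' (fun v _ => ⟨Fin.init v, v (Fin.last _)⟩) (fun p _ => Fin.snoc p.1 p.2) ?_ ?_ ?_ ?_
    · intro v hv
      simp only [mem_filter, mem_univ, true_and] at hv
      simp only [S, mem_sigma, mem_filter, mem_univ, true_and, Fin.snoc_init_self]
      exact ⟨fun a b e => Fin.castSucc_injective _ (hR v hv e), hv⟩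
    · rintro ⟨t, d⟩ hp
      simp only [S, mem_sigma, mem_filter, mem_univ, true_and] at hp
      simp only [mem_filter, mem_univ, true_and]
      exact hp.2
    · intro v _; exact Fin.snoc_init_self v
    · rintro ⟨t, d⟩ _; simp only [Fin.init_snoc, Fin.snoc_last]
  have h1 := key P hP hu
  have h2 := key Q hQ hw
  have : (univ.filter P).card = (univ.filter Q).card := by
    refine card_bij' (fun v _ => v ∘ ρ.symm) (fun v _ => v ∘ ρ) ?_ ?_ ?_ ?_
    · intro v hv
      simp only [mem_filter, mem_univ, true_and] at hv ⊢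
      rw [hPQ, Function.comp_assoc, Equiv.symm_comp_self, Function.comp_id]; exact hv
    · intro v hv
      simp only [mem_filter, mem_univ, true_and] at hv ⊢
      exact (hPQ v).mp hv
    · intro v _; funext i; simp
    · intro v _; funext i; simp
  rw [h1, h2] at this
  refine Nat.eq_of_mul_eq_mul_left ?_ this
  rw [Nat.pos_iff_ne_zero, ne_eq, Nat.descFactorial_eq_zero_iff_lt]
  omega

end Cfsg.Agent.Perm
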