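import Mathlib
import Cfsg.Agent.Perm.TupleStab
import Cfsg.Agent.Perm.OddFree
import Cfsg.Agent.Perm.SmallHomogeneous
import Cfsg.Agent.Perm.PatternCount

set_option autoImplicit false
set_option linter.unusedSectionVars false

/-!
Invariant patterns (distinguished point, distinguished pairing) in small homogeneous groups.
-/

namespace Cfsg.Agent.Perm

open Equiv Finset
open scoped Pointwise

variable {α : Type*} [Fintype α] [DecidableEq α] {G : Subgroup (Perm α)}

/-- The permutations induced on a tuple. -/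
def tupleGrp (G : Subgroup (Perm α)) {j : ℕ} (x : Fin j → α) : Subgroup (Perm (Fin j)) where
  carrier := {π | ∃ g ∈ G, ∀ i, g (x i) = x (π i)}
  one_mem' := ⟨1, one_mem _, fun _ => rfl⟩
  mul_mem' := by
    rintro a b ⟨g, hg, hga⟩ ⟨h, hh, hhb⟩
    exact ⟨g * h, mul_mem hg hh, fun i => by simp [hhb, hga]⟩
  inv_mem' := by
    rintro a ⟨g, hg, hga⟩
    refine ⟨g⁻¹, inv_mem hg, fun i => ?_⟩
    rw [Perm.inv_eq_iff_eq, hga]
    simp

theorem mem_tupleGrp {j : ℕ} {x : Fin j → α} {π : Perm (Fin j)} :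
    π ∈ tupleGrp G x ↔ ∃ g ∈ G, ∀ i, g (x i) = x (π i) := Iff.rfl

theorem mem_tupleGrp_comp {j : ℕ} {x : Fin j → α} {π σ : Perm (Fin j)} :
    π ∈ tupleGrp G (x ∘ σ) ↔ σ * π * σ⁻¹ ∈ tupleGrp G x := by
  simp only [mem_tupleGrp, Function.comp_apply]
  constructor
  · rintro ⟨g, hg, h⟩
    exact ⟨g, hg, fun i => by simpa [Perm.mul_apply] using h (σ⁻¹ i)⟩
  · rintro ⟨g, hg, h⟩
    exact ⟨g, hg, fun i => by simpa [Perm.mul_apply] using h (σ i)⟩

theorem mem_tupleGrp_smul {j : ℕ} {x : Fin j → α} {π : Perm (Fin j)} {g : Perm α} (hg : g ∈ G) :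
    π ∈ tupleGrp G (g ∘ x) ↔ π ∈ tupleGrp G x := by
  simp only [mem_tupleGrp, Function.comp_apply]
  constructor
  · rintro ⟨h, hh, e⟩
    refine ⟨g⁻¹ * h * g, mul_mem (mul_mem (inv_mem hg) hh) hg, fun i => ?_⟩
    rw [Perm.mul_apply, Perm.mul_apply, Perm.inv_eq_iff_eq, e]
  · rintro ⟨h, hh, e⟩
    refine ⟨g * h * g⁻¹, mul_mem (mul_mem hg hh) (inv_mem hg), fun i => ?_⟩
    simp [Perm.mul_apply, e]

/-- If `G` is not `j`-transitive, no tuple has the full symmetric group induced. -/
theorem tupleGrp_ne_top {j : ℕ} (hh : MulAction.IsPretransitive G (Set.powersetCard α j))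
    (hno : ¬ MulAction.IsMultiplyPretransitive G α j) {x : Fin j → α} (hx : Function.Injective x) :
    tupleGrp G x ≠ ⊤ := fun h => hno (transitive_of_full hh ⟨x, hx⟩ fun π => by
      have : π ∈ tupleGrp G x := by rw [h]; trivial
      exact this)

/-- Any two tuples are related by an element of `G` and a permutation. -/
theorem exists_rel_tuple {j : ℕ} (hh : MulAction.IsPretransitive G (Set.powersetCard α j))
    {x v : Fin j → α} (hx : Function.Injective x) (hv : Function.Injective v) :
    ∃ g ∈ G, ∃ σ : Perm (Fin j), g ∘ x = v ∘ σ := by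
  obtain ⟨g, hg, hgs⟩ := exists_map_set hh (s := univ.map ⟨x, hx⟩) (t := univ.map ⟨v, hv⟩)
    (by simp) (by simp)
  have : ∀ i, ∃ l, g (x i) = v l := fun i => by
    obtain ⟨l, -, hl⟩ := mem_map.mp ((hgs (x i)).mp (mem_map_of_mem ⟨x, hx⟩ (mem_univ i)))
    exact ⟨l, hl.symm⟩
  choose σ hσ using this
  have hinj : Function.Injective σ := fun a b e => hx (g.injective (by rw [hσ, hσ, e]))
  exact ⟨g, hg, Equiv.ofBijective σ (Finite.injective_iff_bijective.mp hinj), funext hσ⟩

/-- Completions of an `m`-tuple by an invariant predicate are equinumerous. -/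
theorem exists_completion_card {m : ℕ} (hT : MulAction.IsMultiplyPretransitive G α m)
    (P : (Fin (m + 1) → α) → Prop) [DecidablePred P]
    (hinv : ∀ g ∈ G, ∀ v, P v → P (g ∘ v)) :
    ∃ u, ∀ t : Fin m → α, Function.Injective t →
      (univ.filter fun d => P (Fin.snoc t d)).card = u := by
  by_cases h : ∃ t : Fin m → α, Function.Injective t
  swap
  · exact ⟨0, fun t ht => absurd ⟨t, ht⟩ h⟩
  obtain ⟨t₀, ht₀⟩ := h
  refine ⟨(univ.filter fun d => P (Fin.snoc t₀ d)).card, fun t ht => ?_⟩
  obtain ⟨g, hg, hgt⟩ := exists_map_tuple hT (Fintype.card_fin m) ⟨t, ht⟩ ⟨t₀, ht₀⟩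
  have he : ∀ d, (g : α → α) ∘ Fin.snoc t d = Fin.snoc t₀ (g d) := fun d => by
    rw [Fin.comp_snoc]
    congr 1
    exact funext hgt
  refine card_equiv g fun d => ?_
  simp only [mem_filter, mem_univ, true_and]
  refine ⟨fun h => he d ▸ hinv g hg _ h, fun h => ?_⟩
  have := hinv g⁻¹ (inv_mem hg) _ (he d ▸ h)
  rw [← Function.comp_assoc] at this
  simpa using this

/-- The `r` rotations of a pattern share the points outside an `m`-tuple equally. -/
theorem mul_completion_eq {m r : ℕ} (hT : MulAction.IsMultiplyPretransitive G α m)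
    (hm : m ≤ Fintype.card α) (P : (Fin (m + 1) → α) → Prop) [DecidablePred P]
    (hinv : ∀ g ∈ G, ∀ v, P v → P (g ∘ v)) (hP : ∀ v, P v → Function.Injective v)
    (ρ : Fin r → Perm (Fin (m + 1)))
    (hex : ∀ v, Function.Injective v → ∃! i, P (v ∘ ρ i)) :
    ∃ u, r * u = Fintype.card α - m ∧ ∀ t : Fin m → α, Function.Injective t →
      (univ.filter fun d => P (Fin.snoc t d)).card = u := by
  classical
  obtain ⟨u, hu⟩ := exists_completion_card hT P hinv
  refine ⟨u, ?_, hu⟩
  obtain ⟨x⟩ : Nonempty (Fin m ↪ α) := Function.Embedding.nonempty_of_card_le (by simpa using hm)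
  have hi : ∀ i, (univ.filter fun d => P (Fin.snoc (⇑x) d ∘ ρ i)).card = u := by
    intro i
    obtain ⟨w, hw⟩ := exists_completion_card hT (fun v => P (v ∘ ρ i)) fun g hg v hv =>
      hinv g hg _ hv
    rw [sum_completions_eq P (fun v => P (v ∘ ρ i)) (ρ i) (fun v => Iff.rfl) hP hu hw hm]
    exact hw x x.injective
  have hsn : ∀ d, d ∉ univ.map x → Function.Injective (Fin.snoc (⇑x) d : Fin (m + 1) → α) := fun d hd => by
    rw [Fin.snoc_injective_iff]
    exact ⟨x.injective, by simpa using hd⟩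
  have hcard : ((univ.map x)ᶜ : Finset α).card = Fintype.card α - m := by
    rw [card_compl, card_map, card_univ, Fintype.card_fin]
  rw [← hcard]
  have hcover : (univ.map x)ᶜ = (univ : Finset (Fin r)).biUnion
      fun i => univ.filter fun d => P (Fin.snoc (⇑x) d ∘ ρ i) := by
    ext d
    simp only [mem_biUnion, mem_univ, true_and, mem_filter, mem_compl]
    constructor
    · intro hd
      exact (hex _ (hsn d hd)).exists
    · rintro ⟨i, hi⟩ hd
      have h1 := (Function.Injective.of_comp_iff' _ (ρ i).bijective).mp (hP _ hi)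
      rw [Fin.snoc_injective_iff] at h1
      obtain ⟨l, -, hl⟩ := mem_map.mp hd
      exact h1.2 ⟨l, hl⟩
  rw [hcover, card_biUnion, sum_congr rfl fun i _ => hi i, sum_const, card_univ, Fintype.card_fin,
    smul_eq_mul]
  intro i _ l _ hil
  rw [Function.onFun, disjoint_left]
  intro d hd hd'
  simp only [mem_filter, mem_univ, true_and] at hd hd'
  exact hil ((hex _ ((Function.Injective.of_comp_iff' _ (ρ i).bijective).mp (hP _ hd))).unique hd hd')

/-- The set of pairs of completions of a common initial tuple. -/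
noncomputable def pairSet {m : ℕ} (P : (Fin (m + 1) → α) → Prop) : Finset (Fin (m + 2) → α) :=
  open Classical in
  univ.filter fun v => P (Fin.init v) ∧
    P (Fin.snoc (Fin.init (Fin.init v)) (v (Fin.last _))) ∧
    v (Fin.last _) ≠ Fin.init v (Fin.last _)

section PairSet

variable {m : ℕ} {P : (Fin (m + 1) → α) → Prop}

theorem mem_pairSet {v : Fin (m + 2) → α} : v ∈ pairSet P ↔ P (Fin.init v) ∧
    P (Fin.snoc (Fin.init (Fin.init v)) (v (Fin.last _))) ∧
    v (Fin.last _) ≠ Fin.init v (Fin.last _) := by simp [pairSet]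

theorem pairSet_injective (hP : ∀ v, P v → Function.Injective v) :
    ∀ v ∈ pairSet P, Function.Injective v := by
  intro v hv
  obtain ⟨h1, h2, h3⟩ := mem_pairSet.mp hv
  have i2 := hP _ h2
  rw [Fin.snoc_injective_iff] at i2
  rw [← Fin.snoc_init_self v, Fin.snoc_injective_iff]
  refine ⟨hP _ h1, fun ⟨i, hi⟩ => ?_⟩
  induction i using Fin.lastCases with
  | last => exact h3 hi.symm
  | cast i => exact i2.2 ⟨i, hi⟩

theorem pairSet_inv (hinv : ∀ g ∈ G, ∀ v, P v → P (g ∘ v)) :
    ∀ g ∈ G, ∀ v ∈ pairSet P, g ∘ v ∈ pairSet P := by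
  intro g hg v hv
  obtain ⟨h1, h2, h3⟩ := mem_pairSet.mp hv
  refine mem_pairSet.mpr ⟨hinv g hg _ h1, ?_, g.injective.ne h3⟩
  have : Fin.snoc (Fin.init (Fin.init (g ∘ v))) ((g ∘ v) (Fin.last _)) =
      g ∘ Fin.snoc (Fin.init (Fin.init v)) (v (Fin.last _)) := by
    rw [Fin.comp_snoc]; rfl
  rw [this]
  exact hinv g hg _ h2

theorem pairSet_swap_last :
    ∀ v ∈ pairSet P, v ∘ swap (Fin.last m).castSucc (Fin.last (m + 1)) ∈ pairSet P := by
  intro v hv
  obtain ⟨h1, h2, h3⟩ := mem_pairSet.mp hv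
  set w := v ∘ swap (Fin.last m).castSucc (Fin.last (m + 1))
  have e1 : Fin.init (Fin.init w) = Fin.init (Fin.init v) := by
    funext i
    show v (swap _ _ i.castSucc.castSucc) = _
    rw [swap_apply_of_ne_of_ne (by simp [Fin.ext_iff]; omega) (by simp [Fin.ext_iff]; omega)]
    rfl
  have e2 : w (Fin.last _) = Fin.init v (Fin.last _) := by simp [w, Fin.init]
  have e3 : Fin.init w (Fin.last _) = v (Fin.last _) := by simp [w, Fin.init]
  refine mem_pairSet.mpr ⟨?_, ?_, by rw [e2, e3]; exact h3.symm⟩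
  · rw [← Fin.snoc_init_self (Fin.init w), e1, e3]; exact h2
  · rw [e1, e2, Fin.snoc_init_self]; exact h1

theorem pairSet_swap {a b : Fin m}
    (hsymm : ∀ v, P v → P (v ∘ swap a.castSucc b.castSucc)) :
    ∀ v ∈ pairSet P, v ∘ swap a.castSucc.castSucc b.castSucc.castSucc ∈ pairSet P := by
  intro v hv
  obtain ⟨h1, h2, h3⟩ := mem_pairSet.mp hv
  set w := v ∘ swap a.castSucc.castSucc b.castSucc.castSucc
  have e0 : Fin.init w = Fin.init v ∘ swap a.castSucc b.castSucc := by
    funext i
    show v (swap _ _ i.castSucc) = v (swap a.castSucc b.castSucc i).castSucc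
    rw [(Fin.castSucc_injective _).swap_apply]
  have e2 : w (Fin.last _) = v (Fin.last _) := by
    show v (swap _ _ (Fin.last _)) = _
    rw [swap_apply_of_ne_of_ne (by simp [Fin.ext_iff]; omega) (by simp [Fin.ext_iff]; omega)]
  refine mem_pairSet.mpr ⟨?_, ?_, ?_⟩
  · rw [e0]; exact hsymm _ h1
  · have e1 : Fin.snoc (Fin.init (Fin.init w)) (w (Fin.last _)) =
        Fin.snoc (Fin.init (Fin.init v)) (v (Fin.last _)) ∘ swap a.castSucc b.castSucc := by
      funext i
      induction i using Fin.lastCases with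
      | last =>
        rw [Fin.snoc_last, Function.comp_apply, swap_apply_of_ne_of_ne
          (Fin.castSucc_ne_last a).symm (Fin.castSucc_ne_last b).symm, Fin.snoc_last, e2]
      | cast i =>
        rw [Fin.snoc_castSucc, Function.comp_apply, (Fin.castSucc_injective _).swap_apply,
          Fin.snoc_castSucc, e0]
        show Fin.init v (swap a.castSucc b.castSucc i.castSucc) = _
        rw [(Fin.castSucc_injective _).swap_apply]
        rfl
    rw [e1]; exact hsymm _ h2
  · rw [e2, e0, Function.comp_apply, swap_apply_of_ne_of_ne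
      (Fin.castSucc_ne_last a).symm (Fin.castSucc_ne_last b).symm]
    exact h3

theorem card_pairSet (u : ℕ) (hP : ∀ v, P v → Function.Injective v)
    (hu : open Classical in ∀ t : Fin m → α, Function.Injective t →
      (univ.filter fun d => P (Fin.snoc t d)).card = u) :
    (pairSet P).card = (Fintype.card α).descFactorial m * (u * (u - 1)) := by
  classical
  rw [← card_pairs P u hP (fun t ht => by convert hu t ht)]
  exact congrArg Finset.card (by ext v; simp [mem_pairSet])

end PairSet

/-- No element of order three moves a point if no three-cycle is induced on three points. -/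
theorem exists_three_cycle_of_dvd (h3 : 3 ∣ Nat.card G) :
    ∃ g ∈ G, ∃ a : α, g a ≠ a ∧ g (g a) ≠ a ∧ g (g (g a)) = a ∧ g * (g * g) = 1 := by
  have : Fact (Nat.Prime 3) := ⟨Nat.prime_three⟩
  obtain ⟨g, hg⟩ := exists_prime_orderOf_dvd_card' (G := G) 3 h3
  have hg3 : (g : Perm α) * ((g : Perm α) * g) = 1 := by
    have := pow_orderOf_eq_one g
    rw [hg, pow_succ', pow_two] at this
    exact congrArg Subtype.val this
  rw [orderOf_eq_prime_iff] at hg
  obtain ⟨a, ha⟩ : ∃ a, (g : Perm α) a ≠ a := by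
    by_contra h
    push Not at h
    exact hg.2 (Subtype.ext (Equiv.ext h))
  have hggg : (g : Perm α) ((g : Perm α) ((g : Perm α) a)) = a := by
    have := congrArg (fun f : Perm α => f a) hg3
    simpa using this
  refine ⟨g, g.2, a, ha, fun h => ha ?_, hggg, hg3⟩
  have e := congrArg (g : Perm α) h
  rw [hggg] at e
  exact e.symm

end Cfsg.Agent.Perm
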