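import Mathlib
import Cfsg.Agent.Perm.SmallPattern

set_option autoImplicit false
set_option linter.unusedSectionVars false
set_option maxRecDepth 4000

/-!
`4`- and `5`-homogeneous groups: reduction of the cases with odd induced permutations.
-/

namespace Cfsg.Agent.Perm

open Equiv Finset
open scoped Pointwise

variable {α : Type*} [Fintype α] [DecidableEq α] {G : Subgroup (Perm α)}

theorem descFactorial_eq_choose (n k : ℕ) : n.descFactorial k = n.choose k * k.factorial := by
  rw [Nat.descFactorial_eq_factorial_mul_choose, mul_comm]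

theorem nat_eq_of_pairs {m u A d : ℕ} (hm : m + 2 ≤ Fintype.card α)
    (h : (Fintype.card α).descFactorial m * (u * (u - 1)) = (Fintype.card α).choose (m + 2) * (d * A)) :
    (m + 2).factorial * (u * (u - 1)) =
      (Fintype.card α - m) * (Fintype.card α - m - 1) * (d * A) := by
  set n := Fintype.card α
  have e : n.descFactorial (m + 2) = (n - (m + 1)) * ((n - m) * n.descFactorial m) := by
    rw [Nat.descFactorial_succ, Nat.descFactorial_succ]
  have hpos : 0 < n.descFactorial m := by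
    rw [Nat.pos_iff_ne_zero, ne_eq, Nat.descFactorial_eq_zero_iff_lt]; omega
  refine Nat.eq_of_mul_eq_mul_left hpos ?_
  calc n.descFactorial m * ((m + 2).factorial * (u * (u - 1)))
      = (m + 2).factorial * (n.descFactorial m * (u * (u - 1))) := by ring
    _ = n.descFactorial (m + 2) * (d * A) := by rw [h, descFactorial_eq_choose n (m + 2)]; ring
    _ = _ := by rw [e, Nat.sub_sub n m 1]; ring

theorem exists_odd_mem {j : ℕ} (hh : MulAction.IsPretransitive G (Set.powersetCard α j))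
    (hev : ¬ OddFree G j) {v : Fin j → α} (hv : Function.Injective v) :
    ∃ σ ∈ tupleGrp G v, Perm.sign σ = -1 := by
  unfold OddFree at hev
  push Not at hev
  obtain ⟨x, h, hh', π, hπ, hs⟩ := hev
  obtain ⟨g, hg, σ, hσ⟩ := exists_rel_tuple hh x.injective hv
  refine ⟨σ * π * σ⁻¹, ?_, ?_⟩
  · rw [← mem_tupleGrp_comp, ← hσ, mem_tupleGrp_smul hg]
    exact ⟨h, hh', hπ⟩
  · rw [map_mul, map_mul, map_inv, mul_comm (Perm.sign σ), mul_inv_cancel_right]
    exact (Int.units_eq_one_or _).resolve_left hs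

theorem perm3_generated : ∀ c s π : Perm (Fin 3), c ^ 3 = 1 → c ≠ 1 → Perm.sign s = -1 →
    ∃ i : Fin 3, ∃ l : Fin 2, π = c ^ (i : ℕ) * s ^ (l : ℕ) := by decide

theorem perm3_odd : ∀ σ : Perm (Fin 3), Perm.sign σ = -1 →
    ∃ i : Fin 3, ![1, swap 0 1, swap (0 : Fin 3) 2] i * swap 1 2 * (![1, swap 0 1, swap (0 : Fin 3) 2] i)⁻¹ = σ ∧
      ∀ l : Fin 3, ![1, swap 0 1, swap (0 : Fin 3) 2] l * swap 1 2 * (![1, swap 0 1, swap (0 : Fin 3) 2] l)⁻¹ = σ → l = i := by
  decide

theorem perm3_two_odd : ∀ s t : Perm (Fin 3), Perm.sign s = -1 → Perm.sign t = -1 → s ≠ t →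
    (s * t) ^ 3 = 1 ∧ s * t ≠ 1 := by decide

/-- `4`-homogeneous, `2`-transitive, degree at least eight, with odd induced permutations on
triples: `3`-transitive. -/
theorem three_transitive_of_odd (hn : 8 ≤ Fintype.card α)
    (hT : MulAction.IsMultiplyPretransitive G α 2)
    (hh3 : MulAction.IsPretransitive G (Set.powersetCard α 3))
    (hh4 : MulAction.IsPretransitive G (Set.powersetCard α 4))
    (hev : ¬ OddFree G 3) : MulAction.IsMultiplyPretransitive G α 3 := by
  classical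
  by_contra hno
  have nocycle : ∀ {v : Fin 3 → α}, Function.Injective v → ∀ c ∈ tupleGrp G v, c ^ 3 = 1 → c = 1 := by
    intro v hv c hc h3
    by_contra h1
    obtain ⟨σ, hσ, hs⟩ := exists_odd_mem hh3 hev hv
    refine tupleGrp_ne_top hh3 hno hv (eq_top_iff.mpr fun π _ => ?_)
    obtain ⟨i, l, rfl⟩ := perm3_generated c σ π h3 h1 hs
    exact mul_mem (pow_mem hc _) (pow_mem hσ _)
  set ρ : Fin 3 → Perm (Fin 3) := ![1, swap 0 1, swap 0 2] with hρ
  let P : (Fin 3 → α) → Prop := fun v => Function.Injective v ∧ swap 1 2 ∈ tupleGrp G v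
  have hinv : ∀ g ∈ G, ∀ v, P v → P (g ∘ v) := fun g hg v hv =>
    ⟨g.injective.comp hv.1, (mem_tupleGrp_smul hg).mpr hv.2⟩
  have hex : ∀ v, Function.Injective v → ∃! i, P (v ∘ ρ i) := by
    intro v hv
    obtain ⟨σ, hσ, hs⟩ := exists_odd_mem hh3 hev hv
    obtain ⟨i, hi, hiu⟩ := perm3_odd σ hs
    refine ⟨i, ⟨hv.comp (ρ i).injective, mem_tupleGrp_comp.mpr (by rw [hρ, hi]; exact hσ)⟩,
      fun l hl => hiu l ?_⟩
    by_contra hne
    have hl' := mem_tupleGrp_comp.mp hl.2
    obtain ⟨h3, h1⟩ := perm3_two_odd _ σ (by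
      rw [map_mul, map_mul, map_inv, mul_comm (Perm.sign (ρ l)), mul_inv_cancel_right,
        Perm.sign_swap (by decide)]) hs hne
    exact h1 (nocycle hv _ (mul_mem hl' hσ) h3)
  obtain ⟨u, hu3, hu⟩ := mul_completion_eq hT (by omega) P hinv (fun v hv => hv.1) ρ hex
  have hT' := card_pairSet u (fun v (hv : P v) => hv.1) (fun t ht => by convert hu t ht)
  obtain ⟨s₀, -, hs₀⟩ := exists_subset_card_eq (s := (univ : Finset α)) (n := 4) (by simp; omega)
  have hinj : ∀ v ∈ pairSet P, Function.Injective v := pairSet_injective fun v hv => hv.1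
  rw [card_eq_choose_mul_fibre hh4 _ hinj (pairSet_inv hinv) hs₀] at hT'
  obtain ⟨A, hA⟩ := two_dvd_fibre (pairSet P) hinj
    (show (Fin.last 2).castSucc ≠ Fin.last 3 by decide) pairSet_swap_last s₀
  rw [hA] at hT'
  have key := nat_eq_of_pairs (by omega) hT'.symm
  set n := Fintype.card α with hndef
  rw [← hu3, show Nat.factorial (2 + 2) = 24 from rfl] at key
  have hu2 : 2 ≤ u := by omega
  have key2 : 4 * (u - 1) = (3 * u - 1) * A := by
    refine Nat.eq_of_mul_eq_mul_left (show 0 < 6 * u by omega) ?_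
    linarith
  have hA1 : A = 1 := by
    rcases Nat.lt_or_ge A 2 with h | h
    · interval_cases A
      · omega
      · rfl
    · have := Nat.mul_le_mul_left (3 * u - 1) h
      omega
  subst hA1
  have hn11 : n = 11 := by omega
  -- an element of order three then induces a three-cycle
  have h3G : 3 ∣ Nat.card G := by
    obtain ⟨t, -, ht⟩ := exists_subset_card_eq (s := (univ : Finset α)) (n := 3) (by simp; omega)
    have h := (MulAction.stabilizer G (⟨t, Set.powersetCard.mem_iff.mpr ht⟩ : Set.powersetCard α 3)).index_dvd_card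
    rw [MulAction.index_stabilizer_of_transitive, Set.powersetCard.card, Nat.card_eq_fintype_card,
      ← hndef, hn11, show Nat.choose 11 3 = 3 * 55 by decide] at h
    exact dvd_of_mul_right_dvd h
  obtain ⟨g, hg, a, h1, h2, h3, -⟩ := exists_three_cycle_of_dvd h3G
  have hv : Function.Injective ![a, g a, g (g a)] := by
    intro i l h
    fin_cases i <;> fin_cases l
    · rfl
    · exact absurd h.symm h1
    · exact absurd h.symm h2
    · exact absurd h h1
    · rfl
    · exact absurd (g.injective h).symm h1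
    · exact absurd h h2
    · exact absurd (g.injective h) h1
    · rfl
  have hc : (finRotate 3 : Perm (Fin 3)) ∈ tupleGrp G ![a, g a, g (g a)] := ⟨g, hg, fun i => by
    fin_cases i
    · rfl
    · rfl
    · exact h3⟩
  exact absurd (nocycle hv _ hc (by decide)) (by decide)

theorem perm4_generated_A : ∀ i l : Fin 4, ∀ π : Perm (Fin 4), i ≠ l → Perm.sign π = 1 →
    let c : Fin 4 → Perm (Fin 4) := fun i =>
      swap 0 i * (swap 1 2 * swap 2 3) * (swap 0 i)⁻¹
    ∃ a b d : Fin 3, π = c i ^ (a : ℕ) * c l ^ (b : ℕ) * c i ^ (d : ℕ) := by decide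

theorem perm4_order_three : ∀ π : Perm (Fin 4), π ^ 3 = 1 → π ≠ 1 →
    ∃ i : Fin 4, π = swap 0 i * (swap 1 2 * swap 2 3) * (swap 0 i)⁻¹ ∨
      π⁻¹ = swap 0 i * (swap 1 2 * swap 2 3) * (swap 0 i)⁻¹ := by decide

/-- `π` respects the pairing `{{0,1},{2,3}}`. -/
def RespectsPairing (π : Perm (Fin 4)) : Prop :=
  (π 0 = 0 ∧ π 1 = 1) ∨ (π 0 = 1 ∧ π 1 = 0) ∨ (π 0 = 2 ∧ π 1 = 3) ∨ (π 0 = 3 ∧ π 1 = 2)

instance : DecidablePred RespectsPairing := fun π => by unfold RespectsPairing; infer_instance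

/-- The three positions of the pairing. -/
def pairPos : Fin 3 → Perm (Fin 4) := ![1, swap 1 2, swap 1 3]

theorem respects_conj : ∀ δ π : Perm (Fin 4), RespectsPairing δ →
    RespectsPairing (δ * π * δ⁻¹) → RespectsPairing π := by decide

theorem pairing_exists : ∀ σ : Perm (Fin 4), Perm.sign σ = -1 → ∃ i : Fin 3,
    ∀ π : Perm (Fin 4), ¬ RespectsPairing ((pairPos i)⁻¹ * π * pairPos i) →
      (π ^ 3 = 1 ∧ π ≠ 1) ∨ ((σ * π) ^ 3 = 1 ∧ σ * π ≠ 1) := by decide

theorem pairing_unique : ∀ σ : Perm (Fin 4), Perm.sign σ = -1 → ∀ i l : Fin 3,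
    RespectsPairing ((pairPos i)⁻¹ * σ * pairPos i) →
    RespectsPairing ((pairPos l)⁻¹ * σ * pairPos l) → i = l := by decide

section FiveHom

variable (hn : 9 ≤ Fintype.card α) (hT : MulAction.IsMultiplyPretransitive G α 3)
  (hh4 : MulAction.IsPretransitive G (Set.powersetCard α 4))
  (hh5 : MulAction.IsPretransitive G (Set.powersetCard α 5))
  (hev : ¬ OddFree G 4) (hno : ¬ MulAction.IsMultiplyPretransitive G α 4)
include hn hT hh4 hh5 hev hno

/-- No three-cycle is induced on four points. -/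
theorem no_three_cycle_on_four {v₀ : Fin 4 → α} (hv₀ : Function.Injective v₀) :
    ∀ c ∈ tupleGrp G v₀, c ^ 3 = 1 → c = 1 := by
  classical
  intro c₀ hc₀ hc₀3
  by_contra hc₀1
  set c : Perm (Fin 4) := swap 1 2 * swap 2 3 with hc
  let P : (Fin 4 → α) → Prop := fun v => Function.Injective v ∧ c ∈ tupleGrp G v
  have hinv : ∀ g ∈ G, ∀ v, P v → P (g ∘ v) := fun g hg v hv =>
    ⟨g.injective.comp hv.1, (mem_tupleGrp_smul hg).mpr hv.2⟩
  have hex : ∀ v, Function.Injective v → ∃! i : Fin 4, P (v ∘ swap 0 i) := by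
    intro v hv
    obtain ⟨g, hg, σ, hσ⟩ := exists_rel_tuple hh4 hv₀ hv
    have hmem : σ * c₀ * σ⁻¹ ∈ tupleGrp G v := by
      rw [← mem_tupleGrp_comp, ← hσ, mem_tupleGrp_smul hg]; exact hc₀
    have hne : σ * c₀ * σ⁻¹ ≠ 1 := fun h => hc₀1 (conj_eq_one_iff.mp h)
    obtain ⟨i, hi⟩ := perm4_order_three _ (by rw [conj_pow, hc₀3]; simp) hne
    have hmem' : swap 0 i * c * (swap 0 i)⁻¹ ∈ tupleGrp G v := by
      rcases hi with h | h
      · rw [hc, ← h]; exact hmem
      · rw [hc, ← h]; exact inv_mem hmem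
    refine ⟨i, ⟨hv.comp (swap 0 i).injective, mem_tupleGrp_comp.mpr hmem'⟩, fun l hl => ?_⟩
    by_contra hne'
    have hl' := mem_tupleGrp_comp.mp hl.2
    obtain ⟨τ, hτ, hτs⟩ := exists_odd_mem hh4 hev hv
    have heven : ∀ π : Perm (Fin 4), Perm.sign π = 1 → π ∈ tupleGrp G v := by
      intro π hπ
      obtain ⟨a, b, d, h⟩ := perm4_generated_A l i π hne' hπ
      rw [h]
      exact mul_mem (mul_mem (pow_mem hl' _) (pow_mem hmem' _)) (pow_mem hl' _)
    refine tupleGrp_ne_top hh4 hno hv (eq_top_iff.mpr fun π _ => ?_)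
    rcases Int.units_eq_one_or (Perm.sign π) with h | h
    · exact heven π h
    · have := mul_mem (heven (π * τ⁻¹) (by rw [map_mul, map_inv, h, hτs, mul_inv_cancel])) hτ
      simpa using this
  obtain ⟨u, hu4, hu⟩ := mul_completion_eq hT (by omega) P hinv (fun v hv => hv.1) _ hex
  have hT' := card_pairSet u (fun v (hv : P v) => hv.1) (fun t ht => by convert hu t ht)
  obtain ⟨s₀, -, hs₀⟩ := exists_subset_card_eq (s := (univ : Finset α)) (n := 5) (by simp; omega)
  have hinj : ∀ v ∈ pairSet P, Function.Injective v := pairSet_injective fun v hv => hv.1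
  rw [card_eq_choose_mul_fibre hh5 _ hinj (pairSet_inv hinv) hs₀] at hT'
  have hsymm : ∀ v, P v → P (v ∘ swap (1 : Fin 3).castSucc (2 : Fin 3).castSucc) := fun v hv =>
    ⟨hv.1.comp (swap _ _).injective, mem_tupleGrp_comp.mpr (by
      have e : swap (1 : Fin 3).castSucc (2 : Fin 3).castSucc * c * (swap (1 : Fin 3).castSucc (2 : Fin 3).castSucc)⁻¹ = c⁻¹ := by
        decide
      rw [e]; exact inv_mem hv.2)⟩
  obtain ⟨A, hA⟩ := four_dvd_fibre (pairSet P) hinj
    (show (1 : Fin 3).castSucc.castSucc ≠ (2 : Fin 3).castSucc.castSucc by decide)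
    (show (Fin.last 3).castSucc ≠ Fin.last 4 by decide) (by decide) (by decide) (by decide) (by decide)
    (pairSet_swap hsymm) pairSet_swap_last s₀
  rw [hA] at hT'
  have key := nat_eq_of_pairs (by omega) hT'.symm
  set n := Fintype.card α with hndef
  rw [← hu4, show Nat.factorial (3 + 2) = 120 from rfl] at key
  have hu2 : 2 ≤ u := by omega
  have key2 : 15 * (u - 1) = 2 * (4 * u - 1) * A := by
    refine Nat.eq_of_mul_eq_mul_left (show 0 < 8 * u by omega) ?_
    linarith
  rcases Nat.lt_or_ge A 2 with h | h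
  · interval_cases A <;> omega
  · have := Nat.mul_le_mul_left (2 * (4 * u - 1)) h
    omega

/-- The invariant pairing of every four-set. -/
theorem exists_pairing : ∃ P : (Fin 4 → α) → Prop, (∀ v, P v → Function.Injective v) ∧
    (∀ g ∈ G, ∀ v, P v → P (g ∘ v)) ∧
    (∀ v, P v → ∀ δ : Perm (Fin 4), RespectsPairing δ → P (v ∘ δ)) ∧
    (∀ v, P v → ∀ g ∈ G, ∀ σ : Perm (Fin 4), g ∘ v = v ∘ σ → RespectsPairing σ) ∧
    (∀ v, Function.Injective v → ∃! i, P (v ∘ pairPos i)) := by
  let P : (Fin 4 → α) → Prop := fun v =>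
    Function.Injective v ∧ ∀ π ∈ tupleGrp G v, RespectsPairing π
  refine ⟨P, fun v hv => hv.1, fun g hg v hv =>
    ⟨g.injective.comp hv.1, fun π hπ => hv.2 π ((mem_tupleGrp_smul hg).mp hπ)⟩,
    fun v hv δ hδ => ⟨hv.1.comp δ.injective, fun π hπ => ?_⟩,
    fun v hv g hg σ hσ => hv.2 σ ⟨g, hg, fun i => congrFun hσ i⟩, fun v hv => ?_⟩
  · exact respects_conj δ π hδ (hv.2 _ (mem_tupleGrp_comp.mp hπ))
  · obtain ⟨σ, hσ, hs⟩ := exists_odd_mem hh4 hev hv
    obtain ⟨i, hi⟩ := pairing_exists σ hs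
    have hall : ∀ π ∈ tupleGrp G v, RespectsPairing ((pairPos i)⁻¹ * π * pairPos i) := by
      intro π hπ
      by_contra hc
      rcases hi π hc with ⟨h3, h1⟩ | ⟨h3, h1⟩
      · exact h1 (no_three_cycle_on_four hn hT hh4 hh5 hev hno hv π hπ h3)
      · exact h1 (no_three_cycle_on_four hn hT hh4 hh5 hev hno hv _ (mul_mem hσ hπ) h3)
    have conv : ∀ l π, π ∈ tupleGrp G (v ∘ pairPos l) ↔
        pairPos l * π * (pairPos l)⁻¹ ∈ tupleGrp G v := fun l π => mem_tupleGrp_comp
    refine ⟨i, ⟨hv.comp (pairPos i).injective, fun π hπ => ?_⟩, fun l hl => ?_⟩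
    · have := hall _ ((conv i π).mp hπ)
      rwa [show (pairPos i)⁻¹ * (pairPos i * π * (pairPos i)⁻¹) * pairPos i = π by group] at this
    · refine pairing_unique σ hs l i (hl.2 _ ((conv l _).mpr ?_)) (hall σ hσ)
      rw [show pairPos l * ((pairPos l)⁻¹ * σ * pairPos l) * (pairPos l)⁻¹ = σ by group]
      exact hσ

/-- Only the degree `24` remains. -/
theorem pairing_degree : ∀ P : (Fin 4 → α) → Prop, (∀ v, P v → Function.Injective v) →
    (∀ g ∈ G, ∀ v, P v → P (g ∘ v)) → (∀ v, P v → P (v ∘ swap 0 1)) →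
    (∀ v, Function.Injective v → ∃! i, P (v ∘ pairPos i)) → 10 ≤ Fintype.card α →
    Fintype.card α = 24 := by
  classical
  intro P hP hinv hsymm hex hn'
  obtain ⟨u, hu3, hu⟩ := mul_completion_eq hT (by omega) P hinv hP pairPos hex
  have hT' := card_pairSet u hP (fun t ht => by convert hu t ht)
  obtain ⟨s₀, -, hs₀⟩ := exists_subset_card_eq (s := (univ : Finset α)) (n := 5) (by simp; omega)
  have hinj : ∀ v ∈ pairSet P, Function.Injective v := pairSet_injective hP
  rw [card_eq_choose_mul_fibre hh5 _ hinj (pairSet_inv hinv) hs₀] at hT'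
  have hsymm' : ∀ v, P v → P (v ∘ swap (0 : Fin 3).castSucc (1 : Fin 3).castSucc) := hsymm
  obtain ⟨A, hA⟩ := four_dvd_fibre (pairSet P) hinj
    (show (0 : Fin 3).castSucc.castSucc ≠ (1 : Fin 3).castSucc.castSucc by decide)
    (show (Fin.last 3).castSucc ≠ Fin.last 4 by decide) (by decide) (by decide) (by decide) (by decide)
    (pairSet_swap hsymm') pairSet_swap_last s₀
  rw [hA] at hT'
  have key := nat_eq_of_pairs (by omega) hT'.symm
  set n := Fintype.card α with hndef
  rw [← hu3, show Nat.factorial (3 + 2) = 120 from rfl] at key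
  have hu2 : 3 ≤ u := by omega
  have key2 : 10 * (u - 1) = (3 * u - 1) * A := by
    refine Nat.eq_of_mul_eq_mul_left (show 0 < 12 * u by omega) ?_
    linarith
  rcases Nat.lt_or_ge A 4 with h | h
  · interval_cases A <;> omega
  · have := Nat.mul_le_mul_left (3 * u - 1) h
    omega

end FiveHom

end Cfsg.Agent.Perm
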