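import Mathlib
import Cfsg.Agent.Perm.SmallCases
import Cfsg.Agent.H33.Trans

set_option autoImplicit false
set_option linter.unusedSectionVars false
set_option maxRecDepth 4000

/-!
No `5`-homogeneous group of degree `24` has an invariant pairing of its `4`-sets: the link graph of
a pair would be a regular graph of degree `7` on `22` vertices with impossible spectrum.
-/

namespace Cfsg.Agent.Perm

open Equiv Finset Matrix
open scoped Pointwise

variable {α : Type*} [Fintype α] [DecidableEq α] {G : Subgroup (Perm α)}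

theorem exists_trace_of_idempotent {W : Type*} [Fintype W] [DecidableEq W] (P : Matrix W W ℚ)
    (h : P * P = P) : ∃ r : ℕ, P.trace = r := by
  refine ⟨Module.finrank ℚ (LinearMap.range (Matrix.toLin' P)), ?_⟩
  have hp : LinearMap.IsProj (LinearMap.range (Matrix.toLin' P)) (Matrix.toLin' P) := by
    refine ⟨fun x => LinearMap.mem_range_self _ x, ?_⟩
    rintro _ ⟨y, rfl⟩
    rw [← LinearMap.comp_apply, ← Matrix.toLin'_mul, h]
  rw [← hp.trace, Matrix.trace_toLin'_eq]

/-- The cube of the adjacency matrix modulo three. -/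
theorem mod_three {W : Type*} [Fintype W] [DecidableEq W] {A : Matrix W W (ZMod 3)} {l m : ℕ}
    (hl : ¬ 3 ∣ l)
    (h : A * A = (7 - (m : ZMod 3)) • (1 : Matrix W W (ZMod 3)) + ((l : ZMod 3) - m) • A +
        (m : ZMod 3) • Matrix.of (fun _ _ => 1) ∧
      A.trace = 0 ∧ A * Matrix.of (fun _ _ => 1) = (7 : ZMod 3) • Matrix.of (fun _ _ => (1 : ZMod 3)) ∧
      Matrix.of (fun _ _ => (1 : ZMod 3)) * A = (7 : ZMod 3) • Matrix.of (fun _ _ => (1 : ZMod 3)) ∧
      Matrix.of (fun _ _ => (1 : ZMod 3)) * Matrix.of (fun _ _ => (1 : ZMod 3)) =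
        (22 : ZMod 3) • Matrix.of (fun (_ _ : W) => (1 : ZMod 3)))
    (hW : Fintype.card W = 22 := by assumption) : False := by
  obtain ⟨h2, htr, hAJ, -, -⟩ := h
  have : Fact (Nat.Prime 3) := ⟨Nat.prime_three⟩
  have hp := ZMod.trace_pow_card (p := 3) A
  rw [htr, zero_pow (by norm_num), pow_succ', pow_two, h2] at hp
  simp only [mul_add, Matrix.mul_smul, mul_one, hAJ, Matrix.trace_add, Matrix.trace_smul, htr, h2,
    Matrix.trace_one, hW] at hp
  have hJ : Matrix.trace (Matrix.of fun (_ _ : W) => (1 : ZMod 3)) = 22 := by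
    simp [Matrix.trace, hW]
  simp only [hJ, smul_eq_mul] at hp
  refine hl ((ZMod.natCast_eq_zero_iff l 3).mp ?_)
  have h7 : (7 : ZMod 3) = 1 := rfl
  have h22 : (22 : ZMod 3) = 1 := rfl
  have e : ((22 : ℕ) : ZMod 3) = 1 := rfl
  simp only [h7, h22, e] at hp
  linear_combination hp

/-- No symmetric loopless regular relation of degree `7` on `22` points has both common-neighbour
numbers constant. -/
theorem no_regular_seven {W : Type*} [Fintype W] [DecidableEq W] (hW : Fintype.card W = 22)
    (adj : W → W → Prop) [DecidableRel adj] (hsym : ∀ x y, adj x y → adj y x)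
    (hirr : ∀ x, ¬ adj x x) (hdeg : ∀ x, (univ.filter (adj x)).card = 7) (l m : ℕ)
    (hl : ∀ x y, adj x y → (univ.filter fun z => adj x z ∧ adj z y).card = l)
    (hm : ∀ x y, x ≠ y → ¬ adj x y → (univ.filter fun z => adj x z ∧ adj z y).card = m) : False := by
  classical
  let c : W → W → ℕ := fun x y => (univ.filter fun z => adj x z ∧ adj z y).card
  have hc : ∀ x y, c x y =
      (if x = y then 7 else 0) + (if adj x y then l else 0) + (if x ≠ y ∧ ¬ adj x y then m else 0) := by
    intro x y
    rcases eq_or_ne x y with rfl | hne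
    · simp only [c, if_neg (hirr x), if_true, ne_eq, not_true, false_and, if_false, add_zero]
      rw [← hdeg x]
      congr 1
      ext z
      simp only [mem_filter, mem_univ, true_and]
      exact ⟨fun h => h.1, fun h => ⟨h, hsym _ _ h⟩⟩
    · by_cases h : adj x y
      · simp [c, hne, h, hl x y h]
      · simp [c, hne, h, hm x y hne h]
  obtain ⟨x⟩ : Nonempty W := Fintype.card_pos_iff.mp (by omega)
  have hlm : l * 7 + m * 14 = 42 := by
    have h49 : ∑ y, c x y = 49 := by
      simp only [c, card_filter]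
      rw [sum_comm]
      calc ∑ z, ∑ y, (if adj x z ∧ adj z y then 1 else 0)
          = ∑ z, (if adj x z then 7 else 0) := by
            refine sum_congr rfl fun z _ => ?_
            by_cases h : adj x z
            · simp only [h, true_and, if_true]; rw [← hdeg z, card_filter]
            · simp [h]
        _ = 49 := by rw [← sum_filter, sum_const, hdeg]; rfl
    simp only [hc, sum_add_distrib, sum_ite_eq, mem_univ, if_true, ← sum_filter, sum_const,
      smul_eq_mul, hdeg] at h49
    have : (univ.filter fun y => x ≠ y ∧ ¬ adj x y).card = 14 := by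
      have e : (univ.filter fun y => x ≠ y ∧ ¬ adj x y) = (insert x (univ.filter (adj x)))ᶜ := by
        ext y; simp [eq_comm]
      rw [e, card_compl, card_insert_of_notMem (by simp [hirr]), hdeg, hW]
    rw [this] at h49
    omega
  -- the adjacency matrix
  have Asq : ∀ (R : Type) [CommRing R], ∀ A : Matrix W W R,
      A = Matrix.of (fun x y => if adj x y then (1 : R) else 0) →
      A * A = (7 - (m : R)) • (1 : Matrix W W R) + ((l : R) - m) • A + (m : R) • Matrix.of (fun _ _ => 1) ∧
      A.trace = 0 ∧ A * Matrix.of (fun _ _ => 1) = (7 : R) • Matrix.of (fun _ _ => (1 : R)) ∧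
      Matrix.of (fun _ _ => (1 : R)) * A = (7 : R) • Matrix.of (fun _ _ => (1 : R)) ∧
      Matrix.of (fun _ _ => (1 : R)) * Matrix.of (fun _ _ => (1 : R)) = (22 : R) • Matrix.of (fun (_ _ : W) => (1 : R)) := by
    intro R _ A hA
    refine ⟨?_, ?_, ?_, ?_, ?_⟩
    · ext x y
      have hcast : (A * A) x y = (c x y : R) := by
        simp only [hA, Matrix.mul_apply, Matrix.of_apply, c, card_filter, Nat.cast_sum,
          Nat.cast_ite, Nat.cast_one, Nat.cast_zero, ite_zero_mul_ite_zero, mul_one]
      rw [hcast, hc]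
      simp only [hA, Matrix.add_apply, Matrix.smul_apply, Matrix.one_apply, Matrix.of_apply, smul_eq_mul]
      rcases eq_or_ne x y with rfl | hne
      · simp [hirr]
      · by_cases h : adj x y <;> simp [hne, h]
    · simp [hA, Matrix.trace, hirr]
    · ext x y
      simp [hA, Matrix.mul_apply, hdeg]
    · ext x y
      simp only [hA, Matrix.mul_apply, Matrix.of_apply, one_mul, Matrix.smul_apply, smul_eq_mul,
        mul_one, sum_boole]
      have : (univ.filter fun z => adj z y) = univ.filter (adj y) := by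
        ext z; simp only [mem_filter, mem_univ, true_and]; exact ⟨hsym _ _, hsym _ _⟩
      rw [this, hdeg]; norm_num
    · ext x y
      simp [Matrix.mul_apply, hW]
  rcases (show (l = 6 ∧ m = 0) ∨ (l = 4 ∧ m = 1) ∨ (l = 2 ∧ m = 2) ∨ (l = 0 ∧ m = 3) by omega) with
    ⟨rfl, rfl⟩ | h | h | ⟨rfl, rfl⟩
  · -- complete components of size eight
    obtain ⟨h2, htr, -, -, -⟩ := Asq ℚ _ rfl
    set A : Matrix W W ℚ := Matrix.of fun x y => if adj x y then (1 : ℚ) else 0
    obtain ⟨r, hr⟩ := exists_trace_of_idempotent ((1 / 8 : ℚ) • (A + 1)) (by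
      simp only [Matrix.smul_mul, Matrix.mul_smul, add_mul, mul_add, one_mul, mul_one, h2]
      push_cast
      module)
    rw [Matrix.trace_smul, Matrix.trace_add, htr, Matrix.trace_one, hW] at hr
    have : 4 * r = 11 := by
      exact_mod_cast (show (4 : ℚ) * r = 11 by rw [← hr]; norm_num)
    omega
  · exact mod_three (by omega) (Asq (ZMod 3) _ rfl)
  · exact mod_three (by omega) (Asq (ZMod 3) _ rfl)
  · obtain ⟨h2, htr, hAJ, hJA, hJJ⟩ := Asq ℚ _ rfl
    set A : Matrix W W ℚ := Matrix.of fun x y => if adj x y then (1 : ℚ) else 0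
    set J : Matrix W W ℚ := Matrix.of fun _ _ => (1 : ℚ)
    obtain ⟨r, hr⟩ := exists_trace_of_idempotent ((1 / 5 : ℚ) • (A + (4 : ℚ) • 1 - (1 / 2 : ℚ) • J)) (by
      simp only [Matrix.smul_mul, Matrix.mul_smul, smul_smul, add_mul, mul_add, sub_mul, mul_sub,
        one_mul, mul_one, h2, hAJ, hJA, hJJ, smul_add, smul_sub]
      push_cast
      module)
    rw [Matrix.trace_smul, Matrix.trace_sub, Matrix.trace_add, Matrix.trace_smul, Matrix.trace_smul,
      htr, Matrix.trace_one, hW] at hr
    have hJ : J.trace = 22 := by simp [J, Matrix.trace, hW]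
    rw [hJ] at hr
    have : 5 * r = 77 := by
      exact_mod_cast (show (5 : ℚ) * r = 77 by rw [← hr]; norm_num)
    omega

theorem respects_list : RespectsPairing (swap 0 1) ∧ RespectsPairing (swap 2 3) := by decide

theorem respects_class_swap : RespectsPairing (swap 0 2 * swap 0 1 * swap 0 3) := by decide

theorem pairPos_respects : ∀ (σ : Perm (Fin 4)) (i : Fin 3), RespectsPairing σ →
    RespectsPairing ((pairPos i)⁻¹ * σ) → i = 0 := by decide

/-- The stabiliser of three points acts transitively on each of the three classes. -/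
theorem class_transitive (hn : Fintype.card α = 24) (hT : MulAction.IsMultiplyPretransitive G α 3)
    (hh4 : MulAction.IsPretransitive G (Set.powersetCard α 4))
    {P : (Fin 4 → α) → Prop} (hinv : ∀ g ∈ G, ∀ v, P v → P (g ∘ v))
    {x : Fin 3 ↪ α} (hdeg : open Classical in (univ.filter fun d => P (Fin.snoc (⇑x) d)).card = 7)
    (hP : ∀ v, P v → Function.Injective v) :
    ∀ d e, P (Fin.snoc (⇑x) d) → P (Fin.snoc (⇑x) e) → ∃ g ∈ tupleStab G x, g d = e := by
  classical
  set M := tupleStab G x with hM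
  -- all four-point stabilisers have the same order
  have hM4 : ∀ v w : Fin 4 ↪ α, Nat.card (tupleStab G v) = Nat.card (tupleStab G w) := by
    intro v w
    obtain ⟨g, hg, σ, hσ⟩ := exists_rel_tuple hh4 v.injective w.injective
    have h : (tupleStab G v).map (MulAut.conj g).toMonoidHom = tupleStab G w := by
      have hg' : ∀ i, g⁻¹ (w i) = v (σ⁻¹ i) := fun i => by
        rw [Perm.inv_eq_iff_eq]
        have := congrFun hσ (σ⁻¹ i)
        simp only [Function.comp_apply] at this
        rw [this]; simp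
      ext m
      simp only [Subgroup.mem_map, mem_tupleStab, MulEquiv.coe_toMonoidHom, MulAut.conj_apply]
      constructor
      · rintro ⟨m, ⟨hmG, hm⟩, rfl⟩
        refine ⟨mul_mem (mul_mem hg hmG) (inv_mem hg), fun i => ?_⟩
        rw [Perm.mul_apply, Perm.mul_apply, hg', hm, ← hg']
        simp
      · rintro ⟨hG', hh⟩
        refine ⟨g⁻¹ * m * g, ⟨mul_mem (mul_mem (inv_mem hg) hG') hg, fun i => ?_⟩, by group⟩
        have hgi : g (v i) = w (σ i) := congrFun hσ i
        rw [Perm.mul_apply, Perm.mul_apply, hgi, hh, ← hgi]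
        simp
    rw [← h]
    exact (Nat.card_congr (Subgroup.equivMapOfInjective _ _ (MulEquiv.injective _)).toEquiv)
  have horb : ∀ d, d ∉ Set.range x → ∃ v : Fin 4 ↪ α,
      (MulAction.orbit M d).ncard * Nat.card (tupleStab G v) = Nat.card M := by
    intro d hd
    refine ⟨⟨Fin.snoc (⇑x) d, (Fin.snoc_injective_iff (α := α)).mpr ⟨x.injective, hd⟩⟩, ?_⟩
    have hst : Nat.card (MulAction.stabilizer M d) =
        Nat.card (tupleStab G ⟨Fin.snoc (⇑x) d, (Fin.snoc_injective_iff (α := α)).mpr ⟨x.injective, hd⟩⟩) := by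
      refine Nat.card_congr ⟨fun m => ⟨((m : M) : Perm α), mem_tupleStab.mpr
          ⟨(mem_tupleStab.mp (m : M).2).1, fun i => ?_⟩⟩,
        fun g => ⟨⟨(g : Perm α), mem_tupleStab.mpr ⟨(mem_tupleStab.mp g.2).1, fun i => ?_⟩⟩, ?_⟩,
        fun m => rfl, fun g => rfl⟩
      · induction i using Fin.lastCases with
        | last =>
          simp only [Function.Embedding.coeFn_mk, Fin.snoc_last]
          exact m.2
        | cast i =>
          simp only [Function.Embedding.coeFn_mk, Fin.snoc_castSucc]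
          exact (mem_tupleStab.mp (m : M).2).2 i
      · simpa using (mem_tupleStab.mp g.2).2 i.castSucc
      · show (g : Perm α) d = d
        have := (mem_tupleStab.mp g.2).2 (Fin.last 3)
        simp only [Function.Embedding.coeFn_mk, Fin.snoc_last] at this
        exact this
    rw [← hst, ← Nat.card_coe_set_eq, ← Nat.card_prod,
      Nat.card_congr (MulAction.orbitProdStabilizerEquivGroup M d)]
  have hout : ∀ d, P (Fin.snoc (⇑x) d) → d ∉ Set.range x := fun d hd =>
    ((Fin.snoc_injective_iff (α := α)).mp (hP _ hd)).2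
  intro d e hd he
  set N : Set α := {z | P (Fin.snoc (⇑x) z)} with hN
  have hNcard : N.ncard = 7 := by
    rw [← hdeg, ← Set.ncard_coe_finset]; congr 1; ext z; simp [hN]
  have hNinv : ∀ g : M, ∀ z ∈ N, g • z ∈ N := by
    intro g z hz
    obtain ⟨hgG, hgx⟩ := mem_tupleStab.mp g.2
    have := hinv g hgG _ hz
    rw [Fin.comp_snoc, show (g : Perm α) ∘ ⇑x = ⇑x from funext hgx] at this
    exact this
  set s := (MulAction.orbit M d).ncard with hs
  have hsz : ∀ z, z ∉ Set.range x → (MulAction.orbit M z).ncard = s := by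
    intro z hz
    obtain ⟨v, hv⟩ := horb z hz
    obtain ⟨w, hw⟩ := horb d (hout d hd)
    rw [← hs, ← hM4 v w] at hw
    exact Nat.eq_of_mul_eq_mul_right Nat.card_pos (hv.trans hw.symm)
  have hdvd : s ∣ 7 := by
    rw [← hNcard]
    exact Cfsg.Agent.H33.dvd_card_of_orbits (G := M) N (Set.toFinite _) hNinv fun z hz =>
      dvd_of_eq (hsz z (hout z hz)).symm
  rcases (Nat.dvd_prime (by norm_num)).mp hdvd with h1 | h7
  · -- then the three-point stabiliser is trivial
    exfalso
    have hfix : ∀ g : M, ∀ z, (g : Perm α) z = z := by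
      intro g z
      by_cases hz : z ∈ Set.range x
      · obtain ⟨i, rfl⟩ := hz; exact (mem_tupleStab.mp g.2).2 i
      · obtain ⟨w, hw⟩ := Set.ncard_eq_one.mp ((hsz z hz).trans h1)
        have e1 : g • z ∈ ({w} : Set α) := hw ▸ MulAction.mem_orbit z g
        have e2 : z ∈ ({w} : Set α) := hw ▸ MulAction.mem_orbit_self z
        exact e1.trans e2.symm
    have hbot : MulAction.stabilizer G x = ⊥ := by
      rw [eq_bot_iff]
      intro g hg
      rw [Subgroup.mem_bot]
      refine Subtype.ext (Equiv.ext fun z => hfix ⟨g, mem_tupleStab.mpr ⟨g.2, fun i => ?_⟩⟩ z)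
      exact DFunLike.congr_fun (MulAction.mem_stabilizer_iff.mp hg) i
    have hcard : Nat.card G = 24 * 23 * 22 := by
      have := @MulAction.index_stabilizer_of_transitive G (Fin 3 ↪ α) _ _ x hT
      rw [hbot, Subgroup.index_bot, Nat.card_eq_fintype_card (α := Fin 3 ↪ α),
        Fintype.card_embedding_eq, Fintype.card_fin, hn] at this
      rw [this]; rfl
    obtain ⟨t, -, ht⟩ := exists_subset_card_eq (s := (univ : Finset α)) (n := 4) (by simp; omega)
    have h := (MulAction.stabilizer G (⟨t, Set.powersetCard.mem_iff.mpr ht⟩ : Set.powersetCard α 4)).index_dvd_card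
    rw [MulAction.index_stabilizer_of_transitive, Set.powersetCard.card, Nat.card_eq_fintype_card (α := α),
      hn, hcard, show Nat.choose 24 4 = 10626 by decide] at h
    exact absurd h (by decide)
  · have horbN : MulAction.orbit M d = N := by
      refine Set.eq_of_subset_of_ncard_le (fun z hz => ?_) (by rw [hNcard, ← h7])
      obtain ⟨g, rfl⟩ := hz
      exact hNinv g d hd
    have : e ∈ MulAction.orbit M d := horbN ▸ he
    obtain ⟨g, hg⟩ := this
    exact ⟨g, g.2, hg⟩

/-- The contradiction in degree `24`. -/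
theorem no_pairing_twentyFour (hn : Fintype.card α = 24)
    (hT : MulAction.IsMultiplyPretransitive G α 3)
    (hh4 : MulAction.IsPretransitive G (Set.powersetCard α 4))
    (P : (Fin 4 → α) → Prop) (hP : ∀ v, P v → Function.Injective v)
    (hinv : ∀ g ∈ G, ∀ v, P v → P (g ∘ v))
    (hsymm : ∀ v, P v → ∀ δ : Perm (Fin 4), RespectsPairing δ → P (v ∘ δ))
    (hex : ∀ v, Function.Injective v → ∃! i, P (v ∘ pairPos i)) : False := by
  classical
  obtain ⟨u, hu3, hu⟩ := mul_completion_eq hT (by omega) P hinv hP pairPos hex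
  obtain ⟨x⟩ : Nonempty (Fin 2 ↪ α) := Function.Embedding.nonempty_of_card_le (by simp; omega)
  let W := {z : α // z ∉ Set.range x}
  have hW : Fintype.card W = 22 := by
    rw [Fintype.card_subtype_compl, Fintype.card_subtype, hn]
    have : (univ.filter fun z => z ∈ Set.range x) = univ.map x := by ext; simp
    rw [this]; simp
  have hinj3 : ∀ c : W, Function.Injective ![x 0, x 1, (c : α)] := by
    intro c
    have h01 : x 0 ≠ x 1 := x.injective.ne (by decide)
    have h0 : (c : α) ≠ x 0 := fun e => c.2 ⟨0, e.symm⟩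
    have h1 : (c : α) ≠ x 1 := fun e => c.2 ⟨1, e.symm⟩
    intro i l h
    fin_cases i <;> fin_cases l
    · rfl
    · exact absurd h h01
    · exact absurd h h0.symm
    · exact absurd h h01.symm
    · rfl
    · exact absurd h h1.symm
    · exact absurd h h0
    · exact absurd h h1
    · rfl
  have hsn : ∀ a b c d : α, (Fin.snoc ![a, b, c] d : Fin 4 → α) = ![a, b, c, d] := fun a b c d => by
    funext i; fin_cases i <;> rfl
  let adj : W → W → Prop := fun c d => P ![x 0, x 1, (c : α), (d : α)]
  have hout : ∀ {c : W} {d : α}, P ![x 0, x 1, (c : α), d] → d ∉ Set.range x := by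
    rintro c d hd ⟨i, rfl⟩
    have hinj := hP _ hd
    fin_cases i
    · exact absurd (hinj (a₁ := 0) (a₂ := 3) rfl) (by decide)
    · exact absurd (hinj (a₁ := 1) (a₂ := 3) rfl) (by decide)
  have hsym : ∀ c d : W, adj c d → adj d c := by
    intro c d h
    have := hsymm _ h (swap 2 3) respects_list.2
    have e : ![x 0, x 1, (c : α), (d : α)] ∘ swap (2 : Fin 4) 3 = ![x 0, x 1, (d : α), (c : α)] := by
      funext i; fin_cases i <;> rfl
    rwa [e] at this
  have hirr : ∀ c : W, ¬ adj c c := fun c h =>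
    absurd (hP _ h (a₁ := 2) (a₂ := 3) rfl) (by decide)
  have hdeg : ∀ c : W, (univ.filter (adj c)).card = 7 := by
    intro c
    have h := hu _ (hinj3 c)
    have h7 : u = 7 := by omega
    rw [← h7, ← h]
    refine card_bij (fun d _ => (d : α)) ?_ (fun _ _ _ _ e => Subtype.ext e) ?_
    · intro d hd
      simp only [mem_filter, mem_univ, true_and, hsn] at hd ⊢
      exact hd
    · intro d hd
      simp only [mem_filter, mem_univ, true_and, hsn] at hd ⊢
      exact ⟨⟨d, hout hd⟩, hd, rfl⟩
  -- transport by elements preserving the pair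
  have trans : ∀ g ∈ G, (g (x 0) = x 0 ∧ g (x 1) = x 1) ∨ (g (x 0) = x 1 ∧ g (x 1) = x 0) →
      ∀ c d c' d' : W, g c = c' → g d = d' →
      (univ.filter fun z => adj c z ∧ adj z d).card = (univ.filter fun z => adj c' z ∧ adj z d').card := by
    intro g hg hgx c d c' d' hc hd
    have hrange : ∀ z : W, g z ∉ Set.range x := by
      rintro z ⟨i, hi⟩
      fin_cases i <;> rcases hgx with ⟨e0, e1⟩ | ⟨e0, e1⟩
      · exact z.2 ⟨0, g.injective (e0.trans hi)⟩
      · exact z.2 ⟨1, g.injective (e1.trans hi)⟩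
      · exact z.2 ⟨1, g.injective (e1.trans hi)⟩
      · exact z.2 ⟨0, g.injective (e0.trans hi)⟩
    let gW : W → W := fun z => ⟨g z, hrange z⟩
    have gWbij : Function.Bijective gW := Finite.injective_iff_bijective.mp
      fun a b e => Subtype.ext (g.injective (congrArg Subtype.val e))
    have hmap : ∀ a b : W, adj a b ↔ adj (gW a) (gW b) := by
      intro a b
      have e : (g : α → α) ∘ ![x 0, x 1, (a : α), (b : α)] = ![g (x 0), g (x 1), g a, g b] := by
        funext i; fin_cases i <;> rfl
      have e' : ![g (x 0), g (x 1), g (a : α), g (b : α)] = ![x 0, x 1, (gW a : α), (gW b : α)] ∨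
          ![g (x 0), g (x 1), g (a : α), g (b : α)] =
            ![x 0, x 1, (gW a : α), (gW b : α)] ∘ swap (0 : Fin 4) 1 := by
        rcases hgx with ⟨e0, e1⟩ | ⟨e0, e1⟩
        · exact .inl (by rw [e0, e1])
        · exact .inr (by rw [e0, e1]; funext i; fin_cases i <;> rfl)
      constructor
      · intro h
        have h' := hinv g hg _ h
        rw [e] at h'
        rcases e' with e' | e' <;> rw [e'] at h'
        · exact h'
        · have := hsymm _ h' (swap 0 1) respects_list.1
          rw [Function.comp_assoc, ← Perm.coe_mul, Equiv.swap_mul_self, Perm.coe_one, Function.comp_id] at this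
          exact this
      · intro h
        have h' : P ((g : α → α) ∘ ![x 0, x 1, (a : α), (b : α)]) := by
          rw [e]
          rcases e' with e' | e' <;> rw [e']
          · exact h
          · exact hsymm _ h (swap 0 1) respects_list.1
        have := hinv g⁻¹ (inv_mem hg) _ h'
        rw [← Function.comp_assoc] at this
        simpa [adj] using this
    have ec : gW c = c' := Subtype.ext hc
    have ed : gW d = d' := Subtype.ext hd
    refine card_equiv (Equiv.ofBijective gW gWbij) fun z => ?_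
    simp only [mem_filter, mem_univ, true_and, Equiv.ofBijective_apply]
    rw [← ec, ← ed, ← hmap, ← hmap]
  -- the three classes of a point
  obtain ⟨c₀⟩ : Nonempty W := Fintype.card_pos_iff.mp (by omega)
  have hcls : ∀ (i : Fin 3) (d e : W), P (![x 0, x 1, (c₀ : α), (d : α)] ∘ pairPos i) →
      P (![x 0, x 1, (c₀ : α), (e : α)] ∘ pairPos i) →
      ∃ g ∈ G, g (x 0) = x 0 ∧ g (x 1) = x 1 ∧ g c₀ = c₀ ∧ g d = e := by
    intro i d e hd he
    let Q : (Fin 4 → α) → Prop := fun v => P (v ∘ pairPos i)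
    have hQinv : ∀ g ∈ G, ∀ v, Q v → Q (g ∘ v) := fun g hg v hv => hinv g hg _ hv
    have hQP : ∀ v, Q v → Function.Injective v := fun v hv =>
      (Function.Injective.of_comp_iff' v (pairPos i).bijective).mp (hP _ hv)
    obtain ⟨w, hw⟩ := exists_completion_card hT Q hQinv
    have hdeg' : w = 7 := by
      have hweq := sum_completions_eq P Q (pairPos i) (fun v => Iff.rfl) hP hu hw (by omega)
      omega
    obtain ⟨g, hg, hgd⟩ := class_transitive hn hT hh4 hQinv (x := ⟨_, hinj3 c₀⟩)
      (by rw [← hdeg']; convert hw _ (hinj3 c₀) using 2; simp only [Function.Embedding.coeFn_mk]) hQP d e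
      (by rw [Function.Embedding.coeFn_mk, hsn]; exact hd)
      (by rw [Function.Embedding.coeFn_mk, hsn]; exact he)
    obtain ⟨hgG, hgx⟩ := mem_tupleStab.mp hg
    exact ⟨g, hgG, hgx 0, hgx 1, hgx 2, hgd⟩
  -- move any point to `c₀`
  have hmove : ∀ c d : W, ∃ (d' : W), (adj c d ↔ adj c₀ d') ∧ (c = d ↔ c₀ = d') ∧
      (univ.filter fun z => adj c z ∧ adj z d).card = (univ.filter fun z => adj c₀ z ∧ adj z d').card := by
    intro c d
    obtain ⟨g, hg, hgx⟩ := exists_map_tuple hT (Fintype.card_fin 3)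
      (⟨_, hinj3 c⟩ : Fin 3 ↪ α) ⟨_, hinj3 c₀⟩
    have g0 : g (x 0) = x 0 := hgx 0
    have g1 : g (x 1) = x 1 := hgx 1
    have g2 : g (c : α) = c₀ := hgx 2
    have hd' : g d ∉ Set.range x := by
      rintro ⟨i, hi⟩
      fin_cases i
      · exact d.2 ⟨0, g.injective (g0.trans hi)⟩
      · exact d.2 ⟨1, g.injective (g1.trans hi)⟩
    refine ⟨⟨g d, hd'⟩, ?_, ?_, trans g hg (.inl ⟨g0, g1⟩) c d c₀ ⟨g d, hd'⟩ g2 rfl⟩
    · show P _ ↔ P ![x 0, x 1, (c₀ : α), g d]
      have e : (g : α → α) ∘ ![x 0, x 1, (c : α), (d : α)] = ![x 0, x 1, (c₀ : α), g d] := by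
        funext i; fin_cases i
        · exact g0
        · exact g1
        · exact g2
        · rfl
      refine ⟨fun h => e ▸ hinv g hg _ h, fun h => ?_⟩
      have := hinv g⁻¹ (inv_mem hg) _ h
      rw [← e, ← Function.comp_assoc] at this
      simpa using this
    · exact ⟨fun h => Subtype.ext (by rw [← g2, h]),
        fun h => Subtype.ext (g.injective (g2.trans (congrArg Subtype.val h)))⟩
  -- the class of a further point
  have hclass : ∀ d : W, c₀ ≠ d → ¬ adj c₀ d →
      P (![x 0, x 1, (c₀ : α), (d : α)] ∘ pairPos 1) ∨ P (![x 0, x 1, (c₀ : α), (d : α)] ∘ pairPos 2) := by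
    intro d hne hnadj
    have hinj : Function.Injective ![x 0, x 1, (c₀ : α), (d : α)] := by
      rw [← hsn, Fin.snoc_injective_iff]
      refine ⟨hinj3 c₀, ?_⟩
      rintro ⟨i, hi⟩
      fin_cases i
      · exact d.2 ⟨0, hi⟩
      · exact d.2 ⟨1, hi⟩
      · exact hne (Subtype.ext hi)
    obtain ⟨i, hi, -⟩ := hex _ hinj
    fin_cases i
    · exact absurd hi hnadj
    · exact .inl hi
    · exact .inr hi
  obtain ⟨d1, hd1⟩ : ∃ d1 : W, P (![x 0, x 1, (c₀ : α), (d1 : α)] ∘ pairPos 1) := by
    obtain ⟨w, hw⟩ := exists_completion_card hT (fun v => P (v ∘ pairPos 1)) fun g hg v hv => hinv g hg _ hv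
    have hweq := sum_completions_eq P (fun v => P (v ∘ pairPos 1)) (pairPos 1) (fun v => Iff.rfl) hP hu hw
      (by omega)
    obtain ⟨d, hd⟩ := card_pos.mp (by rw [hw _ (hinj3 c₀)]; omega :
      0 < (univ.filter fun d => P ((Fin.snoc ![x 0, x 1, (c₀ : α)] d : Fin 4 → α) ∘ pairPos 1)).card)
    simp only [mem_filter, mem_univ, true_and, hsn] at hd
    refine ⟨⟨d, ?_⟩, hd⟩
    have hinj := (Function.Injective.of_comp_iff' _ (pairPos 1).bijective).mp (hP _ hd)
    rintro ⟨i, rfl⟩
    fin_cases i
    · exact absurd (hinj (a₁ := 0) (a₂ := 3) rfl) (by decide)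
    · exact absurd (hinj (a₁ := 1) (a₂ := 3) rfl) (by decide)
  obtain ⟨e0, he0⟩ : ∃ e0 : W, adj c₀ e0 := by
    obtain ⟨e, he⟩ := card_pos.mp (by rw [hdeg c₀]; omega : 0 < (univ.filter (adj c₀)).card)
    exact ⟨e, (mem_filter.mp he).2⟩
  refine no_regular_seven hW adj hsym hirr hdeg
    (univ.filter fun z => adj c₀ z ∧ adj z e0).card (univ.filter fun z => adj c₀ z ∧ adj z d1).card ?_ ?_
  · intro c d hcd
    obtain ⟨d', ha, -, hcard⟩ := hmove c d
    rw [hcard]
    have e : ∀ z : W, ![x 0, x 1, (c₀ : α), (z : α)] ∘ pairPos 0 = ![x 0, x 1, (c₀ : α), (z : α)] := fun z => rfl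
    obtain ⟨g, hg, g0, g1, g2, g3⟩ := hcls 0 d' e0 (by rw [e]; exact ha.mp hcd) (by rw [e]; exact he0)
    exact trans g hg (.inl ⟨g0, g1⟩) c₀ d' c₀ e0 g2 g3
  · intro c d hne hcd
    obtain ⟨d', ha, heq, hcard⟩ := hmove c d
    rw [hcard]
    rcases hclass d' (fun h => hne (heq.mpr h)) (fun h => hcd (ha.mpr h)) with h1 | h2
    · obtain ⟨g, hg, g0, g1, g2, g3⟩ := hcls 1 d' d1 h1 hd1
      exact trans g hg (.inl ⟨g0, g1⟩) c₀ d' c₀ d1 g2 g3
    · -- swap the two base points
      obtain ⟨s, hs, hsx⟩ := exists_map_tuple hT (Fintype.card_fin 3) (⟨_, hinj3 c₀⟩ : Fin 3 ↪ α)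
        (⟨_, (hinj3 c₀).comp (swap (0 : Fin 3) 1).injective⟩ : Fin 3 ↪ α)
      have s0 : s (x 0) = x 1 := hsx 0
      have s1 : s (x 1) = x 0 := hsx 1
      have s2 : s (c₀ : α) = c₀ := hsx 2
      have hd'' : s d' ∉ Set.range x := by
        rintro ⟨i, hi⟩
        fin_cases i
        · exact d'.2 ⟨1, s.injective (s1.trans hi)⟩
        · exact d'.2 ⟨0, s.injective (s0.trans hi)⟩
      have hs1 : P (![x 0, x 1, (c₀ : α), s d'] ∘ pairPos 1) := by
        have := hsymm _ (hinv s hs _ h2) (swap 0 2 * swap 0 1 * swap 0 3) respects_class_swap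
        have e : ((s : α → α) ∘ ![x 0, x 1, (c₀ : α), (d' : α)] ∘ pairPos 2) ∘
            (swap 0 2 * swap 0 1 * swap 0 3 : Perm (Fin 4)) = ![x 0, x 1, (c₀ : α), s d'] ∘ pairPos 1 := by
          funext i; fin_cases i
          · exact s1
          · exact s2
          · exact s0.trans rfl
          · rfl
        rw [e] at this
        exact this
      rw [trans s hs (.inr ⟨s0, s1⟩) c₀ d' c₀ ⟨s d', hd''⟩ s2 rfl]
      obtain ⟨g, hg, g0, g1, g2, g3⟩ := hcls 1 ⟨s d', hd''⟩ d1 hs1 hd1
      exact trans g hg (.inl ⟨g0, g1⟩) c₀ _ c₀ d1 g2 g3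

end Cfsg.Agent.Perm
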