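import Mathlib
import Cfsg.Agent.Perm.OddFree
import Cfsg.Agent.Perm.SmallCases
import Cfsg.Agent.Perm.TwentyFour
import Cfsg.Agent.S0736

set_option autoImplicit false
set_option linter.unusedSectionVars false

/-!
The Livingstone–Wagner theorem.
-/

namespace Cfsg.Agent.Perm

open Equiv Finset

variable {α : Type*} [Fintype α] [DecidableEq α] {G : Subgroup (Perm α)}

theorem oddFree_three_false (hn : 8 ≤ Fintype.card α)
    (hT : MulAction.IsMultiplyPretransitive G α 2)
    (hh3 : MulAction.IsPretransitive G (Set.powersetCard α 3))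
    (hh4 : MulAction.IsPretransitive G (Set.powersetCard α 4))
    (hev : OddFree G 3) : False := by
  obtain ⟨e, he, heq⟩ := oddFree_equation le_rfl (by omega) hev hT hh3 hh4
  rw [Fin.sum_univ_four] at heq
  have hn' : (8 : ℤ) ≤ Fintype.card α := by exact_mod_cast hn
  rw [Nat.cast_sub (by omega)] at heq
  push_cast at heq
  rcases he 0 with h0 | h0 <;> rcases he 1 with h1 | h1 <;> rcases he 2 with h2 | h2 <;>
    rcases he 3 with h3 | h3 <;> rw [h0, h1, h2, h3] at heq <;> norm_num at heq <;> omega

theorem oddFree_four_false (hn : 10 ≤ Fintype.card α)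
    (hT : MulAction.IsMultiplyPretransitive G α 3)
    (hh4 : MulAction.IsPretransitive G (Set.powersetCard α 4))
    (hh5 : MulAction.IsPretransitive G (Set.powersetCard α 5))
    (hev : OddFree G 4) : False := by
  obtain ⟨e, he, heq⟩ := oddFree_equation (by norm_num) (by omega) hev hT hh4 hh5
  rw [Fin.sum_univ_five] at heq
  have hn' : (10 : ℤ) ≤ Fintype.card α := by exact_mod_cast hn
  rw [Nat.cast_sub (by omega)] at heq
  push_cast at heq
  rcases he 0 with h0 | h0 <;> rcases he 1 with h1 | h1 <;> rcases he 2 with h2 | h2 <;>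
    rcases he 3 with h3 | h3 <;> rcases he 4 with h4 | h4 <;>
    rw [h0, h1, h2, h3, h4] at heq <;> norm_num at heq <;> omega

theorem homogeneous_pred {k : ℕ} (hk : 2 ≤ k) (hkn : 2 * k ≤ Fintype.card α)
    (hh : MulAction.IsPretransitive G (Set.powersetCard α k)) :
    MulAction.IsPretransitive G (Set.powersetCard α (k - 1)) :=
  Cfsg.Agent.S0736.result G hk hh fun q _ hqk => by
    have := Nat.le_of_dvd (by omega) hqk
    omega

/-- A `k`-homogeneous group with `2k ≤ n` is `(k-1)`-transitive. -/
theorem transitive_pred_of_homogeneous : ∀ k : ℕ, 2 ≤ k → 2 * k ≤ Fintype.card α →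
    MulAction.IsPretransitive G (Set.powersetCard α k) →
    MulAction.IsMultiplyPretransitive G α (k - 1) := by
  intro k
  induction k using Nat.strong_induction_on with
  | h k ih =>
    intro hk hkn hh
    have hh1 := homogeneous_pred hk hkn hh
    rcases Nat.lt_or_ge k 3 with h2 | h3
    · obtain rfl : k = 2 := by omega
      rw [show 2 - 1 = 1 from rfl] at hh1 ⊢
      obtain ⟨x⟩ : Nonempty (Fin 1 ↪ α) := Function.Embedding.nonempty_of_card_le (by simp; omega)
      exact transitive_of_full hh1 x fun π => ⟨1, one_mem _, fun i => congrArg x (Subsingleton.elim _ _)⟩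
    have hT : MulAction.IsMultiplyPretransitive G α (k - 2) :=
      ih (k - 1) (by omega) (by omega) (by omega) hh1
    rcases Nat.lt_or_ge k 4 with h4 | h4
    · obtain rfl : k = 3 := by omega
      refine two_transitive_of_three_homogeneous (by omega) (fun a b => ?_) hh1 hh
      obtain ⟨g, hg, hgx⟩ := exists_map_tuple hT (Fintype.card_fin 1)
        (⟨fun _ => a, Function.injective_of_subsingleton _⟩ : Fin 1 ↪ α)
        ⟨fun _ => b, Function.injective_of_subsingleton _⟩
      exact ⟨g, hg, hgx 0⟩
    rcases Nat.lt_or_ge k 5 with h5 | h5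
    · obtain rfl : k = 4 := by omega
      by_cases hev : OddFree G 3
      · exact (oddFree_three_false (by omega) hT hh1 hh hev).elim
      · exact three_transitive_of_odd (by omega) hT hh1 hh hev
    rcases Nat.lt_or_ge k 6 with h6 | h6
    · obtain rfl : k = 5 := by omega
      by_cases hev : OddFree G 4
      · exact (oddFree_four_false (by omega) hT hh1 hh hev).elim
      by_contra hno
      have hn : 10 ≤ Fintype.card α := by omega
      obtain ⟨P, hP, hinv, hsymm, -, hex⟩ := exists_pairing (by omega) hT hh1 hh hev hno
      exact no_pairing_twentyFour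
        (pairing_degree (by omega) hT hh1 hh hev hno P hP hinv
          (fun v hv => hsymm v hv _ respects_list.1) hex hn) hT hh1 P hP hinv hsymm hex
    exact transitive_of_homogeneous (j := k - 1) (by omega) (by omega) hh1 hT

/-- The Livingstone–Wagner theorem: `k`-homogeneous with `10 ≤ 2k ≤ n` is `k`-transitive. -/
theorem transitive_of_homogeneous_five {k : ℕ} (hk : 5 ≤ k) (hkn : 2 * k ≤ Fintype.card α)
    (hh : MulAction.IsPretransitive G (Set.powersetCard α k)) :
    MulAction.IsMultiplyPretransitive G α k :=
  transitive_of_homogeneous hk (by omega) hh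
    (transitive_pred_of_homogeneous k (by omega) hkn hh)

end Cfsg.Agent.Perm
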