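import Mathlib
import Cfsg.Agent.Perm.LivingstoneWagner
import Cfsg.Agent.S5944

set_option autoImplicit false
set_option linter.unusedSectionVars false

/-!
Groups that are `(k-1)`- and `k`-homogeneous, `(k-2)`-transitive and not `(k-1)`-transitive: the
small exceptional degrees.
-/

namespace Cfsg.Agent.Perm

open Equiv Finset
open scoped Pointwise

variable {α : Type*} [Fintype α] [DecidableEq α] {G : Subgroup (Perm α)}

theorem card_eq_descFactorial_mul {j : ℕ} (hT : MulAction.IsMultiplyPretransitive G α j)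
    (x : Fin j ↪ α) :
    Nat.card G = (Fintype.card α).descFactorial j * Nat.card (tupleStab G x) := by
  classical
  have hs : Nat.card (MulAction.stabilizer G x) = Nat.card (tupleStab G x) := Nat.card_congr
    { toFun := fun g => ⟨g.1.1, mem_tupleStab.mpr ⟨g.1.2, fun i =>
          DFunLike.congr_fun (MulAction.mem_stabilizer_iff.mp g.2) i⟩⟩
      invFun := fun g => ⟨⟨g.1, (mem_tupleStab.mp g.2).1⟩, MulAction.mem_stabilizer_iff.mpr
          (Function.Embedding.ext fun i => (mem_tupleStab.mp g.2).2 i)⟩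
      left_inv := fun _ => rfl
      right_inv := fun _ => rfl }
  have hi := @MulAction.index_stabilizer_of_transitive G (Fin j ↪ α) _ _ x hT
  rw [← hs, ← (MulAction.stabilizer G x).index_mul_card, hi, Nat.card_eq_fintype_card, Fintype.card_embedding_eq,
    Fintype.card_fin]

theorem choose_dvd_card {j : ℕ} (hj : j ≤ Fintype.card α)
    (hh : MulAction.IsPretransitive G (Set.powersetCard α j)) :
    (Fintype.card α).choose j ∣ Nat.card G := by
  have := hh
  obtain ⟨s, -, hs⟩ := exists_subset_card_eq (s := (univ : Finset α)) (n := j) (by simpa using hj)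
  have h := (MulAction.stabilizer G (⟨s, hs⟩ : Set.powersetCard α j)).index_mul_card
  rw [MulAction.index_stabilizer_of_transitive, Set.powersetCard.card,
    Nat.card_eq_fintype_card (α := α)] at h
  exact Dvd.intro _ h

theorem not_alternating_le {j : ℕ} (hno : ¬ MulAction.IsMultiplyPretransitive G α j)
    (hj : j + 2 ≤ Fintype.card α) : ¬ alternatingGroup α ≤ G := by
  intro hle
  apply hno
  have h := alternatingGroup.isMultiplyPretransitive (α := α)
  have : MulAction.IsMultiplyPretransitive G α (Nat.card α - 2) := by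
    refine ⟨fun x y => ?_⟩
    obtain ⟨g, hg⟩ := h.exists_smul_eq x y
    exact ⟨⟨g, hle g.2⟩, hg⟩
  exact MulAction.isMultiplyPretransitive_of_le
    (show j ≤ Nat.card α - 2 by rw [Nat.card_eq_fintype_card]; omega) (Nat.sub_le _ _)

theorem alternating_le_of_index_lt (hn : Fintype.card α ≠ 4) (h : G.index < Fintype.card α) :
    alternatingGroup α ≤ G := by
  classical
  obtain ⟨n, e⟩ : ∃ n, Nonempty (α ≃ Fin n) := ⟨_, ⟨Fintype.equivFin α⟩⟩
  obtain ⟨e⟩ := e
  have hcard : Fintype.card α = n := by rw [Fintype.card_congr e, Fintype.card_fin]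
  set H := G.map e.permCongrHom.toMonoidHom with hH
  have hidx : H.index = G.index := Subgroup.index_map_equiv G e.permCongrHom
  have hle : alternatingGroup (Fin n) ≤ H := by
    by_cases htop : H = ⊤
    · rw [htop]; exact le_top
    by_cases hA : H = alternatingGroup (Fin n)
    · rw [hA]
    have := Cfsg.Agent.S5944.result n (hcard ▸ hn) H htop hA
    omega
  intro g hg
  obtain ⟨g', hg', he⟩ := hle (show e.permCongrHom g ∈ alternatingGroup (Fin n) by
    rw [Perm.mem_alternatingGroup] at hg ⊢
    exact (Perm.sign_permCongr e g).trans hg)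
  rwa [← e.permCongrHom.injective he]

theorem support_card_le {j : ℕ} {g : Perm α} (x : Fin j ↪ α) (h : ∀ i, g (x i) = x i) :
    g.support.card ≤ Fintype.card α - j := by
  have : g.support ⊆ (univ.map x)ᶜ := fun a ha => by
    rw [mem_compl, mem_map]
    rintro ⟨i, -, rfl⟩
    exact Perm.mem_support.mp ha (h i)
  have := card_le_card this
  rwa [card_compl, card_map, card_univ, Fintype.card_fin] at this

theorem four_le_support (hP : MulAction.IsPreprimitive G α) (hA : ¬ alternatingGroup α ≤ G)
    {g : Perm α} (hg : g ∈ G) (h1 : g ≠ 1) : 4 ≤ g.support.card := by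
  by_contra h
  have h2 : 2 ≤ g.support.card := Perm.two_le_card_support_of_ne_one h1
  rcases (show g.support.card = 2 ∨ g.support.card = 3 by omega) with hc | hc
  · exact hA ((Perm.subgroup_eq_top_of_isPreprimitive_of_isSwap_mem hP g
      (Perm.card_support_eq_two.mp hc) hg).symm ▸ le_top)
  · exact hA (Perm.alternatingGroup_le_of_isPreprimitive_of_isThreeCycle_mem hP
      (card_support_eq_three_iff.mp hc) hg)

theorem tupleStab_eq_bot_of_three {j : ℕ} (hP : MulAction.IsPreprimitive G α)
    (hA : ¬ alternatingGroup α ≤ G) (hj : Fintype.card α ≤ j + 3) (x : Fin j ↪ α)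
    {g : Perm α} (hg : g ∈ G) (h : ∀ i, g (x i) = x i) : g = 1 := by
  by_contra h1
  have := four_le_support hP hA hg h1
  have := support_card_le x h
  omega

/-- The order of `G` when tuple stabilisers are trivial. -/
theorem card_eq_choose_mul_tupleGrp {j : ℕ} (hh : MulAction.IsPretransitive G (Set.powersetCard α j))
    (x : Fin j ↪ α) (hx : ∀ g ∈ G, (∀ i, g (x i) = x i) → g = 1) :
    Nat.card G = (Fintype.card α).choose j * Nat.card (tupleGrp G x) := by
  classical
  have := hh
  let s : Set.powersetCard α j := ⟨univ.map x, Set.powersetCard.mem_iff.mpr (by simp)⟩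
  rw [← (MulAction.stabilizer G s).index_mul_card,
    MulAction.index_stabilizer_of_transitive, Set.powersetCard.card,
    Nat.card_eq_fintype_card (α := α)]
  congr 1
  have hmem : ∀ g : MulAction.stabilizer G s, ∀ i, ∃ l, (g.1 : Perm α) (x i) = x l := by
    intro g i
    have he : g.1 • univ.map x = univ.map x := congrArg Subtype.val (MulAction.mem_stabilizer_iff.mp g.2)
    have hi : (g.1 : Perm α) (x i) ∈ univ.map x := by
      rw [← he]; exact smul_mem_smul_finset (a := g.1) (mem_map_of_mem x (mem_univ i))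
    obtain ⟨l, -, hl⟩ := mem_map.mp hi
    exact ⟨l, hl.symm⟩
  choose σ hσ using hmem
  have hinj : ∀ g, Function.Injective (σ g) := fun g a b e =>
    x.injective ((g.1 : Perm α).injective (by rw [hσ, hσ, e]))
  refine Nat.card_congr (Equiv.ofBijective (fun g => (⟨Equiv.ofBijective (σ g)
    (Finite.injective_iff_bijective.mp (hinj g)), (g.1 : Perm α), g.1.2, hσ g⟩ : tupleGrp G x)) ⟨?_, ?_⟩)
  · intro g h e
    have e' : σ g = σ h := congrArg (fun p : tupleGrp G x => ((p : Perm (Fin j)) : Fin j → Fin j)) e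
    have := hx ((h.1 : Perm α)⁻¹ * g.1) (mul_mem (inv_mem h.1.2) g.1.2) fun i => by
      rw [Perm.mul_apply, hσ, e', ← hσ h]; simp
    exact Subtype.ext (Subtype.ext (inv_mul_eq_one.mp this).symm)
  · rintro ⟨π, g, hg, hπ⟩
    have hs : (⟨g, hg⟩ : G) • s = s := by
      apply Subtype.ext
      show (⟨g, hg⟩ : G) • univ.map x = univ.map x
      refine eq_of_subset_of_card_le (fun a ha => ?_) (by rw [card_smul_finset])
      obtain ⟨b, hb, rfl⟩ := mem_smul_finset.mp ha
      obtain ⟨i, -, rfl⟩ := mem_map.mp hb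
      rw [Subgroup.smul_def, Perm.smul_def]
      show g (x i) ∈ _
      rw [hπ]
      exact mem_map_of_mem x (mem_univ _)
    exact ⟨⟨⟨g, hg⟩, hs⟩, Subtype.ext (Equiv.ext fun i => x.injective
      ((hσ ⟨⟨g, hg⟩, hs⟩ i).symm.trans (hπ i)))⟩

theorem succ_transitive {j : ℕ} (hT : MulAction.IsMultiplyPretransitive G α j) (x : Fin j ↪ α)
    (y : α) (h : ∀ z, z ∉ Set.range x → ∃ g ∈ tupleStab G x, g y = z) :
    MulAction.IsMultiplyPretransitive G α (j + 1) := by
  rw [MulAction.isMultiplyPretransitive_iff]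
  have key : ∀ a : Fin (j + 1) ↪ α, ∃ g : G,
      (∀ i : Fin j, (g : Perm α) (x i) = a i.castSucc) ∧ (g : Perm α) y = a (Fin.last j) := by
    intro a
    obtain ⟨g, hgG, hg⟩ := exists_map_tuple hT (Fintype.card_fin j) x (Fin.castSuccEmb.trans a)
    have hz : g⁻¹ (a (Fin.last j)) ∉ Set.range x := by
      rintro ⟨i, hi⟩
      have h2 : g (x i) = a (Fin.last j) := by rw [hi]; simp
      rw [hg] at h2
      exact Fin.castSucc_ne_last i (a.injective h2)
    obtain ⟨k, hk, hky⟩ := h _ hz
    obtain ⟨hkG, hkx⟩ := mem_tupleStab.mp hk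
    refine ⟨⟨g * k, mul_mem hgG hkG⟩, fun i => ?_, by simp [hky]⟩
    show g (k (x i)) = _
    rw [hkx, hg]; rfl
  intro a b
  obtain ⟨g, hg, hgy⟩ := key a
  obtain ⟨g', hg', hgy'⟩ := key b
  refine ⟨g' * g⁻¹, Function.Embedding.ext fun i => ?_⟩
  show (g' : Perm α) ((g : Perm α)⁻¹ (a i)) = b i
  induction i using Fin.lastCases with
  | last => rw [← hgy, Perm.inv_eq_iff_eq.mpr rfl, hgy']
  | cast i => rw [← hg, Perm.inv_eq_iff_eq.mpr rfl, hg']

theorem exists_five_cycle {j : ℕ} (x : Fin j ↪ α) (hn : Fintype.card α ≤ j + 6)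
    (h5 : 5 ∣ Nat.card (tupleStab G x)) :
    ∃ g ∈ tupleStab G x, g.IsCycle ∧ g.support.card = 5 := by
  have : Fact (Nat.Prime 5) := ⟨by norm_num⟩
  obtain ⟨g, hg⟩ := exists_prime_orderOf_dvd_card' (G := tupleStab G x) 5 h5
  have hg' : orderOf (g : Perm α) = 5 := by rw [Subgroup.orderOf_coe, hg]
  have hle := support_card_le x (mem_tupleStab.mp g.2).2
  have hc : (g : Perm α).IsCycle := Perm.isCycle_of_prime_order (by rw [hg']; norm_num) (by omega)
  exact ⟨g, g.2, hc, by rw [← hc.orderOf, hg']⟩

theorem transitive_succ_of_five {j : ℕ} (hT : MulAction.IsMultiplyPretransitive G α j)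
    (hn : Fintype.card α = j + 5) (x : Fin j ↪ α) (h5 : 5 ∣ Nat.card (tupleStab G x)) :
    MulAction.IsMultiplyPretransitive G α (j + 1) := by
  obtain ⟨g, hg, hc, hs⟩ := exists_five_cycle x (by omega) h5
  obtain ⟨hgG, hgx⟩ := mem_tupleStab.mp hg
  have hsub : g.support = (univ.map x)ᶜ := by
    refine eq_of_subset_of_card_le (fun a ha => ?_) ?_
    · rw [mem_compl, mem_map]
      rintro ⟨i, -, rfl⟩
      exact Perm.mem_support.mp ha (hgx i)
    · rw [card_compl, card_map, card_univ, Fintype.card_fin]; omega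
  obtain ⟨y, hy⟩ : g.support.Nonempty := card_pos.mp (by omega)
  refine succ_transitive hT x y fun z hz => ?_
  have hz' : z ∈ g.support := by rw [hsub]; simpa using hz
  obtain ⟨i, hi⟩ := hc.exists_pow_eq (Perm.mem_support.mp hy) (Perm.mem_support.mp hz')
  exact ⟨g ^ i, pow_mem hg i, hi⟩

theorem even_card_of_involution {β : Type*} (s : Finset β) (f : β → β) (hf : ∀ a ∈ s, f a ∈ s)
    (hne : ∀ a ∈ s, f a ≠ a) (hff : ∀ a ∈ s, f (f a) = a) : Even s.card := by
  have h : ∑ _a ∈ s, (1 : ZMod 2) = 0 :=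
    sum_involution (fun a _ => f a) (fun _ _ => by decide) (fun a ha _ => hne a ha) hf hff
  rw [sum_const, nsmul_one, ZMod.natCast_eq_zero_iff_even] at h
  exact h

theorem isPreprimitive_of_transitive {j : ℕ} (hj : 2 ≤ j) (hn : j ≤ Fintype.card α)
    (hT : MulAction.IsMultiplyPretransitive G α j) : MulAction.IsPreprimitive G α := by
  have := hT
  exact MulAction.isPreprimitive_of_is_two_pretransitive
    (MulAction.isMultiplyPretransitive_of_le hj (by rw [Nat.card_eq_fintype_card]; exact hn))

theorem eq_alternating_of_ne_top (hle : alternatingGroup α ≤ G) (hne : G ≠ ⊤) :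
    G = alternatingGroup α := by
  refine le_antisymm (fun g hg => ?_) hle
  by_contra hs
  refine hne (eq_top_iff.mpr fun h _ => ?_)
  rw [Perm.mem_alternatingGroup] at hs
  rcases Int.units_eq_one_or (Perm.sign h) with h1 | h1
  · exact hle (Perm.mem_alternatingGroup.mpr h1)
  · have := mul_mem (hle (Perm.mem_alternatingGroup.mpr
      (show Perm.sign (h * g⁻¹) = 1 by
        rw [map_mul, map_inv, h1, (Int.units_eq_one_or _).resolve_left hs]; rfl))) hg
    simpa using this

end Cfsg.Agent.Perm
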