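import Cfsg.Agent.S0960
import Cfsg.Agent.H69.M11.Unique
import Cfsg.Agent.H69.M11.TrivialInt
import Cfsg.Agent.CharBasic.Complete
import Cfsg.Agent.CharBasic.Kernel
import Cfsg.Agent.BlockBasic.Local
import Cfsg.Agent.BlockBasic.Basic
import Cfsg.Agent.H82.PrincipalBlock

/-!
The degrees of the irreducible characters of a simple group of order 7920, from the principal
blocks at the primes 5 and 11 and the sum of the squares of the degrees.
-/

namespace Cfsg.Agent.Perm.M11Degrees

open Finset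

universe u

variable {G : Type u} [Group G] [Finite G]

/-- A character value at an element of order dividing `p` is congruent to the degree. -/
theorem memLocalIdeal_apply_sub_one {p : ℕ} {M : Ideal Cfsg.AlgInt} (hM : Cfsg.IsPModular p M)
    {χ : G → ℂ} (hχ : Cfsg.IsCharacter G χ) {g : G} (hg : g ^ p = 1) :
    Cfsg.MemLocalIdeal M (χ g - χ 1) := by
  obtain ⟨n, ρ, rfl⟩ := hχ
  obtain ⟨b, μ, hb, hμ⟩ := CharBasic.exists_eigenbasis (f := ρ g) (m := p) hM.1.pos
    (by rw [← map_pow, hg, map_one])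
  have hv : ρ.character g = ∑ i, μ i := CharBasic.trace_eq_sum_of_eigenbasis b μ _ hb
  have h1 : ρ.character 1 = ∑ i : Fin (Module.finrank ℂ (Fin n → ℂ)), (1 : ℂ) := by
    rw [Representation.char_one]; simp
  rw [hv, h1, ← Finset.sum_sub_distrib]
  exact Finset.sum_induction _ (Cfsg.MemLocalIdeal M)
    (fun a b => BlockBasic.memLocalIdeal_add hM) (BlockBasic.memLocalIdeal_zero hM)
    fun i _ => H82.memLocalIdeal_sub_one_of_pow_eq_one hM (k := 1) (by rw [pow_one]; exact hμ i)

/-- If the elements of order `p` are self-centralizing then every character of degree prime to `p`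
lies in the principal block. -/
theorem mem_principalBlock {p : ℕ} [hp : Fact p.Prime] {M : Ideal Cfsg.AlgInt}
    (hM : Cfsg.IsPModular p M) (hpG : p ∣ Nat.card G)
    (hC : ∀ t : G, orderOf t = p → Nat.card (Subgroup.centralizer ({t} : Set G)) = p)
    (χ : Cfsg.IrrCharacter G) (hd : ¬ p ∣ Cfsg.charDegree (χ : G → ℂ)) :
    χ ∈ Cfsg.principalBlock M G := by
  rw [H82.mem_principalBlock_iff]
  intro g
  have hdeg : (χ : G → ℂ) 1 = (Cfsg.charDegree (χ : G → ℂ) : ℂ) :=
    BlockBasic.apply_one_eq_charDegree χ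
  set d := Cfsg.charDegree (χ : G → ℂ) with hdd
  have hd0 : (d : ℂ) ≠ 0 := by
    rw [← hdeg]; exact CharBasic.IsIrr.one_ne_zero χ.2
  have hinv := BlockBasic.memLocalRing_natCast_inv hM hd
  have hidx := Subgroup.card_mul_index (Subgroup.centralizer ({g} : Set G))
  have e : (((Subgroup.centralizer ({g} : Set G)).index : ℂ) -
      Cfsg.centralChar (χ : G → ℂ) g) =
      ((d : ℂ) - (χ : G → ℂ) g) * (d : ℂ)⁻¹ *
        ((Subgroup.centralizer ({g} : Set G)).index : ℂ) := by
    rw [Cfsg.centralChar, hdeg]; field_simp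
  rw [e]
  have hint : BlockBasic.locRing hM := ⟨_, BlockBasic.memLocalRing_of_isIntegral hM
    (BlockBasic.isIntegral_apply χ g)⟩
  by_cases hpc : p ∣ Nat.card (Subgroup.centralizer ({g} : Set G))
  · obtain ⟨t, ht⟩ := exists_prime_orderOf_dvd_card' p hpc
    have ht' : orderOf (t : G) = p := by rw [Subgroup.orderOf_coe, ht]
    have hgt : g ∈ Subgroup.centralizer ({(t : G)} : Set G) :=
      Subgroup.mem_centralizer_singleton_iff.2 (Subgroup.mem_centralizer_singleton_iff.1 t.2).symm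
    have hgp : g ^ p = 1 := by
      have := Subgroup.orderOf_dvd_natCard _ hgt
      rw [hC _ ht'] at this
      exact orderOf_dvd_iff_pow_eq_one.1 this
    have h := memLocalIdeal_apply_sub_one hM (CharBasic.IsIrr.isCharacter χ.2) hgp
    rw [hdeg] at h
    have h' := BlockBasic.memLocalIdeal_neg h
    rw [neg_sub] at h'
    have hr : Cfsg.MemLocalRing M ((d : ℂ)⁻¹ *
        ((Subgroup.centralizer ({g} : Set G)).index : ℂ)) :=
      BlockBasic.memLocalRing_mul hM hinv (BlockBasic.memLocalRing_natCast hM _)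
    rw [mul_assoc, mul_comm]
    exact BlockBasic.memLocalIdeal_mul hM hr h'
  · have hpi : p ∣ (Subgroup.centralizer ({g} : Set G)).index := by
      rw [← hidx] at hpG
      exact (hp.out.dvd_mul.1 hpG).resolve_left hpc
    refine BlockBasic.memLocalIdeal_mul hM ?_
      ((BlockBasic.memLocalIdeal_natCast_iff hM _).2 hpi)
    refine BlockBasic.memLocalRing_mul hM ?_ hinv
    rw [sub_eq_add_neg]
    exact BlockBasic.memLocalRing_add hM (BlockBasic.memLocalRing_natCast hM _)
      (BlockBasic.memLocalRing_neg (BlockBasic.memLocalRing_of_isIntegral hM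
        (BlockBasic.isIntegral_apply χ g)))

/-- The index of the centralizer of a Sylow subgroup of order `p` in its normalizer. -/
theorem relIndex_eq {p e : ℕ} [hp : Fact p.Prime] (P : Sylow p G) (hP : Nat.card P = p)
    (hN : Nat.card (Subgroup.normalizer ((P : Subgroup G) : Set G)) = p * e)
    (hC : ∀ t : G, orderOf t = p → Nat.card (Subgroup.centralizer ({t} : Set G)) = p) :
    (Subgroup.centralizer ((P : Subgroup G) : Set G)).relIndex
      (Subgroup.normalizer ((P : Subgroup G) : Set G)) = e := by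
  haveI : IsCyclic (P : Subgroup G) := isCyclic_of_prime_card hP
  have hle : (P : Subgroup G) ≤ Subgroup.centralizer ((P : Subgroup G) : Set G) := by
    intro g hg h hh
    have := (IsCyclic.commGroup (α := (P : Subgroup G))).mul_comm ⟨h, hh⟩ ⟨g, hg⟩
    exact congrArg Subtype.val this
  obtain ⟨t, ht⟩ := exists_prime_orderOf_dvd_card' (G := (P : Subgroup G)) p (by rw [hP])
  have ht' : orderOf (t : G) = p := by rw [Subgroup.orderOf_coe, ht]
  have hle' : Subgroup.centralizer ((P : Subgroup G) : Set G) ≤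
      Subgroup.centralizer ({(t : G)} : Set G) :=
    Subgroup.centralizer_le (Set.singleton_subset_iff.2 t.2)
  have h1 := Subgroup.card_le_of_le hle
  have h2 := Subgroup.card_le_of_le hle'
  rw [hC _ ht'] at h2
  have hc : Nat.card (Subgroup.centralizer ((P : Subgroup G) : Set G)) = p :=
    le_antisymm h2 (le_of_eq_of_le hP.symm h1)
  have h3 := Subgroup.card_mul_index ((Subgroup.centralizer ((P : Subgroup G) : Set G)).subgroupOf
    (Subgroup.normalizer ((P : Subgroup G) : Set G)))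
  rw [Nat.card_congr (Subgroup.subgroupOfEquivOfLe
      (Subgroup.centralizer_le_normalizer _)).toEquiv, hc, hN] at h3
  exact Nat.eq_of_mul_eq_mul_left hp.out.pos h3

/-- The characters of degree prime to `p`: their number and their degrees modulo `p`. -/
theorem count_prime_to {p e : ℕ} [hp : Fact p.Prime] (hodd : p ≠ 2) (hpG : p ∣ Nat.card G)
    (P : Sylow p G) (hP : Nat.card P = p)
    (hN : Nat.card (Subgroup.normalizer ((P : Subgroup G) : Set G)) = p * e) (he : ¬ p ∣ e)
    (hC : ∀ t : G, orderOf t = p → Nat.card (Subgroup.centralizer ({t} : Set G)) = p) :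
    Nat.card {χ : Cfsg.IrrCharacter G // ¬ p ∣ Cfsg.charDegree (χ : G → ℂ)} = e + (p - 1) / e ∧
      ∀ χ : Cfsg.IrrCharacter G, ¬ p ∣ Cfsg.charDegree (χ : G → ℂ) →
        (p : ℤ) ∣ (Cfsg.charDegree (χ : G → ℂ) : ℤ) - 1 ∨
        (p : ℤ) ∣ (Cfsg.charDegree (χ : G → ℂ) : ℤ) + 1 ∨
        (p : ℤ) ∣ (Cfsg.charDegree (χ : G → ℂ) : ℤ) - e ∨
        (p : ℤ) ∣ (Cfsg.charDegree (χ : G → ℂ) : ℤ) + e := by
  obtain ⟨M, hM⟩ := BlockBasic.exists_isPModular hp.out
  obtain ⟨hcard, hdeg⟩ := Cfsg.Agent.S0960.result p M hM hodd P hP e (relIndex_eq P hP hN hC)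
  have hdeg' : ∀ χ : Cfsg.IrrCharacter G, χ ∈ Cfsg.principalBlock M G →
      (p : ℤ) ∣ (Cfsg.charDegree (χ : G → ℂ) : ℤ) - 1 ∨
        (p : ℤ) ∣ (Cfsg.charDegree (χ : G → ℂ) : ℤ) + 1 ∨
        (p : ℤ) ∣ (Cfsg.charDegree (χ : G → ℂ) : ℤ) - e ∨
        (p : ℤ) ∣ (Cfsg.charDegree (χ : G → ℂ) : ℤ) + e := by
    intro χ hχ
    rcases hdeg χ hχ with h | h | h | h <;> have h' := (Int.modEq_iff_dvd.1 h.symm)
    · exact Or.inl h'
    · exact Or.inr (Or.inl (by simpa using h'))
    · exact Or.inr (Or.inr (Or.inl h'))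
    · exact Or.inr (Or.inr (Or.inr (by simpa using h')))
  refine ⟨?_, fun χ hχ => hdeg' χ (mem_principalBlock hM hpG hC χ hχ)⟩
  rw [← hcard]
  refine Nat.card_congr (Equiv.subtypeEquivRight fun χ => ⟨mem_principalBlock hM hpG hC χ, ?_⟩)
  intro hχ hdvd
  have hd : (p : ℤ) ∣ (Cfsg.charDegree (χ : G → ℂ) : ℤ) := Int.natCast_dvd_natCast.2 hdvd
  have hp1 : ¬ (p : ℤ) ∣ 1 := by
    intro h
    exact hp.out.not_dvd_one (Int.natCast_dvd_natCast.1 (by simpa using h))
  have hpe : ¬ (p : ℤ) ∣ (e : ℤ) := fun h => he (Int.natCast_dvd_natCast.1 h)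
  rcases hdeg' χ hχ with h | h | h | h
  · exact hp1 ((dvd_sub_right hd).1 h)
  · exact hp1 ((dvd_add_right hd).1 h)
  · exact hpe ((dvd_sub_right hd).1 h)
  · exact hpe ((dvd_add_right hd).1 h)

/-- A character of degree less than 8 is principal. -/
theorem degree_eq_one_of_lt_eight (hG : Cfsg.IsM11 G) (χ : Cfsg.IrrCharacter G)
    (hlt : Cfsg.charDegree (χ : G → ℂ) < 8) : (χ : G → ℂ) = fun _ => 1 := by
  classical
  haveI := hG.1
  haveI : Fact (Nat.Prime 3) := ⟨Nat.prime_three⟩
  cases nonempty_fintype G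
  let P : Sylow 3 G := default
  have hP := H69.M11.card_nine hG P
  cases nonempty_fintype (P : Subgroup G)
  obtain ⟨n, ρ, hρ⟩ := CharBasic.IsIrr.isCharacter χ.2
  let θ : ↥(P : Subgroup G) → ℂ := fun x => (χ : G → ℂ) x
  have hθ : Cfsg.IsCharacter (P : Subgroup G) θ :=
    ⟨n, ρ.comp (P : Subgroup G).subtype, by funext x; exact congrFun hρ (x : G)⟩
  have h9 : Fintype.card (P : Subgroup G) = 9 := by rw [← Nat.card_eq_fintype_card, hP]
  haveI : Nontrivial (P : Subgroup G) := Fintype.one_lt_card_iff_nontrivial.1 (by omega)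
  obtain ⟨x, hx⟩ := exists_ne (1 : (P : Subgroup G))
  set c := (χ : G → ℂ) x with hc
  have hconst : ∀ y : (P : Subgroup G), y ≠ 1 → θ y = c := by
    intro y hy
    obtain ⟨g, hg⟩ := isConj_iff.1 (H69.M11.isConj_three hG P x.2
      (fun h => hx (Subtype.ext h)) y.2 (fun h => hy (Subtype.ext h)))
    show (χ : G → ℂ) y = c
    rw [hc, ← hg, CharBasic.IsIrr.isClassFunction χ.2]
  have hdeg : (χ : G → ℂ) 1 = (Cfsg.charDegree (χ : G → ℂ) : ℂ) :=
    BlockBasic.apply_one_eq_charDegree χ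
  set d := Cfsg.charDegree (χ : G → ℂ) with hdd
  have hθe : ∀ y : (P : Subgroup G),
      θ y = c * 1 + ((d : ℂ) - c) * (if y = 1 then 1 else 0) := by
    intro y
    split_ifs with hy
    · subst hy; show (χ : G → ℂ) ((1 : (P : Subgroup G)) : G) = _
      rw [OneMemClass.coe_one, hdeg]; ring
    · rw [hconst y hy]; ring
  obtain ⟨ψ, hψ⟩ := CharBasic.exists_irr_ne_of_ne_one hx
  have hcomm : ∀ a b : (P : Subgroup G), a * b = b * a :=
    fun a b => Subtype.ext (H69.M11.sylow_three_comm hG P a a.2 b b.2)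
  have hψ1 : (ψ : ↥(P : Subgroup G) → ℂ) 1 = 1 :=
    CharBasic.commutative_iff_forall_linear.1 hcomm ψ
  have h0 : Cfsg.classInner (fun _ => (1 : ℂ)) (ψ : ↥(P : Subgroup G) → ℂ) = 0 :=
    CharBasic.classInner_irr_of_ne CharBasic.isIrrCharacter_one ψ.2
      (fun h => hψ (by rw [← h]))
  obtain ⟨a, ha⟩ := CharBasic.classInner_isChar_nat hθ
    (CharBasic.IsIrr.isCharacter CharBasic.isIrrCharacter_one)
  obtain ⟨b, hb⟩ := CharBasic.classInner_isChar_nat hθ (CharBasic.IsIrr.isCharacter ψ.2)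
  have hsum : ∀ (f : ↥(P : Subgroup G) → ℂ), ∑ y, θ y * f y =
      c * (∑ y, f y) + ((d : ℂ) - c) * f 1 := by
    intro f
    calc ∑ y, θ y * f y
        = ∑ y, (c * f y + ((d : ℂ) - c) * (if y = 1 then f y else 0)) := by
          refine Finset.sum_congr rfl fun y _ => ?_
          rw [hθe y]; split_ifs <;> ring
      _ = _ := by simp [Finset.sum_add_distrib, ← Finset.mul_sum]
  rw [CharBasic.classInner_def, hsum] at ha hb
  have hz : ∑ y : (P : Subgroup G), (starRingEnd ℂ) ((ψ : ↥(P : Subgroup G) → ℂ) y) = 0 := by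
    rw [CharBasic.classInner_def, mul_eq_zero] at h0
    have := h0.resolve_left (by simp [hP])
    simpa using this
  rw [hz, hψ1] at hb
  simp [h9] at ha hb
  have hab : (d : ℂ) = (a : ℂ) + 8 * (b : ℂ) := by linear_combination ha + 8 * hb
  have hab' : d = a + 8 * b := by exact_mod_cast hab
  have hb0 : b = 0 := by omega
  subst hb0
  have hcd : c = d := by
    push_cast at hb
    linear_combination (-9 : ℂ) * hb
  obtain ⟨K, hK, hmem, -⟩ := CharBasic.IsChar.exists_kernel (CharBasic.IsIrr.isCharacter χ.2)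
  have hxK : (x : G) ∈ K := (hmem _).2 (by rw [hdeg, ← hcd])
  rcases hK.eq_bot_or_eq_top with h | h
  · rw [h, Subgroup.mem_bot] at hxK
    exact absurd (Subtype.ext hxK) hx
  · by_contra hne
    have h1 := CharBasic.classInner_irr_of_ne χ.2 CharBasic.isIrrCharacter_one hne
    have hall : ∀ g : G, (χ : G → ℂ) g = (χ : G → ℂ) 1 :=
      fun g => (hmem g).1 (h ▸ Subgroup.mem_top g)
    rw [CharBasic.classInner_def] at h1
    simp [hall, CharBasic.IsIrr.one_ne_zero χ.2, Nat.card_pos.ne'] at h1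

set_option synthInstance.maxSize 10000 in
theorem finite_check : ∀ d < 89, d ∣ 7920 → 8 ≤ d →
    (d % 11 = 0 ∨ d % 11 = 1 ∨ d % 11 = 10 ∨ d % 11 = 5 ∨ d % 11 = 6) →
    (d % 5 = 0 ∨ d % 5 = 1 ∨ d % 5 = 4) →
    d ∈ ({1, 10, 11, 16, 44, 45, 55, 60, 66} : Finset ℕ) := by
  decide +kernel

set_option synthInstance.maxSize 10000 in
set_option synthInstance.maxHeartbeats 400000 in
theorem solve_check : ∀ (a : Fin 2) (b c : Fin 3) (d : Fin 4) (e f : Fin 5),
    f.1 + d.1 + b.1 ≤ 6 → f.1 + e.1 + a.1 ≤ 4 →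
    100 * (6 - f.1 - d.1 - b.1) + 121 * (4 - f.1 - e.1 - a.1) + 256 * f.1 + 1936 * e.1 +
      2025 * d.1 + 3025 * c.1 + 3600 * b.1 + 4356 * a.1 = 7919 →
    a.1 = 0 ∧ b.1 = 0 ∧ c.1 = 1 ∧ d.1 = 1 ∧ e.1 = 1 ∧ f.1 = 2 := by
  decide +kernel

/-- The only solution of the three degree equations. -/
theorem solve (n10 n11 n16 n44 n45 n55 n60 n66 : ℕ) (h11 : n10 + n16 + n45 + n60 = 6)
    (h5 : n11 + n16 + n44 + n66 = 4)
    (hsq : 100 * n10 + 121 * n11 + 256 * n16 + 1936 * n44 + 2025 * n45 + 3025 * n55 + 3600 * n60 +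
      4356 * n66 = 7919) :
    n10 = 3 ∧ n11 = 1 ∧ n16 = 2 ∧ n44 = 1 ∧ n45 = 1 ∧ n55 = 1 ∧ n60 = 0 ∧ n66 = 0 := by
  have h := solve_check ⟨n66, by omega⟩ ⟨n60, by omega⟩ ⟨n55, by omega⟩ ⟨n45, by omega⟩
    ⟨n44, by omega⟩ ⟨n16, by omega⟩ (by dsimp; omega) (by dsimp; omega)
    (by dsimp; rw [show 6 - n16 - n45 - n60 = n10 by omega, show 4 - n16 - n44 - n66 = n11 by omega]
        linarith)
  dsimp at h; omega

theorem degrees_of_isM11 (hG : Cfsg.IsM11 G) :
    Nat.card (Cfsg.IrrCharacter G) = 10 ∧ ∀ n : ℕ,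
      Nat.card {χ : Cfsg.IrrCharacter G // Cfsg.charDegree (χ : G → ℂ) = n} =
        (if n = 1 ∨ n = 11 ∨ n = 44 ∨ n = 45 ∨ n = 55 then 1
          else if n = 10 then 3 else if n = 16 then 2 else 0) := by
  classical
  haveI := hG.1
  haveI h11 : Fact (Nat.Prime 11) := ⟨by norm_num⟩
  haveI h5 : Fact (Nat.Prime 5) := ⟨Nat.prime_five⟩
  haveI : Finite (Cfsg.IrrCharacter G) := CharBasic.finite_irrCharacter
  cases nonempty_fintype G
  let P : Sylow 11 G := default
  let Q : Sylow 5 G := default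
  obtain ⟨hn11, hd11⟩ := count_prime_to (e := 5) (by norm_num) (by rw [hG.2]; norm_num) P
    (H69.M11.card_eleven hG P) (H69.M11.card_normalizer_eleven hG P) (by norm_num)
    (fun t ht => by
      have hc : Nat.card (Subgroup.zpowers t) = 11 ^ 1 := by rw [Nat.card_zpowers, ht, pow_one]
      obtain ⟨R, hR⟩ := (IsPGroup.of_card hc).exists_le_sylow
      have heq : Subgroup.zpowers t = R :=
        Subgroup.eq_of_le_of_card_ge hR (by rw [H69.M11.card_eleven hG R, hc, pow_one])
      rw [← H69.M11.centralizer_eq_of_zpowers heq, H69.M11.centralizer_eleven hG R,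
        H69.M11.card_eleven hG R])
  obtain ⟨hn5, hd5⟩ := count_prime_to (e := 4) (by norm_num) (by rw [hG.2]; norm_num) Q
    (H69.M11.card_five hG Q) (H69.M11.card_normalizer_five hG Q) (by norm_num)
    (fun t ht => H69.M11.card_centralizer_five' hG ht)
  let deg : Cfsg.IrrCharacter G → ℕ := fun χ => Cfsg.charDegree (χ : G → ℂ)
  let one : Cfsg.IrrCharacter G := ⟨fun _ => 1, CharBasic.isIrrCharacter_one⟩
  have hone : deg one = 1 := by simp [deg, one, Cfsg.charDegree]
  have hsq : ∑ χ, deg χ ^ 2 = 7920 := by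
    have h := CharBasic.sum_sq_degree (G := G)
    simp only [BlockBasic.apply_one_eq_charDegree] at h
    rw [hG.2] at h
    exact_mod_cast h
  let T : Finset ℕ := {1, 10, 11, 16, 44, 45, 55, 60, 66}
  have hT : ∀ χ, deg χ ∈ T := by
    intro χ
    have hdd : deg χ = Cfsg.charDegree (χ : G → ℂ) := rfl
    by_cases h1 : χ = one
    · rw [h1, hone]; decide
    · refine finite_check _ ?_ (hG.2 ▸ BlockBasic.charDegree_dvd χ) ?_ ?_ ?_
      · have h2 : deg χ ^ 2 ≤ 7920 :=
          hsq ▸ Finset.single_le_sum (f := fun χ => deg χ ^ 2) (fun _ _ => Nat.zero_le _)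
            (Finset.mem_univ χ)
        by_contra hc
        have : 89 ^ 2 ≤ deg χ ^ 2 := Nat.pow_le_pow_left (by omega) 2
        omega
      · by_contra hc
        exact h1 (Subtype.ext (degree_eq_one_of_lt_eight hG χ (by omega)))
      · by_cases hd : 11 ∣ deg χ
        · exact Or.inl (Nat.mod_eq_zero_of_dvd hd)
        · rcases hd11 χ hd with h | h | h | h <;> push_cast at h <;> omega
      · by_cases hd : 5 ∣ deg χ
        · exact Or.inl (Nat.mod_eq_zero_of_dvd hd)
        · rcases hd5 χ hd with h | h | h | h <;> push_cast at h <;> omega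
  have hN1 : (univ.filter fun χ => deg χ = 1).card = 1 := by
    rw [Finset.card_eq_one]
    refine ⟨one, Finset.ext fun χ => ?_⟩
    simp only [Finset.mem_filter, Finset.mem_univ, true_and, Finset.mem_singleton]
    exact ⟨fun h => Subtype.ext (degree_eq_one_of_lt_eight hG χ (by simp only [deg] at h; omega)),
      fun h => h ▸ hone⟩
  have hfib : ∀ f : ℕ → ℕ, ∑ χ, f (deg χ) =
      ∑ m ∈ T, (univ.filter fun χ => deg χ = m).card * f m := by
    intro f
    rw [← Finset.sum_fiberwise_of_maps_to (t := T) (g := deg) (fun χ _ => hT χ)]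
    refine Finset.sum_congr rfl fun m _ => ?_
    rw [Finset.sum_congr rfl (g := fun _ => f m) (fun χ hχ => by rw [(Finset.mem_filter.1 hχ).2]),
      Finset.sum_const, smul_eq_mul]
  have e1 := hfib fun m => m ^ 2
  have e2 := hfib fun m => if 11 ∣ m then 0 else 1
  have e3 := hfib fun m => if 5 ∣ m then 0 else 1
  have e4 := hfib fun _ => 1
  have c2 : ∑ χ, (if 11 ∣ deg χ then 0 else 1 : ℕ) = 7 := by
    rw [Finset.sum_ite, Finset.sum_const_zero, zero_add, Finset.sum_const, smul_eq_mul, mul_one,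
      ← Fintype.card_subtype, ← Nat.card_eq_fintype_card]
    exact hn11
  have c3 : ∑ χ, (if 5 ∣ deg χ then 0 else 1 : ℕ) = 5 := by
    rw [Finset.sum_ite, Finset.sum_const_zero, zero_add, Finset.sum_const, smul_eq_mul, mul_one,
      ← Fintype.card_subtype, ← Nat.card_eq_fintype_card]
    exact hn5
  rw [hsq] at e1
  rw [c2] at e2
  rw [c3] at e3
  simp [T, hN1] at e1 e2 e3 e4
  obtain ⟨r10, r11, r16, r44, r45, r55, r60, r66⟩ := solve
    (univ.filter fun χ => deg χ = 10).card (univ.filter fun χ => deg χ = 11).card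
    (univ.filter fun χ => deg χ = 16).card (univ.filter fun χ => deg χ = 44).card
    (univ.filter fun χ => deg χ = 45).card (univ.filter fun χ => deg χ = 55).card
    (univ.filter fun χ => deg χ = 60).card (univ.filter fun χ => deg χ = 66).card
    (by linarith) (by linarith) (by linarith)
  refine ⟨?_, fun n => ?_⟩
  · rw [Nat.card_eq_fintype_card]; linarith
  · rw [Nat.card_eq_fintype_card, Fintype.card_subtype]
    show (univ.filter fun χ => deg χ = n).card = _
    by_cases hn : n ∈ T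
    · simp only [T, Finset.mem_insert, Finset.mem_singleton] at hn
      rcases hn with rfl | rfl | rfl | rfl | rfl | rfl | rfl | rfl | rfl <;>
        simp [hN1, r10, r11, r16, r44, r45, r55, r60, r66]
    · have h0 : (univ.filter fun χ => deg χ = n).card = 0 := by
        rw [Finset.card_eq_zero, Finset.filter_eq_empty_iff]
        exact fun χ _ h => hn (h ▸ hT χ)
      simp only [T, Finset.mem_insert, Finset.mem_singleton, not_or] at hn
      rw [h0]; split_ifs <;> omega

end Cfsg.Agent.Perm.M11Degrees
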