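import Mathlib.GroupTheory.GroupAction.SubMulAction.Combination
import Mathlib.GroupTheory.Sylow
import Mathlib.GroupTheory.SpecificGroups.Cyclic

/-!
Wielandt's proof of Sylow's existence theorem: the number of subgroups of a given prime power
order is congruent to one.
-/

set_option autoImplicit false
set_option linter.style.haveILetI false

open MulAction
open scoped Pointwise

namespace Cfsg.Agent.Perm

universe u

variable {G : Type u} [Group G] [Finite G]

theorem card_stabilizer_dvd_of_left {k : ℕ} [DecidableEq G] (S : Set.powersetCard G k) :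
    Nat.card (stabilizer G S) ∣ k := by
  classical
  letI : MulAction (stabilizer G S) {x : G // x ∈ (S : Finset G)} :=
    { smul := fun g x => ⟨(g : G) * x.1, by
        have h := congrArg Subtype.val g.2
        rw [Set.powersetCard.coe_smul] at h
        exact (Finset.ext_iff.mp h _).mp (Finset.smul_mem_smul_finset x.2)⟩
      one_smul := fun x => Subtype.ext (one_mul x.1)
      mul_smul := fun g h x => Subtype.ext (mul_assoc (g : G) (h : G) x.1) }
  have hfree : ∀ x : {x : G // x ∈ (S : Finset G)}, stabilizer (stabilizer G S) x = ⊥ := by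
    intro x
    rw [eq_bot_iff]
    intro g hg
    rw [Subgroup.mem_bot]
    apply Subtype.ext
    have h : (g : G) * x.1 = x.1 := congrArg Subtype.val hg
    simpa using h
  have hS : Nat.card {x : G // x ∈ (S : Finset G)} = k := by
    rw [Nat.card_eq_fintype_card, Fintype.card_coe]
    exact Set.powersetCard.card_eq S
  refine dvd_trans ?_ (dvd_of_eq hS)
  rw [Nat.card_congr (selfEquivSigmaOrbitsQuotientStabilizer (stabilizer G S)
    {x : G // x ∈ (S : Finset G)}), Nat.card_sigma]
  refine Finset.dvd_sum fun ω _ => ?_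
  rw [← Subgroup.index_eq_card, hfree, Subgroup.index_bot]

theorem choose_modEq (p β m : ℕ) (hp : p.Prime) (hn : Nat.card G = p ^ β * m) :
    (Nat.card G).choose (p ^ β) ≡
      m * Nat.card {H : Subgroup G // Nat.card H = p ^ β} [MOD p * m] := by
  classical
  haveI := Fintype.ofFinite G
  let X := Set.powersetCard G (p ^ β)
  let Ω := orbitRel.Quotient G X
  haveI := Fintype.ofFinite Ω
  have hX : Nat.card X = (Nat.card G).choose (p ^ β) := by
    rw [Set.powersetCard.card]
  rw [← hX, Nat.card_congr (selfEquivSigmaOrbitsQuotientStabilizer G X), Nat.card_sigma]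
  let P : Ω → Prop := fun ω => Nat.card (stabilizer G ω.out) = p ^ β
  rw [← Finset.sum_filter_add_sum_filter_not Finset.univ P]
  have hP : ∀ ω ∈ Finset.univ.filter P, Nat.card (G ⧸ stabilizer G ω.out) = m := by
    intro ω hω
    simp only [Finset.mem_filter, Finset.mem_univ, true_and, P] at hω
    rw [← Subgroup.index_eq_card]
    have h := (stabilizer G ω.out).card_mul_index
    rw [hω, hn] at h
    exact Nat.eq_of_mul_eq_mul_left (pow_pos hp.pos β) h
  have hN : (Finset.univ.filter P).card = Nat.card {H : Subgroup G // Nat.card H = p ^ β} := by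
    rw [← Fintype.card_subtype, ← Nat.card_eq_fintype_card]
    symm
    let toX : {H : Subgroup G // Nat.card H = p ^ β} → X := fun H =>
      ⟨(H.1 : Set G).toFinset, by
        show ((H.1 : Set G).toFinset).card = p ^ β
        rw [Set.toFinset_card, ← Nat.card_eq_fintype_card]
        exact H.2⟩
    have hmem : ∀ H (x : G), x ∈ ((toX H : X) : Finset G) ↔ x ∈ H.1 := fun H x => Set.mem_toFinset
    have hstab : ∀ H, stabilizer G (toX H) = H.1 := by
      intro H
      ext g
      rw [mem_stabilizer_iff]
      constructor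
      · intro h
        have h1 : g • (1 : G) ∈ ((g • toX H : X) : Finset G) := by
          rw [Set.powersetCard.coe_smul]
          exact Finset.smul_mem_smul_finset ((hmem H 1).mpr H.1.one_mem)
        rw [h, hmem, smul_eq_mul, mul_one] at h1
        exact h1
      · intro hg
        apply Subtype.ext
        ext x
        rw [Set.powersetCard.coe_smul, ← Finset.inv_smul_mem_iff, hmem, hmem, smul_eq_mul]
        exact H.1.mul_mem_cancel_left (H.1.inv_mem hg)
    let f : {H : Subgroup G // Nat.card H = p ^ β} → {ω : Ω // P ω} := fun H =>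
      ⟨Quotient.mk'' (toX H), by
        show Nat.card (stabilizer G (Quotient.mk'' (toX H) : Ω).out) = p ^ β
        have hrel : (Quotient.mk'' (toX H) : Ω).out ∈ orbit G (toX H) := by
          rw [← orbitRel_apply]
          exact Quotient.mk_out (toX H)
        obtain ⟨g, hg⟩ := hrel
        rw [← hg, stabilizer_smul_eq_stabilizer_map_conj,
          Subgroup.card_map_of_injective (MulEquiv.injective _), hstab]
        exact H.2⟩
    refine Nat.card_eq_of_bijective f ⟨fun H H' h => ?_, fun ω => ?_⟩
    · have h' : toX H ∈ orbit G (toX H') := by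
        rw [← orbitRel_apply]
        exact Quotient.exact' (congrArg Subtype.val h)
      obtain ⟨g, hg⟩ := h'
      have hg' : g • toX H' = toX H := hg
      have h1 : g⁻¹ ∈ H'.1 := by
        have h1 : (1 : G) ∈ ((g • toX H' : X) : Finset G) := by
          rw [hg', hmem]; exact H.1.one_mem
        rw [Set.powersetCard.coe_smul, ← Finset.inv_smul_mem_iff, hmem, smul_eq_mul, mul_one] at h1
        exact h1
      have hgmem : g ∈ stabilizer G (toX H') := by rw [hstab]; exact inv_mem_iff.mp h1
      rw [mem_stabilizer_iff, hg'] at hgmem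
      exact Subtype.ext (by rw [← hstab H, hgmem, hstab])
    · obtain ⟨ω, hω⟩ := ω
      set S := ω.out with hS
      have hω' : Nat.card (stabilizer G S) = p ^ β := hω
      obtain ⟨x, hx⟩ : ((S : X) : Finset G).Nonempty := by
        rw [← Finset.card_pos, Set.powersetCard.card_eq]; exact pow_pos hp.pos β
      let H : Subgroup G := stabilizer G (x⁻¹ • S)
      have hHc : Nat.card H = p ^ β := by
        show Nat.card (stabilizer G (x⁻¹ • S)) = _
        rw [stabilizer_smul_eq_stabilizer_map_conj,
          Subgroup.card_map_of_injective (MulEquiv.injective _), hω']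
      refine ⟨⟨H, hHc⟩, Subtype.ext ?_⟩
      show (Quotient.mk'' (toX ⟨H, hHc⟩) : Ω) = ω
      rw [← Quotient.out_eq' ω, Quotient.eq'', orbitRel_apply]
      refine ⟨x⁻¹, ?_⟩
      show x⁻¹ • S = toX ⟨H, hHc⟩
      apply Subtype.ext
      symm
      refine Finset.eq_of_subset_of_card_le (fun y hy => ?_) ?_
      · rw [hmem] at hy
        have h1 : (1 : G) ∈ ((x⁻¹ • S : X) : Finset G) := by
          rw [Set.powersetCard.coe_smul, ← Finset.inv_smul_mem_iff, inv_inv, smul_eq_mul, mul_one]
          exact hx
        have h2 := Finset.smul_mem_smul_finset (a := y) h1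
        rw [← Set.powersetCard.coe_smul, show y • (x⁻¹ • S) = x⁻¹ • S from hy, smul_eq_mul, mul_one]
          at h2
        exact h2
      · rw [Set.powersetCard.card_eq, Set.powersetCard.card_eq]
  rw [Finset.sum_congr rfl hP, Finset.sum_const, smul_eq_mul, hN,
    Nat.mul_comm (Nat.card {H : Subgroup G // Nat.card H = p ^ β}) m]
  have hdvd : p * m ∣
      ∑ ω ∈ Finset.univ.filter (fun ω => ¬ P ω), Nat.card (G ⧸ stabilizer G ω.out) := by
    refine Finset.dvd_sum fun ω hω => ?_
    simp only [Finset.mem_filter, Finset.mem_univ, true_and, P] at hω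
    obtain ⟨j, hj, hjc⟩ := (Nat.dvd_prime_pow hp).mp (card_stabilizer_dvd_of_left ω.out)
    have hjlt : j < β := lt_of_le_of_ne hj fun h => hω (by rw [hjc, h])
    rw [← Subgroup.index_eq_card]
    have h := (stabilizer G ω.out).card_mul_index
    obtain ⟨d, rfl⟩ : ∃ d, β = j + 1 + d := ⟨β - (j + 1), by omega⟩
    rw [hjc, hn, show p ^ (j + 1 + d) * m = p ^ j * (p * m * p ^ d) by ring] at h
    rw [Nat.eq_of_mul_eq_mul_left (pow_pos hp.pos j) h]
    exact dvd_mul_right _ _
  unfold Nat.ModEq
  rw [Nat.add_mod, Nat.mod_eq_zero_of_dvd hdvd, add_zero, Nat.mod_mod]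

/-- The number of subgroups of order `p ^ β` is congruent to one modulo `p`. -/
theorem card_subgroups_modEq_one (p β : ℕ) (hp : p.Prime) (hdiv : p ^ β ∣ Nat.card G) :
    Nat.card {H : Subgroup G // Nat.card H = p ^ β} ≡ 1 [MOD p] := by
  classical
  obtain ⟨m, hn⟩ := hdiv
  have hm : 0 < m := by
    rcases Nat.eq_zero_or_pos m with h | h
    · rw [h, mul_zero] at hn; exact absurd hn Nat.card_pos.ne'
    · exact h
  haveI : NeZero (Nat.card G) := ⟨Nat.card_pos.ne'⟩
  let C := Multiplicative (ZMod (Nat.card G))
  have hC : Nat.card C = p ^ β * m := by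
    rw [Nat.card_congr Multiplicative.toAdd, Nat.card_zmod, hn]
  have hone : Nat.card {H : Subgroup C // Nat.card H = p ^ β} = 1 := by
    haveI : Fact p.Prime := ⟨hp⟩
    obtain ⟨H0, hH0⟩ := Sylow.exists_subgroup_card_pow_prime (G := C) p (hC ▸ dvd_mul_right _ m)
    rw [Nat.card_eq_one_iff_unique]
    refine ⟨⟨fun H H' => Subtype.ext ?_⟩, ⟨⟨H0, hH0⟩⟩⟩
    have key : ∀ K : {H : Subgroup C // Nat.card H = p ^ β},
        (K.1 : Set C).toFinset = Finset.univ.filter (fun x : C => x ^ (p ^ β) = 1) := by
      intro K
      refine Finset.eq_of_subset_of_card_le (fun x hx => ?_) ?_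
      · rw [Set.mem_toFinset] at hx
        rw [Finset.mem_filter]
        refine ⟨Finset.mem_univ x, ?_⟩
        have := pow_card_eq_one' (x := (⟨x, hx⟩ : K.1))
        rw [K.2] at this
        exact congrArg Subtype.val this
      · rw [Set.toFinset_card, ← Nat.card_eq_fintype_card]
        refine (IsCyclic.card_pow_eq_one_le (pow_pos hp.pos β)).trans (le_of_eq ?_)
        exact K.2.symm
    exact SetLike.coe_injective (Set.toFinset_inj.mp ((key H).trans (key H').symm))
  have h1 := choose_modEq (G := C) p β m hp hC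
  rw [hone, mul_one, hC, ← hn] at h1
  have h2 := (choose_modEq (G := G) p β m hp hn).symm.trans h1
  refine Nat.ModEq.mul_right_cancel' hm.ne' (c := m) ?_
  rw [one_mul, Nat.mul_comm (Nat.card {H : Subgroup G // Nat.card H = p ^ β}) m]
  exact h2

/-- In a `p`-group the number of normal subgroups of a given order is congruent to one. -/
theorem card_normal_subgroups_modEq_one (p m s : ℕ) (hp : p.Prime) (hG : Nat.card G = p ^ m)
    (hs : s ≤ m) :
    Nat.card {H : Subgroup G // H.Normal ∧ Nat.card H = p ^ s} ≡ 1 [MOD p] := by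
  haveI : Fact p.Prime := ⟨hp⟩
  let T := {H : Subgroup G // Nat.card H = p ^ s}
  letI : MulAction (ConjAct G) T :=
    { smul := fun g H => ⟨g • H.1, (Nat.card_congr (Subgroup.equivSMul g H.1).toEquiv).symm.trans H.2⟩
      one_smul := fun H => Subtype.ext (one_smul _ H.1)
      mul_smul := fun g h H => Subtype.ext (mul_smul g h H.1) }
  have hP : IsPGroup p (ConjAct G) := IsPGroup.of_card (n := m) hG
  have h := hP.card_modEq_card_fixedPoints T
  have e : Nat.card (fixedPoints (ConjAct G) T) =
      Nat.card {H : Subgroup G // H.Normal ∧ Nat.card H = p ^ s} := by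
    refine Nat.card_congr
      ⟨fun H => ⟨H.1.1, ⟨fun n hn g => ?_⟩, H.1.2⟩, fun H => ⟨⟨H.1, H.2.2⟩, fun g => ?_⟩,
        fun H => rfl, fun H => rfl⟩
    · have h1 : ConjAct.toConjAct g • H.1.1 = H.1.1 := congrArg Subtype.val (H.2 (ConjAct.toConjAct g))
      have h2 := Subgroup.smul_mem_pointwise_smul n (ConjAct.toConjAct g) H.1.1 hn
      rw [h1, ConjAct.smul_def] at h2
      exact h2
    · haveI := H.2.1
      exact Subtype.ext (H.2.1.conjAct g)
  rw [← e]
  exact h.symm.trans (card_subgroups_modEq_one p s hp (hG ▸ pow_dvd_pow p hs))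

end Cfsg.Agent.Perm
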