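import Mathlib.FieldTheory.Finite.Basic
import Mathlib.RingTheory.Polynomial.Cyclotomic.Factorization
import Mathlib.RingTheory.AdjoinRoot
import Mathlib.RingTheory.Artinian.Ring
import Mathlib.LinearAlgebra.Dual.Lemmas
import Mathlib.LinearAlgebra.FreeModule.Basic
import Mathlib.LinearAlgebra.Basis.VectorSpace

/-!
An operator of prime order `q` on a finite `ZMod p`-space whose semilinear centraliser is
transitive on non-zero vectors, and the converse construction.
-/

set_option autoImplicit false
set_option linter.style.haveILetI false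

set_option linter.deprecated false

open Polynomial

namespace Cfsg.Agent.Perm

section Forward

variable {p : ℕ} [Fact p.Prime] {V : Type*} [AddCommGroup V] [Module (ZMod p) V] [Finite V]

/-- If the semilinear centraliser of `T` is transitive on non-zero vectors, `ZMod p[T]` is a field
and every automorphism `T ↦ T ^ i` is a Frobenius power. -/
theorem exists_pow_modEq {q : ℕ} (hq : q.Prime) (T : Module.End (ZMod p) V)
    (hT : T ^ q = 1) (hT1 : T ≠ 1) (hV : ∃ v : V, v ≠ 0)
    (htrans : ∀ v w : V, v ≠ 0 → w ≠ 0 → ∃ (f : V ≃ₗ[ZMod p] V) (i : ℕ), ¬ q ∣ i ∧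
      (∀ x, f (T x) = (T ^ i) (f x)) ∧ f v = w)
    (hall : ∀ i : ℕ, ¬ q ∣ i → ∃ f : V ≃ₗ[ZMod p] V, ∀ x, f (T x) = (T ^ i) (f x)) :
    ∀ i : ℕ, ¬ q ∣ i → ∃ n : ℕ, p ^ n ≡ i [MOD q] := by
  classical
  let A : Subalgebra (ZMod p) (Module.End (ZMod p) V) := Algebra.adjoin (ZMod p) {T}
  haveI : Finite (Module.End (ZMod p) V) := Module.finite_of_finite (ZMod p)
  haveI : Finite A := Finite.of_injective _ Subtype.val_injective
  letI : CommRing A := Algebra.adjoinCommRingOfComm (ZMod p) (s := {T}) (by simp)
  have hTA : T ∈ A := Algebra.subset_adjoin rfl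
  -- the automorphisms induced on `A`
  have key : ∀ (f : V ≃ₗ[ZMod p] V) (i : ℕ), (∀ x, f (T x) = (T ^ i) (f x)) →
      ∃ σ : A →ₐ[ZMod p] A, Function.Injective σ ∧
        (∀ (a : A) (x : V), f ((a : Module.End (ZMod p) V) x) =
          (σ a : Module.End (ZMod p) V) (f x)) ∧
        (σ ⟨T, hTA⟩ : Module.End (ZMod p) V) = T ^ i := by
    intro f i hf
    let e := f.conjAlgEquiv (ZMod p)
    have he : ∀ a x, e a (f x) = f (a x) := fun a x => by
      simp [e, LinearEquiv.conjAlgEquiv_apply]
    have heT : e T = T ^ i := by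
      refine LinearMap.ext fun y => ?_
      obtain ⟨x, rfl⟩ := f.surjective y
      rw [he, hf]
    have hmem : ∀ a : A, e (a : Module.End (ZMod p) V) ∈ A := by
      intro a
      have h1 : A.map e.toAlgHom ≤ A := by
        rw [AlgHom.map_adjoin_singleton, Algebra.adjoin_le_iff]
        simp only [Set.singleton_subset_iff]
        show e T ∈ A
        rw [heT]
        exact A.pow_mem hTA i
      exact h1 ⟨a, a.2, rfl⟩
    refine ⟨(e.toAlgHom.comp A.val).codRestrict A hmem, ?_, ?_, heT⟩
    · intro a b hab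
      exact Subtype.ext (e.injective (congrArg Subtype.val hab))
    · intro a x
      exact (he _ _).symm
  let ann : V → Ideal A := fun v =>
    { carrier := {a | (a : Module.End (ZMod p) V) v = 0}
      add_mem' := by intro a b ha hb; simp only [Set.mem_ofPred_eq] at *; simp [ha, hb]
      zero_mem' := by simp
      smul_mem' := by
        intro c a ha
        simp only [Set.mem_ofPred_eq] at *
        show ((c * a : A) : Module.End (ZMod p) V) v = 0
        rw [Subalgebra.coe_mul, Module.End.mul_apply, ha, map_zero] }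
  have hann : ∀ v (a : A), a ∈ ann v ↔ (a : Module.End (ZMod p) V) v = 0 := fun v a => Iff.rfl
  obtain ⟨v0, hv0⟩ := hV
  obtain ⟨v, hv, hvmax⟩ : ∃ v : V, v ≠ 0 ∧ ∀ w : V, w ≠ 0 → ann v ≤ ann w → ann w ≤ ann v := by
    haveI : Finite (Ideal A) := Finite.of_injective (fun I : Ideal A => (I : Set A))
      SetLike.coe_injective
    obtain ⟨I, hI⟩ := ({I | ∃ v : V, v ≠ 0 ∧ ann v = I} : Set (Ideal A)).toFinite.exists_maximal
      ⟨_, v0, hv0, rfl⟩
    obtain ⟨v, hv, rfl⟩ := hI.prop
    exact ⟨v, hv, fun w hw hle => hI.le_of_ge ⟨w, hw, rfl⟩ hle⟩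
  have hvprime : (ann v).IsPrime := by
    refine ⟨fun h => hv ?_, fun {a b} hab => ?_⟩
    · have : (1 : A) ∈ ann v := h ▸ Submodule.mem_top
      simpa [hann] using this
    · by_cases hb : b ∈ ann v
      · exact .inr hb
      · refine .inl ?_
        rw [hann] at hb
        have hle : ann v ≤ ann ((b : Module.End (ZMod p) V) v) := by
          intro c hc
          rw [hann] at hc ⊢
          rw [← Module.End.mul_apply, ← Subalgebra.coe_mul, mul_comm, Subalgebra.coe_mul,
            Module.End.mul_apply, hc, map_zero]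
        refine hvmax _ hb hle ?_
        rw [hann]
        rw [hann, Subalgebra.coe_mul, Module.End.mul_apply] at hab
        exact hab
  have hmaxall : ∀ w : V, w ≠ 0 → (ann w).IsMaximal := by
    intro w hw
    haveI := hvprime
    haveI : IsArtinianRing A := inferInstance
    have hvm : (ann v).IsMaximal := inferInstance
    obtain ⟨f, i, -, hf, rfl⟩ := htrans v w hv hw
    obtain ⟨σ, hσinj, hσ, -⟩ := key f i hf
    let se : A ≃+* A := RingEquiv.ofBijective σ
      ⟨hσinj, Finite.surjective_of_injective hσinj⟩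
    have : ann (f v) = Ideal.comap se.symm (ann v) := by
      ext a
      obtain ⟨b, rfl⟩ := se.surjective a
      rw [Ideal.mem_comap, RingEquiv.symm_apply_apply, hann, hann]
      show (σ b : Module.End (ZMod p) V) (f v) = 0 ↔ _
      rw [← hσ, LinearEquiv.map_eq_zero_iff]
    rw [this]
    exact Ideal.comap_isMaximal_of_surjective se.symm se.symm.surjective
  have hinj : ∀ (a : A) (u : V), u ≠ 0 → (a : Module.End (ZMod p) V) u = 0 → a = 0 := by
    intro a u hu hau
    apply Subtype.ext
    refine LinearMap.ext fun w => ?_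
    show (a : Module.End (ZMod p) V) w = 0
    by_cases hw : w = 0
    · simp [hw]
    by_contra haw
    have huw : u + w ≠ 0 := by
      intro h
      rw [eq_neg_of_add_eq_zero_right h, map_neg, hau, neg_zero] at haw
      exact haw rfl
    have hinf : ann u * ann w ≤ ann (u + w) := by
      rw [Ideal.mul_le]
      intro r hr s hs
      rw [hann] at hr hs ⊢
      rw [map_add, Subalgebra.coe_mul, Module.End.mul_apply, Module.End.mul_apply, hs, map_zero,
        add_zero]
      rw [← Module.End.mul_apply, ← Subalgebra.coe_mul, mul_comm, Subalgebra.coe_mul,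
        Module.End.mul_apply, hr, map_zero]
    have h3 := (hmaxall _ huw).isPrime
    rcases h3.mul_le.mp hinf with h | h
    · have he := (hmaxall u hu).eq_of_le h3.ne_top h
      have : a ∈ ann (u + w) := he ▸ (hann u a).mpr hau
      rw [hann, map_add, hau, zero_add] at this
      exact haw this
    · have he := (hmaxall w hw).eq_of_le h3.ne_top h
      apply haw
      rw [← hann, he]
      by_contra hne
      have hne' : a ∉ ann w := fun h' => haw ((hann w a).mp h')
      have h4 : ann w ≤ ann u := by
        intro c hc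
        rw [hann] at hc ⊢
        have h5 : c ∈ ann (u + w) := he ▸ (hann w c).mpr hc
        rw [hann, map_add, hc, add_zero] at h5
        exact h5
      have he2 := (hmaxall w hw).eq_of_le (hmaxall u hu).ne_top h4
      exact hne' (he2 ▸ (hann u a).mpr hau)
  haveI : Nontrivial A := ⟨⟨0, 1, fun h => hv0 (by
    have := LinearMap.congr_fun (congrArg Subtype.val h) v0
    simpa using this.symm)⟩⟩
  haveI : NoZeroDivisors A := ⟨fun {a b} hab => by
    by_contra hcon
    push Not at hcon
    obtain ⟨ha, hb⟩ := hcon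
    have hbv : (b : Module.End (ZMod p) V) v0 ≠ 0 := fun h => hb (hinj b v0 hv0 h)
    apply ha
    refine hinj a _ hbv ?_
    rw [← Module.End.mul_apply, ← Subalgebra.coe_mul, hab]
    rfl⟩
  haveI : IsDomain A := NoZeroDivisors.to_isDomain A
  letI : Field A := (Finite.isField_of_domain A).toField
  intro i hi
  obtain ⟨f, hf⟩ := hall i hi
  obtain ⟨σ, -, -, hσT⟩ := key f i hf
  obtain ⟨n, hn⟩ := (FiniteField.bijective_frobeniusAlgHom_pow (ZMod p) A).2 σ
  refine ⟨(n : ℕ), ?_⟩
  have h1 : (σ ⟨T, hTA⟩ : Module.End (ZMod p) V) = T ^ (p ^ (n : ℕ)) := by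
    rw [← hn]
    simp [AlgHom.coe_pow, FiniteField.coe_frobeniusAlgHom, pow_iterate, ZMod.card]
  rw [hσT] at h1
  have ho : orderOf T = q := by
    haveI : Fact q.Prime := ⟨hq⟩
    exact orderOf_eq_prime hT hT1
  have hfin : IsOfFinOrder T := isOfFinOrder_iff_pow_eq_one.mpr ⟨q, hq.pos, hT⟩
  have := hfin.pow_eq_pow_iff_modEq.mp h1
  rw [ho] at this
  exact this.symm

end Forward

section Backward

variable {p : ℕ} [Fact p.Prime] {V : Type*} [AddCommGroup V] [Module (ZMod p) V]

/-- If `p` is a primitive root mod `q` and `T` has order `q` without fixed vectors, the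
centraliser of `T` is transitive on non-zero vectors and every `T ↦ T ^ i` is realised. -/
theorem semilinear_exists {q : ℕ} [Fact q.Prime] (hqp : q ≠ p)
    (hord : orderOf (p : ZMod q) = q - 1) (T : Module.End (ZMod p) V)
    (hT : T ^ q = 1) (hT1 : ∀ v : V, T v = v → v = 0) :
    (∀ v w : V, v ≠ 0 → w ≠ 0 → ∃ f : V ≃+ V, (∀ x, f (T x) = T (f x)) ∧ f v = w) ∧
    (∀ i : ℕ, ¬ q ∣ i → ∃ f : V ≃+ V, ∀ x, f (T x) = (T ^ i) (f x)) := by
  have hq : q.Prime := Fact.out
  have hpq : ¬ p ∣ q := fun h => hqp ((Nat.prime_dvd_prime_iff_eq Fact.out hq).mp h).symm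
  have hirr : Irreducible (cyclotomic q (ZMod p)) := by
    refine ZMod.irreducible_of_dvd_cyclotomic_of_natDegree hpq dvd_rfl ?_
    rw [natDegree_cyclotomic, Nat.totient_prime hq, ← orderOf_units, ZMod.coe_unitOfCoprime, hord]
  haveI := Fact.mk hirr
  have hPhi : aeval T (cyclotomic q (ZMod p)) = 0 := by
    have h1 : (aeval T (cyclotomic q (ZMod p))) * (T - 1) = 0 := by
      have := congrArg (aeval T) (cyclotomic_prime_mul_X_sub_one (ZMod p) q)
      simpa [hT] using this
    have h2 : (T - 1) * (aeval T (cyclotomic q (ZMod p))) = 0 := by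
      have e : T - 1 = aeval T (X - 1 : (ZMod p)[X]) := by simp
      rw [e, ← map_mul, mul_comm, map_mul, ← e, h1]
    refine LinearMap.ext fun x => ?_
    have h3 : (T - 1) (aeval T (cyclotomic q (ZMod p)) x) = 0 := LinearMap.congr_fun h2 x
    rw [LinearMap.sub_apply, Module.End.one_apply, sub_eq_zero] at h3
    exact hT1 _ h3
  let K := AdjoinRoot (cyclotomic q (ZMod p))
  let A : Subalgebra (ZMod p) (Module.End (ZMod p) V) := Algebra.adjoin (ZMod p) {T}
  letI : CommRing A := Algebra.adjoinCommRingOfComm (ZMod p) (s := {T}) (by simp)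
  have hTA : T ∈ A := Algebra.subset_adjoin rfl
  have hPhiA : aeval (⟨T, hTA⟩ : A) (cyclotomic q (ZMod p)) = 0 :=
    Subtype.ext (by rw [Polynomial.aeval_subalgebra_coe]; exact hPhi)
  let ψ : K →ₐ[ZMod p] Module.End (ZMod p) V := A.val.comp
    (AdjoinRoot.liftAlgHom (cyclotomic q (ZMod p)) (Algebra.ofId (ZMod p) A) ⟨T, hTA⟩ hPhiA)
  letI : Module K V := Module.compHom V ψ.toRingHom
  have hsmul : ∀ (c : K) (x : V), c • x = ψ c x := fun c x => rfl
  have hroot : ∀ x : V, AdjoinRoot.root (cyclotomic q (ZMod p)) • x = T x := fun x => by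
    rw [hsmul]
    show ((AdjoinRoot.liftAlgHom (cyclotomic q (ZMod p)) (Algebra.ofId (ZMod p) A) ⟨T, hTA⟩ hPhiA
      (AdjoinRoot.root _) : A) : Module.End (ZMod p) V) x = T x
    erw [AdjoinRoot.liftAlgHom_root]
  have hpow : ∀ (n : ℕ) (x : V),
      AdjoinRoot.root (cyclotomic q (ZMod p)) ^ n • x = (T ^ n) x := by
    intro n
    induction n with
    | zero => intro x; simp
    | succ n ih =>
      intro x
      rw [pow_succ, mul_smul, hroot, ih, pow_succ, Module.End.mul_apply]
  refine ⟨fun v w hv hw => ?_, fun i hi => ?_⟩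
  · suffices H : ∃ f : V ≃ₗ[K] V, f v = w by
      obtain ⟨f, hf⟩ := H
      refine ⟨f.toAddEquiv, fun x => ?_, hf⟩
      show f (T x) = T (f x)
      rw [← hroot, map_smul, hroot]
    by_cases hdep : v ∈ Submodule.span K {v - w}
    · obtain ⟨c, hc⟩ := Submodule.mem_span_singleton.mp hdep
      have hc0 : c ≠ 0 := by rintro rfl; exact hv (by simpa using hc.symm)
      have hw' : c • w = (c - 1) • v := by
        rw [smul_sub, sub_eq_iff_eq_add] at hc
        rw [sub_smul, one_smul, eq_sub_iff_add_eq, add_comm, ← hc]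
      have hd : c⁻¹ * (c - 1) ≠ 0 := by
        intro h
        apply hw
        have := congrArg (c⁻¹ • ·) hw'
        simpa [smul_smul, hc0, h] using this
      refine ⟨LinearEquiv.smulOfUnit (Units.mk0 _ hd), ?_⟩
      show (c⁻¹ * (c - 1)) • v = w
      rw [mul_smul, ← hw', inv_smul_smul₀ hc0]
    · obtain ⟨l, hl, hld⟩ := Submodule.exists_dual_map_eq_bot_of_notMem hdep inferInstance
      have hd : l (v - w) = 0 := by
        have : l (v - w) ∈ Submodule.map l (Submodule.span K {v - w}) :=
          Submodule.mem_map_of_mem (Submodule.mem_span_singleton_self _)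
        rwa [hld, Submodule.mem_bot] at this
      let g : V →ₗ[K] V := LinearMap.id - (((l v)⁻¹ • l : V →ₗ[K] K)).smulRight (v - w)
      let g' : V →ₗ[K] V := LinearMap.id + (((l v)⁻¹ • l : V →ₗ[K] K)).smulRight (v - w)
      refine ⟨LinearEquiv.ofLinear g g' ?_ ?_, ?_⟩
      · ext x
        simp only [g, g', LinearMap.comp_apply, LinearMap.sub_apply, LinearMap.add_apply,
          LinearMap.id_apply, LinearMap.smulRight_apply, LinearMap.smul_apply, smul_eq_mul, map_add, map_sub l x,
          map_smul, hd, zero_smul, smul_zero, mul_zero, add_zero, sub_zero]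
        abel
      · ext x
        simp only [g, g', LinearMap.comp_apply, LinearMap.sub_apply, LinearMap.add_apply,
          LinearMap.id_apply, LinearMap.smulRight_apply, LinearMap.smul_apply, smul_eq_mul, map_add, map_sub l x,
          map_smul, hd, zero_smul, smul_zero, mul_zero, add_zero, sub_zero]
        abel
      · show v - ((l v)⁻¹ * l v) • (v - w) = w
        rw [inv_mul_cancel₀ hl, one_smul, sub_sub_cancel]
  · have hmon := cyclotomic.monic q (ZMod p)
    have hi' : i.Coprime q := Nat.Coprime.symm (hq.coprime_iff_not_dvd.mpr hi)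
    have hz : IsPrimitiveRoot (AdjoinRoot.root (cyclotomic q (ZMod p))) q := by
      have : NeZero (q : K) := ⟨fun h0 => by
        haveI : CharP K p := charP_of_injective_algebraMap (algebraMap (ZMod p) K).injective p
        exact hpq ((CharP.cast_eq_zero_iff K p q).mp h0)⟩
      rw [← isRoot_cyclotomic_iff, ← map_cyclotomic q (algebraMap (ZMod p) K)]
      exact AdjoinRoot.isRoot_root _
    have hzi : (AdjoinRoot.root (cyclotomic q (ZMod p)) ^ i) ∈ (cyclotomic q (ZMod p)).aroots K := by
      rw [mem_aroots]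
      refine ⟨cyclotomic_ne_zero q _, ?_⟩
      rw [aeval_def, eval₂_eq_eval_map, map_cyclotomic]
      exact (hz.pow_of_coprime i hi').isRoot_cyclotomic hq.pos
    let σ : K →ₐ[ZMod p] K :=
      AdjoinRoot.liftAlgHom _ (Algebra.ofId (ZMod p) K) _ (mem_aroots.mp hzi).2
    haveI : Module.Finite (ZMod p) K := hmon.finite_adjoinRoot
    have hσb : Function.Bijective σ := by
      haveI : Finite K := Module.finite_of_finite (ZMod p)
      exact ⟨σ.toRingHom.injective, Finite.surjective_of_injective σ.toRingHom.injective⟩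
    let se : K ≃+ K := AddEquiv.ofBijective σ.toAddMonoidHom hσb
    let b := Module.Free.chooseBasis K V
    let f : V ≃+ V := b.repr.toAddEquiv.trans ((Finsupp.mapRange.addEquiv se).trans b.repr.symm.toAddEquiv)
    have hfsmul : ∀ (c : K) (x : V), f (c • x) = σ c • f x := by
      intro c x
      apply b.repr.injective
      ext j
      simp [f, se]
    refine ⟨f, fun x => ?_⟩
    rw [← hroot, hfsmul]
    have e : σ (AdjoinRoot.root (cyclotomic q (ZMod p))) = AdjoinRoot.root _ ^ i := by
      simp only [σ]; erw [AdjoinRoot.liftAlgHom_root]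
    rw [e, hpow]

end Backward

end Cfsg.Agent.Perm
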