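import Mathlib
import Cfsg.Agent.Perm.HomogeneousExceptions

set_option autoImplicit false
set_option linter.unusedSectionVars false

/-!
Degree `9`: a `3`-transitive, `4`- and `5`-homogeneous group that is not `4`-transitive has order
`504` or `1512`.
-/

namespace Cfsg.Agent.Perm

open Equiv Finset
open scoped Pointwise

variable {α : Type*} [Fintype α] [DecidableEq α] {G : Subgroup (Perm α)}

theorem sigmaPos_rel : ∀ i : Fin 3, ∃ δ : Perm (Fin 4), RespectsPairing δ ∧ δ * δ = 1 ∧
    ∀ j : Fin 3, (pairPos i * δ) j.castSucc =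
      ((![1, swap 1 2, swap 0 2] : Fin 3 → Perm (Fin 3)) i j).castSucc ∧
      (pairPos i * δ) (Fin.last 3) = Fin.last 3 := by decide

section Nine

variable (hn : Fintype.card α = 9) (hT : MulAction.IsMultiplyPretransitive G α 3)
  (hno : ¬ MulAction.IsMultiplyPretransitive G α 4)
include hn hT hno

theorem not_alternating_nine : ¬ alternatingGroup α ≤ G := not_alternating_le hno (by omega)

theorem prim_nine : MulAction.IsPreprimitive G α :=
  isPreprimitive_of_transitive (by norm_num) (by omega) hT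

theorem exists_four_fixed (x : Fin 3 ↪ α) (h5 : 5 ∣ Nat.card (tupleStab G x)) :
    ∃ d, d ∉ Set.range x ∧ (∀ g ∈ tupleStab G x, g d = d) ∧
      ∃ h ∈ tupleStab G x, ∀ a, h a = a → a ∈ Set.range x ∨ a = d := by
  obtain ⟨h, hh, hc, hs⟩ := exists_five_cycle x (by omega) h5
  obtain ⟨hhG, hhx⟩ := mem_tupleStab.mp hh
  have hxs : ∀ i, x i ∉ h.support := fun i => Perm.notMem_support.mpr (hhx i)
  set F : Finset α := (univ.map x ∪ h.support)ᶜ with hF
  have hFc : F.card = 1 := by
    rw [hF, card_compl, card_union_of_disjoint, card_map, card_univ, Fintype.card_fin, hs]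
    · omega
    · rw [disjoint_left]
      intro a ha
      obtain ⟨i, -, rfl⟩ := mem_map.mp ha
      exact hxs i
  obtain ⟨d, hd⟩ := card_eq_one.mp hFc
  have hmem : ∀ a, a ∉ Set.range x → a ∉ h.support → a = d := fun a h1 h2 => by
    have : a ∈ F := by
      rw [hF, mem_compl, mem_union, mem_map]
      rintro (⟨i, -, rfl⟩ | h3)
      · exact h1 ⟨i, rfl⟩
      · exact h2 h3
    rwa [hd, mem_singleton] at this
  have hdF : d ∈ F := by rw [hd]; exact mem_singleton_self d
  rw [hF, mem_compl, mem_union, not_or] at hdF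
  have hdx : d ∉ Set.range x := fun ⟨i, hi⟩ => hdF.1 (hi ▸ mem_map_of_mem x (mem_univ i))
  refine ⟨d, hdx, fun g hg => ?_, h, hh, fun a ha => ?_⟩
  · by_contra hgd
    obtain ⟨hgG, hgx⟩ := mem_tupleStab.mp hg
    have hout : g d ∉ Set.range x := fun ⟨i, hi⟩ => hdx ⟨i, g.injective ((hgx i).trans hi)⟩
    have hsup : g d ∈ h.support := by
      by_contra h3; exact hgd (hmem _ hout h3)
    refine hno (succ_transitive hT x d fun z hz => ?_)
    by_cases hzd : z = d
    · exact ⟨1, one_mem _, by rw [hzd]; rfl⟩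
    · have hzs : z ∈ h.support := by
        by_contra h3; exact hzd (hmem _ hz h3)
      obtain ⟨i, hi⟩ := hc.exists_pow_eq (Perm.mem_support.mp hsup) (Perm.mem_support.mp hzs)
      exact ⟨h ^ i * g, mul_mem (pow_mem hh i) hg, hi⟩
  · by_cases h1 : a ∈ Set.range x
    · exact Or.inl h1
    · exact Or.inr (hmem a h1 (Perm.notMem_support.mpr ha))

/-- No element of order five fixes three points. -/
theorem not_five_dvd (x : Fin 3 ↪ α) : ¬ 5 ∣ Nat.card (tupleStab G x) := by
  classical
  intro h5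
  have h5' : ∀ y : Fin 3 ↪ α, 5 ∣ Nat.card (tupleStab G y) := fun y => by
    rwa [card_tupleStab_eq hT (Fintype.card_fin 3) (Fintype.card_fin 3) y x]
  have hsmall := fun y => exists_four_fixed hn hT hno y (h5' y)
  choose D hD1 hD2 hD3 using hsmall
  obtain ⟨a, b, hab⟩ := Fintype.exists_pair_of_one_lt_card (α := α) (by omega)
  have hinj : ∀ c, c ∈ ({a, b} : Finset α)ᶜ → Function.Injective ![a, b, c] := by
    intro c hc
    simp only [mem_compl, mem_insert, mem_singleton, not_or] at hc
    intro p q h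
    fin_cases p <;> fin_cases q <;>
      first | rfl | exact absurd h hab | exact absurd h hab.symm | exact absurd h hc.1 |
        exact absurd h.symm hc.1 | exact absurd h hc.2 | exact absurd h.symm hc.2
  let f : α → α := fun c => if hc : c ∈ ({a, b} : Finset α)ᶜ then D ⟨_, hinj c hc⟩ else c
  have hrange : ∀ c (hc : c ∈ ({a, b} : Finset α)ᶜ), f c ∈ ({a, b} : Finset α)ᶜ ∧ f c ≠ c := by
    intro c hc
    have h1 := hD1 ⟨_, hinj c hc⟩
    rw [show f c = D ⟨_, hinj c hc⟩ from dif_pos hc]
    simp only [mem_compl, mem_insert, mem_singleton, not_or]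
    exact ⟨⟨fun h => h1 ⟨0, h.symm⟩, fun h => h1 ⟨1, h.symm⟩⟩, fun h => h1 ⟨2, h.symm⟩⟩
  have hodd := even_card_of_involution _ f (fun c hc => (hrange c hc).1)
    (fun c hc => (hrange c hc).2) ?_
  · rw [card_compl, card_pair hab, hn] at hodd
    exact absurd hodd (by decide)
  intro c hc
  have hd := (hrange c hc).1
  set d := f c with hddef
  set y : Fin 3 ↪ α := ⟨_, hinj c hc⟩
  set z : Fin 3 ↪ α := ⟨_, hinj d hd⟩
  have hdy : d = D y := by simp only [hddef, f, dif_pos hc]; rfl
  have hle : tupleStab G y ≤ tupleStab G z := fun g hg => by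
    refine mem_tupleStab.mpr ⟨(mem_tupleStab.mp hg).1, fun i => ?_⟩
    fin_cases i
    · exact (mem_tupleStab.mp hg).2 0
    · exact (mem_tupleStab.mp hg).2 1
    · show g d = d
      rw [hdy]; exact hD2 y g hg
  have heq : tupleStab G y = tupleStab G z := Subgroup.eq_of_le_of_card_ge hle
    (card_tupleStab_eq hT (Fintype.card_fin 3) (Fintype.card_fin 3) z y).le
  obtain ⟨h, hh, hfix⟩ := hD3 z
  rw [← heq] at hh
  show f d = c
  simp only [f, dif_pos hd]
  rcases hfix c ((mem_tupleStab.mp hh).2 2) with ⟨i, hi⟩ | h'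
  · exfalso
    simp only [mem_compl, mem_insert, mem_singleton, not_or] at hc
    fin_cases i
    · exact hc.1 hi.symm
    · exact hc.2 hi.symm
    · exact (hrange c (by simpa using hc)).2 hi
  · exact h'.symm

/-- At most one `3`-part in a tuple stabiliser. -/
theorem not_nine_dvd (x : Fin 3 ↪ α) : ¬ 9 ∣ Nat.card (tupleStab G x) := by
  intro h9
  have : Fact (Nat.Prime 3) := ⟨Nat.prime_three⟩
  obtain ⟨P, hP⟩ := Sylow.exists_subgroup_card_pow_prime 3 (G := tupleStab G x) (n := 2) h9
  obtain ⟨y, hy⟩ : ((univ.map x)ᶜ : Finset α).Nonempty := card_pos.mp (by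
    rw [card_compl, card_map, card_univ, Fintype.card_fin]; omega)
  rw [mem_compl] at hy
  have hmaps : ∀ p : P, ((p.1 : Perm α) y) ∈ ((univ.map x)ᶜ : Finset α) := fun p => by
    rw [mem_compl, mem_map]
    rintro ⟨i, -, hi⟩
    exact hy (mem_map.mpr ⟨i, mem_univ i,
      (p.1 : Perm α).injective (((mem_tupleStab.mp p.1.2).2 i).trans hi)⟩)
  have := Fintype.ofFinite P
  obtain ⟨p, q, hpq, he⟩ := Fintype.exists_ne_map_eq_of_card_lt
    (fun p : P => (⟨_, hmaps p⟩ : ((univ.map x)ᶜ : Finset α))) (by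
      rw [Fintype.card_coe, card_compl, card_map, card_univ, Fintype.card_fin,
        ← Nat.card_eq_fintype_card (α := P), hP]; omega)
  have he' : (p.1 : Perm α) y = (q.1 : Perm α) y := congrArg Subtype.val he
  set g : P := p⁻¹ * q with hg
  have hg1 : g ≠ 1 := fun h => hpq (inv_mul_eq_one.mp h)
  have hgy : (g.1 : Perm α) y = y := by
    show (p.1 : Perm α)⁻¹ ((q.1 : Perm α) y) = y
    rw [Perm.inv_eq_iff_eq, he']
  have h9' : g ^ 9 = 1 := by
    have := pow_card_eq_one' (x := g); rwa [hP] at this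
  obtain ⟨h, hh, hhy, hh3, hh1⟩ : ∃ h ∈ tupleStab G x, h y = y ∧ h ^ 3 = 1 ∧ h ≠ 1 := by
    by_cases h3 : g ^ 3 = 1
    · exact ⟨g.1, g.1.2, hgy, congrArg (fun t : P => (t.1 : Perm α)) h3,
        fun h => hg1 (Subtype.ext (Subtype.ext h))⟩
    · refine ⟨(g ^ 3).1, (g ^ 3).1.2, ?_, ?_, fun h => h3 (Subtype.ext (Subtype.ext h))⟩
      · show ((g.1 : Perm α) ^ 3) y = y
        exact Perm.pow_apply_eq_self_of_apply_eq_self hgy 3
      · show (((g ^ 3).1 : Perm α)) ^ 3 = 1
        rw [show ((((g ^ 3).1 : Perm α)) ^ 3) = (((g ^ 3) ^ 3 : P).1 : Perm α) from rfl, ← pow_mul]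
        exact congrArg (fun t : P => (t.1 : Perm α)) h9'
  have hord : orderOf h = 3 := orderOf_eq_prime hh3 hh1
  obtain ⟨r, hr⟩ := Perm.cycleType_prime_order (hord ▸ Nat.prime_three)
  have hsum := Perm.sum_cycleType h
  rw [hr, hord, Multiset.sum_replicate, smul_eq_mul] at hsum
  have h4 := four_le_support (prim_nine hn hT hno) (not_alternating_nine hn hT hno)
    (mem_tupleStab.mp hh).1 hh1
  have hsub : h.support ⊆ (insert y (univ.map x))ᶜ := fun a ha => by
    rw [mem_compl, mem_insert, mem_map]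
    rintro (rfl | ⟨i, -, rfl⟩)
    · exact Perm.mem_support.mp ha hhy
    · exact Perm.mem_support.mp ha ((mem_tupleStab.mp hh).2 i)
  have := card_le_card hsub
  rw [card_compl, card_insert_of_notMem hy, card_map, card_univ, Fintype.card_fin] at this
  omega

theorem oddFree_nine_card (hev : OddFree G 4) (x : Fin 3 ↪ α) :
    Nat.card (tupleStab G x) = 1 ∨ Nat.card (tupleStab G x) = 3 := by
  set m := Nat.card (tupleStab G x) with hm
  have hprime : ∀ d, d.Prime → d ∣ m → d = 3 := by
    intro d hd hdm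
    have : Fact d.Prime := ⟨hd⟩
    obtain ⟨g, hg⟩ := exists_prime_orderOf_dvd_card' (G := tupleStab G x) d hdm
    have hg' : orderOf (g : Perm α) = d := by rw [Subgroup.orderOf_coe, hg]
    obtain ⟨r, hr⟩ := Perm.cycleType_prime_order (hg' ▸ hd)
    have hsum := Perm.sum_cycleType (g : Perm α)
    rw [hr, hg', Multiset.sum_replicate, smul_eq_mul] at hsum
    have hle := support_card_le x (mem_tupleStab.mp g.2).2
    have hd6 : d ≤ 6 := le_trans (Nat.le_mul_of_pos_left d r.succ_pos) (by rw [hsum]; omega)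
    have h2 : d ≠ 2 := by
      rintro rfl
      have h1 : (g : Perm α) * g = 1 := by
        rw [← pow_two, ← hg', pow_orderOf_eq_one]
      have := invol_fix_lt hev (by norm_num) (mem_tupleStab.mp g.2).1 h1 (by
        have hsub : univ.map x ⊆ fixF (g : Perm α) := fun a ha => by
          obtain ⟨i, -, rfl⟩ := mem_map.mp ha
          exact mem_fixF.mpr ((mem_tupleStab.mp g.2).2 i)
        have := card_le_card hsub
        rw [card_map, card_univ, Fintype.card_fin] at this
        omega)
      rw [this, orderOf_one] at hg'; omega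
    have h5 : d ≠ 5 := by
      rintro rfl
      exact not_five_dvd hn hT hno x hdm
    have := hd.two_le
    interval_cases d <;> first | rfl | omega | exact absurd hd (by norm_num)
  obtain ⟨k, hk⟩ : ∃ k, m = 3 ^ k :=
    ⟨_, Nat.eq_prime_pow_of_unique_prime_dvd (Nat.card_pos.ne') fun {d} => hprime d⟩
  have hk2 : k < 2 := by
    by_contra h
    exact not_nine_dvd hn hT hno x (hm ▸ hk ▸ Dvd.dvd.trans (by norm_num)
      (pow_dvd_pow 3 (show 2 ≤ k by omega)))
  interval_cases k <;> simp_all

end Nine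

end Cfsg.Agent.Perm
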