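import Mathlib
import Cfsg.Agent.Perm.HomogeneousNine

set_option autoImplicit false
set_option linter.unusedSectionVars false

/-!
Degree `9` with odd permutations induced on four-sets: impossible.
-/

namespace Cfsg.Agent.Perm

open Equiv Finset
open scoped Pointwise

variable {α : Type*} [Fintype α] [DecidableEq α] {G : Subgroup (Perm α)}

theorem bool_weight : ∀ w : Fin 3 → Bool, w ≠ (fun _ => false) → w ≠ (fun _ => true) →
    (∃ i, w i = true ∧ ∀ j, w j = true → j = i) ∨
      (∃ i, (!w i) = true ∧ ∀ j, (!w j) = true → j = i) := by decide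

theorem perm4_odd_shape : ∀ σ : Perm (Fin 4), Perm.sign σ = -1 →
    ∃ δ : Perm (Fin 4), δ⁻¹ * σ * δ = swap 0 1 ∨ δ⁻¹ * σ * δ = finRotate 4 := by decide

section Nine

variable (hn : Fintype.card α = 9) (hT : MulAction.IsMultiplyPretransitive G α 3)
  (hno : ¬ MulAction.IsMultiplyPretransitive G α 4)
  (hh4 : MulAction.IsPretransitive G (Set.powersetCard α 4))
  (hh5 : MulAction.IsPretransitive G (Set.powersetCard α 5))
  (hev : ¬ OddFree G 4)
include hn hT hno hh4 hh5 hev

/-- Three two-element blocks are attached to every triple. -/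
theorem exists_classes (x : Fin 3 ↪ α) : ∃ C : Fin 3 → Finset α, (∀ i, (C i).card = 2) ∧
    (∀ i, ∀ g ∈ tupleStab G x, ∀ a ∈ C i, g a ∈ C i) ∧
    (∀ a, a ∉ Set.range x → ∃ i, a ∈ C i) ∧ (∀ i j, ∀ a, a ∈ C i → a ∈ C j → i = j) ∧
    (∀ i, ∀ a ∈ C i, a ∉ Set.range x) := by
  classical
  obtain ⟨P, hP, hinv, hresp, -, hex⟩ :=
    exists_pairing (by omega) hT hh4 hh5 hev hno
  obtain ⟨u, hu3, hu⟩ := mul_completion_eq hT (by omega) P hinv hP pairPos hex
  have hu2 : u = 2 := by omega
  subst hu2
  set σ : Fin 3 → Perm (Fin 3) := ![1, swap 1 2, swap 0 2] with hσ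
  have key : ∀ i d, P (Fin.snoc (x ∘ σ i) d) ↔ P (Fin.snoc (⇑x) d ∘ pairPos i) := by
    intro i d
    obtain ⟨δ, hδ, hδ2, hpos⟩ := sigmaPos_rel i
    have e : Fin.snoc (x ∘ σ i) d = (Fin.snoc (⇑x) d ∘ pairPos i) ∘ δ := by
      funext l
      induction l using Fin.lastCases with
      | last =>
        show _ = Fin.snoc (α := fun _ => α) (⇑x) d ((pairPos i * δ) (Fin.last 3))
        rw [(hpos 0).2, Fin.snoc_last, Fin.snoc_last]
      | cast l =>
        show _ = Fin.snoc (α := fun _ => α) (⇑x) d ((pairPos i * δ) l.castSucc)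
        rw [(hpos l).1, Fin.snoc_castSucc, Fin.snoc_castSucc]; rfl
    constructor
    · intro h
      have := hresp _ h δ hδ
      rw [e] at this
      rwa [Function.comp_assoc, ← Perm.coe_mul, hδ2, Perm.coe_one, Function.comp_id] at this
    · intro h
      rw [e]; exact hresp _ h δ hδ
  refine ⟨fun i => univ.filter fun d => P (Fin.snoc (x ∘ σ i) d),
    fun i => hu _ (x.injective.comp (σ i).injective), ?_, ?_, ?_, ?_⟩
  · intro i g hg a ha
    simp only [mem_filter, mem_univ, true_and] at ha ⊢
    obtain ⟨hgG, hgx⟩ := mem_tupleStab.mp hg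
    have := hinv g hgG _ ha
    rwa [Fin.comp_snoc, show (⇑g ∘ (⇑x ∘ ⇑(σ i))) = ⇑x ∘ ⇑(σ i) from funext fun l => hgx _] at this
  · intro a ha
    have hinj : Function.Injective (Fin.snoc (⇑x) a : Fin 4 → α) :=
      Fin.snoc_injective_iff.mpr ⟨x.injective, ha⟩
    obtain ⟨i, hi, -⟩ := hex _ hinj
    exact ⟨i, mem_filter.mpr ⟨mem_univ _, (key i a).mpr hi⟩⟩
  · intro i j a hi hj
    simp only [mem_filter, mem_univ, true_and] at hi hj
    have hinj : Function.Injective (Fin.snoc (⇑x) a : Fin 4 → α) := by
      have := hP _ ((key i a).mp hi)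
      have e : (Fin.snoc (⇑x) a : Fin 4 → α) =
          ((Fin.snoc (⇑x) a : Fin 4 → α) ∘ pairPos i) ∘ ⇑(pairPos i)⁻¹ := by
        funext l; simp
      rw [e]; exact this.comp (Equiv.injective _)
    obtain ⟨k, -, hk⟩ := hex _ hinj
    rw [hk i ((key i a).mp hi), hk j ((key j a).mp hj)]
  · intro i a ha h
    simp only [mem_filter, mem_univ, true_and] at ha
    obtain ⟨l, hl⟩ := h
    have := hP _ ha
    rw [Fin.snoc_injective_iff] at this
    exact this.2 ⟨(σ i)⁻¹ l, by simp [hl]⟩

/-- Each triple stabiliser is trivial. -/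
theorem tupleStab_trivial_nine (x : Fin 3 ↪ α) : Nat.card (tupleStab G x) = 1 := by
  classical
  have hA := not_alternating_nine hn hT hno
  have hP := prim_nine hn hT hno
  -- every element of a tuple stabiliser is an involution moving a set of blocks
  have inv2 : ∀ x : Fin 3 ↪ α, ∀ g ∈ tupleStab G x, g * g = 1 := by
    intro x g hg
    obtain ⟨C, hC2, hCg, hcov, hdis, -⟩ := exists_classes hn hT hno hh4 hh5 hev x
    refine Equiv.ext fun a => ?_
    rw [Perm.mul_apply, Perm.one_apply]
    by_cases ha : a ∈ Set.range x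
    · obtain ⟨l, rfl⟩ := ha
      rw [(mem_tupleStab.mp hg).2, (mem_tupleStab.mp hg).2]
    obtain ⟨i, hi⟩ := hcov a ha
    by_cases h : g a = a
    · rw [h, h]
    have h1 := hCg i g hg a hi
    have h2 := hCg i g hg _ h1
    have hC : C i = {a, g a} := (eq_of_subset_of_card_le (by
      intro b hb
      rcases mem_insert.mp hb with rfl | hb
      · exact hi
      · rw [mem_singleton.mp hb]; exact h1) (by rw [card_pair (Ne.symm h), hC2])).symm
    rw [hC, mem_insert, mem_singleton] at h2
    exact h2.resolve_right fun e => h (g.injective e)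
  -- the fixed points of an element are three plus the fixed blocks
  obtain ⟨C, hC2, hCg, hcov, hdis, hout⟩ := exists_classes hn hT hno hh4 hh5 hev x
  have hy : ∀ i, ∃ y, y ∈ C i := fun i => card_pos.mp (by rw [hC2]; norm_num)
  choose y hy using hy
  let φ : tupleStab G x → Fin 3 → Bool := fun g i => decide ((g : Perm α) (y i) ≠ y i)
  have hmove : ∀ g : tupleStab G x, ∀ i a, a ∈ C i →
      ((g : Perm α) a ≠ a ↔ φ g i = true) := by
    intro g i a ha
    simp only [φ, decide_eq_true_eq, ne_eq]
    rw [not_iff_not]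
    rcases eq_or_ne a (y i) with rfl | hne
    · exact Iff.rfl
    have hC : C i = {a, y i} := (eq_of_subset_of_card_le (by
      intro b hb
      rcases mem_insert.mp hb with rfl | hb
      · exact ha
      · rw [mem_singleton.mp hb]; exact hy i) (by rw [card_pair hne, hC2])).symm
    constructor
    · intro h
      have h1 := hCg i g g.2 _ (hy i)
      rw [hC, mem_insert, mem_singleton] at h1
      exact h1.resolve_left fun e => hne ((g : Perm α).injective (h.trans e.symm))
    · intro h
      have h1 := hCg i g g.2 _ ha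
      rw [hC, mem_insert, mem_singleton] at h1
      exact h1.resolve_right fun e => hne ((g : Perm α).injective (e.trans h.symm))
  have hφ : Function.Injective φ := by
    intro g h e
    refine Subtype.ext (Equiv.ext fun a => ?_)
    by_cases ha : a ∈ Set.range x
    · obtain ⟨l, rfl⟩ := ha
      rw [(mem_tupleStab.mp g.2).2, (mem_tupleStab.mp h.2).2]
    obtain ⟨i, hi⟩ := hcov a ha
    have hg' := hmove g i a hi; have hh' := hmove h i a hi
    rw [e] at hg'
    by_cases hga : (g : Perm α) a = a
    · by_cases hha : (h : Perm α) a = a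
      · rw [hga, hha]
      · exact absurd hga (hg'.mpr (hh'.mp hha))
    · have hha : (h : Perm α) a ≠ a := hh'.mpr (hg'.mp hga)
      obtain ⟨b, c, -, hbc⟩ := card_eq_two.mp (hC2 i)
      have m1 := hCg i g g.2 a hi; have m2 := hCg i h h.2 a hi
      rw [hbc, mem_insert, mem_singleton] at m1 m2 hi
      rcases hi with rfl | rfl
      · rw [m1.resolve_left hga, m2.resolve_left hha]
      · rw [m1.resolve_right hga, m2.resolve_right hha]
  have hsupp : ∀ g : tupleStab G x, (g : Perm α).support.card =
      2 * (univ.filter fun i => φ g i = true).card := by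
    intro g
    have : (g : Perm α).support = (univ.filter fun i => φ g i = true).biUnion C := by
      ext a
      simp only [Perm.mem_support, mem_biUnion, mem_filter, mem_univ, true_and]
      constructor
      · intro ha
        obtain ⟨i, hi⟩ := hcov a fun ⟨l, hl⟩ => ha (by rw [← hl]; exact (mem_tupleStab.mp g.2).2 l)
        exact ⟨i, (hmove g i a hi).mp ha, hi⟩
      · rintro ⟨i, hi, ha⟩; exact (hmove g i a ha).mpr hi
    rw [this, card_biUnion, sum_const_nat (m := 2), mul_comm]
    · exact fun i _ => hC2 i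
    · exact fun i _ j _ hij => disjoint_left.mpr fun a h1 h2 => hij (hdis i j a h1 h2)
  have hnosingle : ∀ g : tupleStab G x, ¬ ∃ i, φ g i = true ∧ ∀ j, φ g j = true → j = i := by
    rintro g ⟨i, hi, hj⟩
    have h2 : (g : Perm α).support.card = 2 := by
      rw [hsupp, show (univ.filter fun j => φ g j = true) = {i} from ?_, card_singleton]
      ext j; simpa using ⟨hj j, fun e => e ▸ hi⟩
    have := four_le_support hP hA (mem_tupleStab.mp g.2).1 fun h => by
      rw [h, Perm.support_one] at h2; simp at h2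
    omega
  set m := Nat.card (tupleStab G x) with hm
  have hle8 : m ≤ 8 := by
    have := Nat.card_le_card_of_injective φ hφ
    rw [← hm] at this
    simpa using this
  have hm2 : ∀ d, d.Prime → d ∣ m → d = 2 := by
    intro d hd hdm
    have : Fact d.Prime := ⟨hd⟩
    obtain ⟨g, hg⟩ := exists_prime_orderOf_dvd_card' (G := tupleStab G x) d hdm
    have h1 := inv2 x g g.2
    have : g * g = 1 := Subtype.ext h1
    have hdd := orderOf_dvd_of_pow_eq_one (x := g) (n := 2) (by rw [pow_two, this])
    rw [hg] at hdd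
    exact (Nat.prime_dvd_prime_iff_eq hd Nat.prime_two).mp hdd
  obtain ⟨k, hk⟩ : ∃ k, m = 2 ^ k :=
    ⟨_, Nat.eq_prime_pow_of_unique_prime_dvd (Nat.card_pos.ne') fun {d} => hm2 d⟩
  have hk3 : k ≤ 3 := by
    by_contra h
    have := Nat.pow_le_pow_right (show 0 < 2 by norm_num) (show 4 ≤ k by omega)
    omega
  have hm8 : m ≠ 8 := by
    intro h8
    have hb : Function.Bijective φ := by
      have := Fintype.ofFinite (tupleStab G x)
      refine (Fintype.bijective_iff_injective_and_card φ).mpr ⟨hφ, ?_⟩
      rw [← Nat.card_eq_fintype_card (α := tupleStab G x), ← hm, h8]; simp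
    obtain ⟨g, hg⟩ := hb.2 ![true, false, false]
    exact hnosingle g ⟨0, by rw [hg]; rfl, fun j hj => by rw [hg] at hj; revert hj; revert j; decide⟩
  -- involutions fixing exactly three points
  by_cases h3 : ∃ t ∈ G, t * t = 1 ∧ t.support.card = 6
  · exfalso
    obtain ⟨t, htG, ht2, ht6⟩ := h3
    set I := (univ : Finset (Perm α)).filter fun g => g ∈ G ∧ g * g = 1 ∧ g.support.card = 6
    have hfix : ∀ g ∈ I, (fixF g).card = 3 := by
      intro g hg
      rw [show fixF g = g.supportᶜ by ext; simp, card_compl, hn, (mem_filter.mp hg).2.2.2]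
    obtain ⟨z⟩ : Nonempty (Fin 3 ↪ ↥(fixF t)) := Function.Embedding.nonempty_of_card_le (by
      rw [Fintype.card_fin, Fintype.card_coe, hfix t (mem_filter.mpr ⟨mem_univ _, htG, ht2, ht6⟩)])
    let z' : Fin 3 ↪ α := z.trans (Function.Embedding.subtype _)
    have hconj : ∀ w : Fin 3 ↪ α, ∃ g ∈ I, ∀ i, g (w i) = w i := by
      intro w
      obtain ⟨g, hg, hgz⟩ := exists_map_tuple hT (Fintype.card_fin 3) z' w
      refine ⟨g * t * g⁻¹, mem_filter.mpr ⟨mem_univ _, mul_mem (mul_mem hg htG) (inv_mem hg), ?_, ?_⟩,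
        fun i => ?_⟩
      · calc g * t * g⁻¹ * (g * t * g⁻¹) = g * (t * t) * g⁻¹ := by group
          _ = 1 := by rw [ht2]; group
      · rw [Perm.card_support_conj, ht6]
      · rw [Perm.mul_apply, Perm.mul_apply, Perm.inv_eq_iff_eq.mpr (hgz i).symm,
          show t (z' i) = z' i from mem_fixF.mp (z i).2, hgz]
    have hA1 : ∀ g ∈ I, (patF g (1 : Perm (Fin 3))).card = 6 := by
      intro g hg
      rw [card_patF_one, hfix g hg]; rfl
    have h1 := le_sum_patF I (1 : Perm (Fin 3)) hA1 (m := 1) fun w => by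
      obtain ⟨g, hg, hgw⟩ := hconj w
      have : 0 < (I.filter fun u => ∀ i, u (w i) = w ((1 : Perm (Fin 3)) i)).card := card_pos.mpr
        ⟨g, mem_filter.mpr ⟨hg, fun i => by simpa using hgw i⟩⟩
      rw [Nat.one_le_iff_ne_zero, ← Nat.pos_iff_ne_zero]
      convert this
    let ρ : Perm (Fin 2 ⊕ Fin 1) := Perm.sumCongr (swap (0 : Fin 2) 1) 1
    have hA2 : ∀ g ∈ I, (patF g ρ).card = 18 := by
      intro g hg
      rw [card_patF_sum _ _ (by decide), card_patF_swap (mem_filter.mp hg).2.2.1, hn, hfix g hg,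
        Fintype.card_fin]
      rfl
    have h2 := sum_patF_le I (fun u hu => (mem_filter.mp hu).2.1) ρ hA2 (m := m) (G := G) fun w =>
      card_tupleStab_eq hT (by simp) (Fintype.card_fin 3) w x
    simp only [Fintype.card_sum, Fintype.card_fin, hn] at h1 h2
    norm_num [Nat.descFactorial] at h1 h2
    have hk2 : k = 2 := by
      interval_cases k <;> simp_all <;> omega
    -- two different elements of the stabiliser, one moving all blocks
    obtain ⟨g, hgI, hgx⟩ := hconj x
    let G' : tupleStab G x := ⟨g, mem_tupleStab.mpr ⟨(mem_filter.mp hgI).2.1, hgx⟩⟩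
    have hall : φ G' = fun _ => true := by
      funext i
      by_contra h
      have hlt : (univ.filter fun i => φ G' i = true).card < 3 := by
        refine lt_of_lt_of_eq (card_lt_univ_of_notMem (x := i) (by simpa using h)) (Fintype.card_fin 3)
      have := hsupp G'
      rw [show (G' : Perm α) = g from rfl, (mem_filter.mp hgI).2.2.2] at this
      omega
    have hne0 : ∀ h : tupleStab G x, h ≠ 1 → φ h ≠ fun _ => false := by
      intro h hh1 h0
      exact hh1 (hφ (h0.trans (funext fun i => by simp [φ])))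
    obtain ⟨h, hh1, hhg⟩ : ∃ h : tupleStab G x, h ≠ 1 ∧ h ≠ G' := by
      by_contra hc
      push Not at hc
      have := Fintype.ofFinite (tupleStab G x)
      have hsub : (univ : Finset (tupleStab G x)) ⊆ {1, G'} := fun a _ => by
        rcases eq_or_ne a 1 with rfl | h
        · simp
        · simp [hc a h]
      have := (card_le_card hsub).trans card_le_two
      rw [card_univ, ← Nat.card_eq_fintype_card, ← hm, hk, hk2] at this
      omega
    have hg1 : G' ≠ 1 := by
      intro h
      have := congrFun hall 0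
      rw [h] at this
      simp [φ] at this
    have hprod : φ (G' * h) = fun i => !φ h i := by
      funext i
      by_cases hhi : φ h i = true
      · have e := (hmove h i (y i) (hy i)).mpr hhi
        have m1 := hCg i h h.2 _ (hy i)
        have m2 := hCg i G' G'.2 _ m1
        have m3 := (hmove G' i _ m1).mpr (congrFun hall i)
        obtain ⟨b, c, -, hbc⟩ := card_eq_two.mp (hC2 i)
        have m0 := hy i
        rw [hbc, mem_insert, mem_singleton] at m0 m1 m2
        have : (G' : Perm α) ((h : Perm α) (y i)) = y i := by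
          rcases m0 with m0 | m0 <;> rcases m1 with m1 | m1 <;> rcases m2 with m2 | m2 <;> simp_all
        rw [hhi]
        simp [φ, this]
      · have e : (h : Perm α) (y i) = y i := by
          by_contra e; exact hhi ((hmove h i (y i) (hy i)).mp e)
        have e2 := (hmove G' i (y i) (hy i)).mpr (congrFun hall i)
        rw [Bool.not_eq_true] at hhi
        rw [hhi]
        simp [φ, Perm.mul_apply, e, e2]
    rcases bool_weight (φ h) (hne0 _ hh1) (fun e => hhg (hφ (e.trans hall.symm))) with hw | hw
    · exact hnosingle h hw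
    · exact hnosingle (G' * h) (by rw [hprod]; exact hw)
  · -- all involutions fixing three points move exactly two blocks
    push Not at h3
    set I := (univ : Finset (Perm α)).filter fun g => g ∈ G ∧ g * g = 1 ∧ (fixF g).card = 5
    have hA1 : ∀ g ∈ I, (patF g (1 : Perm (Fin 3))).card = 60 := by
      intro g hg
      rw [card_patF_one, (mem_filter.mp hg).2.2.2]; rfl
    have hfive : ∀ w : Fin 3 ↪ α, ∀ g ∈ tupleStab G w, g ≠ 1 → (fixF g).card = 5 := by
      intro w g hg hg1
      obtain ⟨hgG, hgw⟩ := mem_tupleStab.mp hg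
      have hs := four_le_support hP hA hgG hg1
      have hle := support_card_le w hgw
      obtain ⟨e, he⟩ := two_dvd_card_sub_fixF (inv2 w g hg)
      have h6 := h3 g hgG (inv2 w g hg)
      have hfc : fixF g = g.supportᶜ := by ext; simp
      rw [hfc, card_compl] at he ⊢
      omega
    have hsum := sum_card_patF I (1 : Perm (Fin 3))
    rw [sum_congr rfl hA1] at hsum
    have hfib : ∀ w : Fin 3 ↪ α,
        (I.filter fun u => ∀ i, u (w i) = w ((1 : Perm (Fin 3)) i)).card = m - 1 := by
      intro w
      have := Fintype.ofFinite (tupleStab G w)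
      rw [hm, ← card_tupleStab_eq hT (Fintype.card_fin 3) (Fintype.card_fin 3) w x,
        Nat.card_eq_fintype_card, ← card_univ, ← card_erase_of_mem (mem_univ (1 : tupleStab G w))]
      refine card_bij' (fun u hu => (⟨u, mem_tupleStab.mpr ⟨(mem_filter.mp (mem_filter.mp hu).1).2.1,
        fun i => by simpa using (mem_filter.mp hu).2 i⟩⟩ : tupleStab G w))
        (fun g _ => (g : Perm α)) ?_ ?_ (fun _ _ => rfl) (fun _ _ => rfl)
      · intro u hu
        refine mem_erase.mpr ⟨fun h => ?_, mem_univ _⟩
        have h' : u = 1 := congrArg Subtype.val h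
        have h5 := (mem_filter.mp (mem_filter.mp hu).1).2.2.2
        rw [h', show fixF (1 : Perm α) = univ by ext; simp, card_univ] at h5
        omega
      · intro g hg
        refine mem_filter.mpr ⟨mem_filter.mpr ⟨mem_univ _, (mem_tupleStab.mp g.2).1, inv2 w g g.2,
          hfive w g g.2 fun h => (mem_erase.mp hg).1 (Subtype.ext h)⟩,
          fun i => by simpa using (mem_tupleStab.mp g.2).2 i⟩
    replace hsum : ∑ _g ∈ I, 60 = ∑ _w : Fin 3 ↪ α, (m - 1) :=
      hsum.trans (Fintype.sum_congr _ _ fun w => by convert hfib w)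
    rw [sum_const, sum_const, smul_eq_mul, smul_eq_mul, card_univ, Fintype.card_embedding_eq,
      Fintype.card_fin, hn, show Nat.descFactorial 9 3 = 504 from rfl] at hsum
    interval_cases k <;> simp_all <;> omega

theorem not_oddFree_nine_false : False := by
  classical
  have hone : ∀ x : Fin 3 ↪ α, ∀ g ∈ G, (∀ i, g (x i) = x i) → g = 1 := fun x g hg h => by
    have : Subsingleton (tupleStab G x) :=
      (Nat.card_eq_one_iff_unique.mp (tupleStab_trivial_nine hn hT hno hh4 hh5 hev x)).1
    exact congrArg Subtype.val (Subsingleton.elim (⟨g, mem_tupleStab.mpr ⟨hg, h⟩⟩ : tupleStab G x) 1)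
  have triple : ∀ a b c : α, a ≠ b → a ≠ c → b ≠ c → Function.Injective ![a, b, c] := by
    intro a b c h1 h2 h3
    have := Ne.symm h1; have := Ne.symm h2; have := Ne.symm h3
    intro p q h
    fin_cases p <;> fin_cases q <;> first | rfl | exact absurd h ‹_›
  have hthree : ∀ g ∈ G, g ≠ 1 → (fixF g).card ≤ 2 := by
    intro g hg h1
    by_contra h
    obtain ⟨z⟩ : Nonempty (Fin 3 ↪ ↥(fixF g)) :=
      Function.Embedding.nonempty_of_card_le (by rw [Fintype.card_fin, Fintype.card_coe]; omega)
    exact h1 (hone (z.trans (Function.Embedding.subtype _)) g hg fun i => mem_fixF.mp (z i).2)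
  have hinvol : ∀ g ∈ G, g * g = 1 → g ≠ 1 → (fixF g).card = 1 := by
    intro g hg h2 h1
    obtain ⟨e, he⟩ := two_dvd_card_sub_fixF h2
    have := hthree g hg h1
    have h9 : (fixF g).card ≤ 9 := hn ▸ card_le_univ _
    omega
  -- an odd permutation induced on four points
  obtain ⟨v⟩ : Nonempty (Fin 4 ↪ α) := Function.Embedding.nonempty_of_card_le (by simp; omega)
  obtain ⟨σ, ⟨t, htG, ht⟩, hsign⟩ := exists_odd_mem hh4 hev v.injective
  obtain ⟨δ, hδ⟩ := perm4_odd_shape σ hsign
  set w : Fin 4 ↪ α := δ.toEmbedding.trans v with hw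
  have htw : ∀ i, t (w i) = w ((δ⁻¹ * σ * δ) i) := by
    intro i
    show t (v (δ i)) = v (δ _)
    rw [ht]; simp
  have hinjw := w.injective
  rcases hδ with h | h
  · rw [h] at htw
    have t0 : t (w 0) = w 1 := htw 0
    have t1 : t (w 1) = w 0 := htw 1
    have t2 : t (w 2) = w 2 := htw 2
    have t3 : t (w 3) = w 3 := htw 3
    have h2 : t * t = 1 := hone ⟨![w 0, w 1, w 2], triple _ _ _ (hinjw.ne (by decide))
      (hinjw.ne (by decide)) (hinjw.ne (by decide))⟩ _ (mul_mem htG htG) fun i => by
        fin_cases i <;> simp [t0, t1, t2]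
    have h1 : t ≠ 1 := fun e => hinjw.ne (show (0 : Fin 4) ≠ 1 by decide) (by
      rw [← t0, e, Perm.one_apply])
    have hle : ({w 2, w 3} : Finset α) ⊆ fixF t := fun a ha => by
      rcases mem_insert.mp ha with rfl | ha
      · exact mem_fixF.mpr t2
      · rw [mem_singleton.mp ha]; exact mem_fixF.mpr t3
    have := card_le_card hle
    rw [card_pair (hinjw.ne (by decide)), hinvol t htG h2 h1] at this
    omega
  · rw [h] at htw
    have t0 : t (w 0) = w 1 := htw 0
    have t1 : t (w 1) = w 2 := htw 1
    have t2 : t (w 2) = w 3 := htw 2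
    have t3 : t (w 3) = w 0 := htw 3
    have h4 : (t * t) * (t * t) = 1 := hone ⟨![w 0, w 1, w 2], triple _ _ _ (hinjw.ne (by decide))
      (hinjw.ne (by decide)) (hinjw.ne (by decide))⟩ _
        (mul_mem (mul_mem htG htG) (mul_mem htG htG)) fun i => by
        fin_cases i <;> simp [t0, t1, t2, t3]
    have hs1 : t * t ≠ 1 := fun e => hinjw.ne (show (2 : Fin 4) ≠ 0 by decide) (by
      rw [← t1, ← t0, ← Perm.mul_apply, e, Perm.one_apply])
    obtain ⟨c, hc⟩ := card_eq_one.mp (hinvol _ (mul_mem htG htG) h4 hs1)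
    have hcfix : (t * t) c = c := mem_fixF.mp (by rw [hc]; exact mem_singleton_self c)
    have hfix : ∀ a, t a = a → a = c := fun a ha => by
      have : a ∈ fixF (t * t) := mem_fixF.mpr (by rw [Perm.mul_apply, ha, ha])
      rwa [hc, mem_singleton] at this
    have hcne : ∀ i, c ≠ w i := by
      intro i e
      rw [e, Perm.mul_apply, htw, htw] at hcfix
      revert hcfix
      fin_cases i <;> exact fun h => absurd (hinjw h) (by decide)
    have htc : t c = c := by
      by_contra hne
      have : t c ∈ fixF (t * t) := mem_fixF.mpr (by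
        rw [Perm.mul_apply]
        rw [Perm.mul_apply] at hcfix
        rw [hcfix])
      rw [hc, mem_singleton] at this
      exact hne this
    set a := w 0 with ha
    set b := w 1 with hb
    have hab : a ≠ b := hinjw.ne (by decide)
    have hac : a ≠ c := (hcne 0).symm
    have hbc : b ≠ c := (hcne 1).symm
    -- the involution swapping `a, b` and fixing `c`
    obtain ⟨u, huG, hu⟩ := exists_map_tuple hT (Fintype.card_fin 3) ⟨_, triple a b c hab hac hbc⟩
      ⟨_, triple b a c hab.symm hbc hac⟩
    have u0 : u a = b := hu 0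
    have u1 : u b = a := hu 1
    have u2 : u c = c := hu 2
    have hu2 : u * u = 1 := hone ⟨_, triple a b c hab hac hbc⟩ _ (mul_mem huG huG) fun i => by
      fin_cases i <;> simp [u0, u1, u2]
    have hu1 : u ≠ 1 := fun e => hab (by rw [← u0, e, Perm.one_apply])
    have hufix : ∀ d, u d = d → d = c := by
      intro d hd
      obtain ⟨c', hc'⟩ := card_eq_one.mp (hinvol u huG hu2 hu1)
      have e1 : d ∈ fixF u := mem_fixF.mpr hd
      have e2 : c ∈ fixF u := mem_fixF.mpr u2
      rw [hc', mem_singleton] at e1 e2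
      rw [e1, e2]
    set S := (univ : Finset (Perm α)).filter fun g => g ∈ G ∧ g c = c ∧ g a = b
    set R : Finset α := {a, b, c}ᶜ with hR
    have hRc : R.card = 6 := by
      rw [hR, card_compl, hn, card_eq_three.mpr ⟨a, b, c, hab, hac, hbc, rfl⟩]
    -- one extra fixed point for each further element of `S`
    have hR' : ∀ d ∈ R, a ≠ d ∧ b ≠ d ∧ c ≠ d := fun d hd => by
      simp only [hR, mem_compl, mem_insert, mem_singleton, not_or] at hd
      exact ⟨Ne.symm hd.1, Ne.symm hd.2.1, Ne.symm hd.2.2⟩
    have hgd : ∀ d, ∃ g, d ∈ R → g ∈ S ∧ g d = d := by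
      intro d
      by_cases hd : d ∈ R
      · obtain ⟨h1, h2, h3⟩ := hR' d hd
        obtain ⟨g, hg, hgx⟩ := exists_map_tuple hT (Fintype.card_fin 3)
          ⟨_, triple c a d hac.symm h3 h1⟩ ⟨_, triple c b d hbc.symm h3 h2⟩
        exact ⟨g, fun _ => ⟨mem_filter.mpr ⟨mem_univ _, hg, hgx 0, hgx 1⟩, hgx 2⟩⟩
      · exact ⟨1, fun h => absurd h hd⟩
    choose gd hgd using hgd
    obtain ⟨e0, he0⟩ : R.Nonempty := card_pos.mp (by omega)
    have hScard : S.card ≤ 7 := by
      obtain ⟨h1, h2, h3⟩ := hR' e0 he0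
      refine (card_le_card_of_injOn (fun g => g e0) (t := {b, c}ᶜ) ?_ ?_).trans
        (by rw [card_compl, card_pair hbc, hn])
      · intro g hg
        obtain ⟨-, -, hgc, hga⟩ := mem_filter.mp hg
        simp only [coe_compl, coe_insert, coe_singleton, Set.mem_compl_iff, Set.mem_insert_iff,
          Set.mem_singleton_iff, not_or]
        exact ⟨fun e => h1 (g.injective (hga.trans e.symm)),
          fun e => h3 (g.injective (hgc.trans e.symm))⟩
      · intro g hg g' hg' e
        obtain ⟨-, hgG, hgc, hga⟩ := mem_filter.mp hg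
        obtain ⟨-, hgG', hgc', hga'⟩ := mem_filter.mp hg'
        refine (inv_mul_eq_one.mp (hone ⟨_, triple a c e0 hac h1 h3⟩ _
          (mul_mem (inv_mem hgG') hgG) fun i => ?_)).symm
        rw [Perm.mul_apply, Perm.inv_eq_iff_eq]
        fin_cases i <;> simp [hgc, hgc', hga, hga', show g e0 = g' e0 from e]
    have htu : t ≠ u := fun e => hs1 (by rw [e]; exact hu2)
    have hsub : R.image gd ⊆ (S.erase t).erase u := by
      intro g hg
      obtain ⟨d, hd, rfl⟩ := mem_image.mp hg
      obtain ⟨hS, hfd⟩ := hgd d hd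
      obtain ⟨-, -, h3⟩ := hR' d hd
      exact mem_erase.mpr ⟨fun e => h3 (hufix d (e ▸ hfd)).symm,
        mem_erase.mpr ⟨fun e => h3 (hfix d (e ▸ hfd)).symm, hS⟩⟩
    have hinj : Set.InjOn gd R := by
      intro d hd d' hd' e
      by_contra hne
      obtain ⟨hS, hfd⟩ := hgd d hd
      obtain ⟨-, hgG, hgc, hga⟩ := mem_filter.mp hS
      have hfd' : gd d d' = d' := by rw [e]; exact (hgd d' hd').2
      have h1 : gd d = 1 := hone ⟨_, triple c d d' (hR' d hd).2.2 (hR' d' hd').2.2 hne⟩ _ hgG
        fun i => by fin_cases i <;> simp [hgc, hfd, hfd']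
      rw [h1, Perm.one_apply] at hga
      exact hab hga
    have := card_le_card hsub
    rw [card_image_of_injOn hinj, hRc, card_erase_of_mem, card_erase_of_mem] at this
    · omega
    · exact mem_filter.mpr ⟨mem_univ _, htG, htc, t0⟩
    · exact mem_erase.mpr ⟨htu.symm, mem_filter.mpr ⟨mem_univ _, huG, u2, u0⟩⟩

end Nine

end Cfsg.Agent.Perm
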