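import Mathlib
import Cfsg.Agent.Perm.HomogeneousExceptions
import Cfsg.Agent.S0735

set_option autoImplicit false
set_option linter.unusedSectionVars false

/-!
The exceptional degrees `5, 6, 7, 8, 9` of the Livingstone–Wagner theorem.
-/

namespace Cfsg.Agent.Perm

open Equiv Finset
open scoped Pointwise

variable {α : Type*} [Fintype α] [DecidableEq α] {G : Subgroup (Perm α)}

theorem two_transitive_small {n : ℕ} (hn : Fintype.card α = n) (h45 : n = 4 ∨ n = 5)
    (ht : MulAction.IsMultiplyPretransitive G α 1)
    (hh1 : MulAction.IsPretransitive G (Set.powersetCard α 2)) :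
    MulAction.IsMultiplyPretransitive G α 2 := by
  obtain ⟨x⟩ : Nonempty (Fin 1 ↪ α) := Function.Embedding.nonempty_of_card_le (by simp; omega)
  have h1 : n ∣ Nat.card G := by
    rw [card_eq_descFactorial_mul ht x, hn, Nat.descFactorial_one]; exact dvd_mul_right _ _
  have h2 := choose_dvd_card (by omega) hh1
  rw [hn] at h2
  refine (Cfsg.Agent.S0735.result G hh1 (by omega)).1 (even_iff_two_dvd.mpr ?_)
  rcases h45 with rfl | rfl
  · exact Nat.dvd_trans (by norm_num) h1
  · exact Nat.dvd_trans (by norm_num [Nat.choose]) h2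

/-- `k + 1 = n ∈ {5, 6}`. -/
theorem card_of_index_ge {j a : ℕ} (hn : Fintype.card α ≠ 4) (hT : MulAction.IsMultiplyPretransitive G α j)
    (hj : j ≤ Fintype.card α) (hA : ¬ alternatingGroup α ≤ G)
    (ha : (Fintype.card α).factorial = (Fintype.card α).descFactorial j * a)
    (ha6 : a < 2 * Fintype.card α) : Nat.card G = (Fintype.card α).descFactorial j := by
  obtain ⟨x⟩ : Nonempty (Fin j ↪ α) := Function.Embedding.nonempty_of_card_le (by simpa using hj)
  have h := card_eq_descFactorial_mul hT x
  set m := Nat.card (tupleStab G x) with hm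
  have hi := G.index_mul_card
  rw [Nat.card_perm, Nat.card_eq_fintype_card (α := α), ha, h] at hi
  have hpos : 0 < (Fintype.card α).descFactorial j := by
    rw [Nat.pos_iff_ne_zero, ne_eq, Nat.descFactorial_eq_zero_iff_lt]; omega
  have him : G.index * m = a := Nat.eq_of_mul_eq_mul_left hpos (by rw [← hi]; ring)
  rcases Nat.lt_or_ge m 2 with hm2 | hm2
  · rw [h, show m = 1 by have := Nat.card_pos (α := tupleStab G x); omega, mul_one]
  · exfalso
    refine hA (alternating_le_of_index_lt hn ?_)
    have := Nat.mul_le_mul_left G.index hm2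
    omega

theorem perm_card_of_three_dvd {H : Subgroup (Perm (Fin 3))} (hne : H ≠ ⊤) {π : Perm (Fin 3)}
    (hπ : π ∈ H) (h3 : 3 ∣ Nat.card H) : Perm.sign π = 1 := by
  have hd := Subgroup.card_subgroup_dvd_card H
  rw [Nat.card_perm, Nat.card_eq_fintype_card (α := Fin 3), Fintype.card_fin] at hd
  have hle := Nat.le_of_dvd (by norm_num) hd
  have hne' : Nat.card H ≠ 6 := fun h => hne (Subgroup.eq_top_of_card_eq H (by
    rw [h, Nat.card_perm, Nat.card_eq_fintype_card (α := Fin 3), Fintype.card_fin]; rfl))
  have hc : Nat.card H = 3 := by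
    have := Nat.card_pos (α := H)
    norm_num [Nat.factorial] at hd hle
    interval_cases Nat.card H <;> omega
  have h : π ^ 3 = 1 := by
    have := pow_card_eq_one' (x := (⟨π, hπ⟩ : H))
    rw [hc] at this
    exact congrArg Subtype.val this
  have := congrArg Perm.sign h
  rw [map_pow, map_one] at this
  rcases Int.units_eq_one_or (Perm.sign π) with h1 | h1
  · exact h1
  · rw [h1] at this; exact absurd this (by decide)

theorem six_four_false (hn : Fintype.card α = 6) (hT : MulAction.IsMultiplyPretransitive G α 2)
    (hno : ¬ MulAction.IsMultiplyPretransitive G α 3)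
    (hh3 : MulAction.IsPretransitive G (Set.powersetCard α 3))
    (hh4 : MulAction.IsPretransitive G (Set.powersetCard α 4)) : False := by
  have hA := not_alternating_le hno (by omega)
  have hP := isPreprimitive_of_transitive le_rfl (by omega) hT
  have hev : OddFree G 3 := by
    intro x g hg π hπ
    have hc := card_eq_choose_mul_tupleGrp hh3 x fun g hg h =>
      tupleStab_eq_bot_of_three hP hA (by omega) x hg h
    obtain ⟨y⟩ : Nonempty (Fin 2 ↪ α) := Function.Embedding.nonempty_of_card_le (by simp; omega)
    have h2 := card_eq_descFactorial_mul hT y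
    rw [hn] at hc h2
    norm_num [Nat.choose, Nat.descFactorial] at hc h2
    refine perm_card_of_three_dvd (tupleGrp_ne_top hh3 hno x.injective) ⟨g, hg, hπ⟩ ?_
    omega
  obtain ⟨e, he, heq⟩ := oddFree_equation le_rfl (by omega) hev hT hh3 hh4
  rw [Fin.sum_univ_four, hn] at heq
  rcases he 0 with h0 | h0 <;> rcases he 1 with h1 | h1 <;> rcases he 2 with h2 | h2 <;>
    rcases he 3 with h3 | h3 <;> rw [h0, h1, h2, h3] at heq <;> norm_num at heq

theorem seven_eight_false {j : ℕ} (hj : j = 2 ∨ j = 3) (hn : Fintype.card α = j + 5)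
    (hT : MulAction.IsMultiplyPretransitive G α j)
    (hno : ¬ MulAction.IsMultiplyPretransitive G α (j + 1))
    (hh : MulAction.IsPretransitive G (Set.powersetCard α (j + 1))) : False := by
  obtain ⟨x⟩ : Nonempty (Fin j ↪ α) := Function.Embedding.nonempty_of_card_le (by simp; omega)
  refine hno (transitive_succ_of_five hT hn x ?_)
  have h1 := card_eq_descFactorial_mul hT x
  have h2 := choose_dvd_card (by omega) hh
  rw [h1, hn] at h2
  rcases hj with rfl | rfl
  · norm_num [Nat.choose, Nat.descFactorial] at h2
    omega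
  · norm_num [Nat.choose, Nat.descFactorial] at h2
    omega

theorem seven_five_false (hn : Fintype.card α = 7) (hT : MulAction.IsMultiplyPretransitive G α 3)
    (hno : ¬ MulAction.IsMultiplyPretransitive G α 4)
    (hh4 : MulAction.IsPretransitive G (Set.powersetCard α 4))
    (hh5 : MulAction.IsPretransitive G (Set.powersetCard α 5)) : False := by
  classical
  have hA := not_alternating_le hno (by omega)
  have hP := isPreprimitive_of_transitive (by norm_num) (by omega) hT
  have hev : ¬ OddFree G 4 := by
    intro hev
    obtain ⟨e, he, heq⟩ := oddFree_equation (by norm_num) (by omega) hev hT hh4 hh5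
    rw [Fin.sum_univ_five, hn] at heq
    rcases he 0 with h0 | h0 <;> rcases he 1 with h1 | h1 <;> rcases he 2 with h2 | h2 <;>
      rcases he 3 with h3 | h3 <;> rcases he 4 with h4 | h4 <;>
      rw [h0, h1, h2, h3, h4] at heq <;> norm_num at heq
  obtain ⟨x⟩ : Nonempty (Fin 4 ↪ α) := Function.Embedding.nonempty_of_card_le (by simp; omega)
  have hx := card_eq_choose_mul_tupleGrp hh4 x fun g hg h =>
    tupleStab_eq_bot_of_three hP hA (by omega) x hg h
  have hG : Nat.card G = 210 := by
    obtain ⟨y⟩ : Nonempty (Fin 3 ↪ α) := Function.Embedding.nonempty_of_card_le (by simp; omega)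
    have h3 := card_eq_descFactorial_mul hT y
    rw [hn, show Nat.choose 7 4 = 35 from rfl] at hx
    rw [hn, show Nat.descFactorial 7 3 = 210 from rfl] at h3
    set H := tupleGrp G (⇑x) with hH
    have hd := Subgroup.card_subgroup_dvd_card H
    rw [Nat.card_perm, Nat.card_eq_fintype_card (α := Fin 4), Fintype.card_fin] at hd
    rw [show Nat.factorial 4 = 24 from rfl] at hd
    have h24 : Nat.card H ≠ 24 := fun h => tupleGrp_ne_top hh4 hno x.injective
      (Subgroup.eq_top_of_card_eq H (by
        rw [h, Nat.card_perm, Nat.card_eq_fintype_card (α := Fin 4), Fintype.card_fin]; rfl))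
    have h12 : Nat.card H ≠ 12 := by
      intro h
      have hi := H.index_mul_card
      rw [h, Nat.card_perm, Nat.card_eq_fintype_card (α := Fin 4), Fintype.card_fin] at hi
      have h2 : H.index = 2 := by rw [show Nat.factorial 4 = 24 from rfl] at hi; omega
      obtain ⟨σ, hσ, hs⟩ := exists_odd_mem hh4 hev x.injective
      rw [← hH, Perm.eq_alternatingGroup_of_index_eq_two h2, Perm.mem_alternatingGroup, hs] at hσ
      exact absurd hσ (by decide)
    generalize Nat.card ↥H = c at hd h24 h12 hx
    have : c ≤ 24 := Nat.le_of_dvd (by norm_num) hd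
    interval_cases c <;> omega
  have hone : ∀ x : Fin 3 ↪ α, ∀ g ∈ G, (∀ i, g (x i) = x i) → g = 1 := by
    intro x g hg h
    have h3 := card_eq_descFactorial_mul hT x
    rw [hn, hG, show Nat.descFactorial 7 3 = 210 from rfl] at h3
    have : Subsingleton (tupleStab G x) := (Nat.card_eq_one_iff_unique.mp (by omega)).1
    exact congrArg Subtype.val (Subsingleton.elim (⟨g, mem_tupleStab.mpr ⟨hg, h⟩⟩ : tupleStab G x) 1)
  set I := (univ : Finset (Perm α)).filter fun g => g ∈ G ∧ g ^ 3 = 1 ∧ g ≠ 1 with hI
  have hevI : Even I.card := by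
    refine even_card_of_involution I (·⁻¹) (fun g hg => ?_) (fun g hg h => ?_) fun g _ => inv_inv g
    · simp only [hI, mem_filter, mem_univ, true_and] at hg ⊢
      exact ⟨inv_mem hg.1, by rw [inv_pow, hg.2.1, inv_one], inv_ne_one.mpr hg.2.2⟩
    · simp only [hI, mem_filter, mem_univ, true_and] at hg
      apply hg.2.2
      have h' : g * g = 1 := by nth_rw 1 [← h]; exact inv_mul_cancel g
      calc g = g ^ 3 := by rw [pow_succ, pow_two, h', one_mul]
        _ = 1 := hg.2.1
  have hsum := sum_card_patF I (finRotate 3)
  have hc6 : ∀ g ∈ I, (patF g (finRotate 3)).card = 6 := by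
    intro g hg
    simp only [hI, mem_filter, mem_univ, true_and] at hg
    have hord : orderOf g = 3 := by
      have : Fact (Nat.Prime 3) := ⟨Nat.prime_three⟩
      exact orderOf_eq_prime hg.2.1 hg.2.2
    have hs : g.support.card = 6 := by
      obtain ⟨r, hr⟩ := Perm.cycleType_prime_order (hord ▸ Nat.prime_three)
      have hsum := Perm.sum_cycleType g
      rw [hr, hord, Multiset.sum_replicate, smul_eq_mul] at hsum
      have := four_le_support hP hA hg.1 hg.2.2
      have : g.support.card ≤ 7 := hn ▸ g.support.card_le_univ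
      omega
    rw [← hs]
    have e3 : ∀ a, g (g (g a)) = a := fun a => by
      rw [← Perm.mul_apply, ← Perm.mul_apply, ← pow_two, ← pow_succ, hg.2.1, Perm.one_apply]
    have hne2 : ∀ a, g a ≠ a → g (g a) ≠ a := fun a ha h => ha (by
      conv_lhs => rw [← h]
      rw [e3])
    refine card_bij (fun y _ => y 0) (fun y hy => ?_) (fun y hy z hz h => ?_) (fun a ha => ?_)
    · rw [Perm.mem_support, mem_patF.mp hy 0]
      exact fun h => absurd (y.injective h) (by decide)
    · have hy0 := mem_patF.mp hy; have hz0 := mem_patF.mp hz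
      have e1 : y 1 = z 1 := by
        have a := hy0 0; have b := hz0 0
        rw [h] at a
        exact a.symm.trans b
      refine Function.Embedding.ext fun i => ?_
      fin_cases i
      · exact h
      · exact e1
      · have a := hy0 1; have b := hz0 1
        rw [e1] at a
        exact a.symm.trans b
    · rw [Perm.mem_support] at ha
      have hinj : Function.Injective ![a, g a, g (g a)] := by
        intro p q h
        have h2 := hne2 a ha
        have h3 : g (g a) ≠ g a := fun h => ha (g.injective h)
        have h4 := Ne.symm ha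
        have h5 := Ne.symm h2
        have h6 := Ne.symm h3
        fin_cases p <;> fin_cases q <;> first | rfl | exact absurd h ‹_›
      refine ⟨⟨_, hinj⟩, mem_patF.mpr fun i => ?_, rfl⟩
      fin_cases i <;> first | rfl | exact e3 a
  have hfib : ∀ x : Fin 3 ↪ α, (I.filter fun u => ∀ i, u (x i) = x (finRotate 3 i)).card = 1 := by
    intro x
    rw [card_eq_one]
    obtain ⟨g, hg, hgx⟩ := exists_map_tuple hT (Fintype.card_fin 3) x ((finRotate 3).toEmbedding.trans x)
    refine ⟨g, ext fun u => ?_⟩
    simp only [hI, mem_filter, mem_univ, true_and, mem_singleton]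
    constructor
    · rintro ⟨⟨huG, -⟩, hux⟩
      exact (inv_mul_eq_one.mp (hone x _ (mul_mem (inv_mem hg) huG) fun i => by
        rw [Perm.mul_apply, hux, Perm.inv_eq_iff_eq, hgx]; rfl)).symm
    · rintro rfl
      refine ⟨⟨hg, hone x _ (pow_mem hg 3) fun i => ?_, fun h => ?_⟩, hgx⟩
      · rw [pow_succ, pow_two, Perm.mul_apply, Perm.mul_apply, hgx]
        show u (u (x _)) = _
        rw [hgx]; show u (x _) = _
        rw [hgx]
        show x (finRotate 3 (finRotate 3 (finRotate 3 i))) = x i
        congr 1
        revert i; decide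
      · have := hgx 0
        rw [h] at this
        exact absurd (x.injective this) (by decide)
  rw [sum_congr rfl hc6] at hsum
  replace hsum : ∑ _g ∈ I, 6 = ∑ _x : Fin 3 ↪ α, 1 :=
    hsum.trans (Fintype.sum_congr _ _ fun y => by convert hfib y)
  rw [sum_const, sum_const, smul_eq_mul,
    smul_eq_mul, mul_one, card_univ, Fintype.card_embedding_eq, hn, Fintype.card_fin] at hsum
  obtain ⟨r, hr⟩ := hevI
  norm_num [Nat.descFactorial] at hsum
  omega

end Cfsg.Agent.Perm
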