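import Mathlib.GroupTheory.GroupAction.Primitive
import Cfsg.Agent.Perm.RegularNormal
import Cfsg.Agent.Frobenius.Action
import Cfsg.Agent.Frobenius.KernelTheorem

/-!
Burnside: a minimal normal subgroup of a 2-transitive group is regular or simple and primitive.
-/

set_option autoImplicit false
set_option linter.style.haveILetI false

open MulAction
open scoped Pointwise

namespace Cfsg.Agent.Perm

variable {G : Type*} [Group G] [Finite G] {X : Type*} [MulAction G X] [FaithfulSMul G X] [Finite X]

theorem block_translate {N : Subgroup G} [hN : N.Normal] {B : Set X} (hB : IsBlock N B) (g : G) :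
    IsBlock N (g • B) := by
  rw [isBlock_iff_smul_eq_or_disjoint]
  intro n
  have key : n • (g • B) =
      g • ((⟨g⁻¹ * n * g, by simpa using hN.conj_mem n n.2 g⁻¹⟩ : N) • B) := by
    show (n : G) • (g • B) = g • ((g⁻¹ * (n : G) * g) • B)
    rw [← mul_smul, ← mul_smul]; group
  rw [key]
  rcases isBlock_iff_smul_eq_or_disjoint.mp hB
    (⟨g⁻¹ * n * g, by simpa using hN.conj_mem n n.2 g⁻¹⟩ : N) with h | h
  · left; rw [h]
  · right; exact (Set.disjoint_image_iff (MulAction.injective g)).mpr h

/-- In an imprimitive transitive normal subgroup of a 2-transitive group only the identity fixes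
two points. -/
theorem fix_two_of_imprimitive (h2 : IsMultiplyPretransitive G X 2) {N : Subgroup G} [N.Normal]
    {B0 : Set X} (hB0 : IsBlock N B0) (hB0' : ¬ IsTrivialBlock B0) :
    ∀ n ∈ N, ∀ x y : X, x ≠ y → n • x = x → n • y = y → n = 1 := by
  classical
  let S : Set (Set X) := {B | IsBlock N B ∧ ¬ IsTrivialBlock B}
  obtain ⟨B, hBS, hmin⟩ := S.toFinite.exists_minimalFor Set.ncard S ⟨B0, hB0, hB0'⟩
  obtain ⟨hB, hBt⟩ := hBS
  simp only [IsTrivialBlock, not_or] at hBt
  obtain ⟨hBs, hBu⟩ := hBt
  obtain ⟨a, ha, b, hb, hab⟩ := Set.not_subsingleton_iff.mp hBs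
  rw [is_two_pretransitive_iff] at h2
  have line : ∀ x y : X, x ≠ y → ∃ g : G, x ∈ g • B ∧ y ∈ g • B := by
    intro x y hxy
    obtain ⟨g, hgx, hgy⟩ := h2 hab hxy
    exact ⟨g, ⟨a, ha, hgx⟩, ⟨b, hb, hgy⟩⟩
  have uniq : ∀ (g g' : G) (x y : X), x ≠ y → x ∈ g • B → y ∈ g • B → x ∈ g' • B → y ∈ g' • B →
      g • B = g' • B := by
    intro g g' x y hxy hx hy hx' hy'
    have hI := (block_translate hB g).inter (block_translate hB g')
    have hcard : ∀ h : G, (h • B).ncard = B.ncard := fun h =>
      Set.ncard_image_of_injective B (MulAction.injective h)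
    have hnt : ¬ IsTrivialBlock (g • B ∩ g' • B) := by
      rintro (h | h)
      · exact hxy (h ⟨hx, hx'⟩ ⟨hy, hy'⟩)
      · apply hBu
        have h' : g • B = Set.univ := Set.eq_univ_of_subset (Set.inter_subset_left (t := g' • B)) h
        rw [← inv_smul_smul g B, h', Set.smul_set_univ]
    have hle : B.ncard ≤ (g • B ∩ g' • B).ncard := by
      by_contra hlt
      have := hmin (j := g • B ∩ g' • B) ⟨hI, hnt⟩ (by omega)
      omega
    have e1 : g • B ∩ g' • B = g • B :=
      Set.eq_of_subset_of_ncard_le Set.inter_subset_left (by rw [hcard]; exact hle)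
    have e2 : g • B ∩ g' • B = g' • B :=
      Set.eq_of_subset_of_ncard_le Set.inter_subset_right (by rw [hcard]; exact hle)
    rw [← e1, e2]
  have keep : ∀ n ∈ N, ∀ (g : G) (x : X), n • x = x → x ∈ g • B → ∀ w ∈ g • B, n • w ∈ g • B := by
    intro n hn g x hx hxg w hw
    have := (isBlock_iff_smul_eq_of_mem.mp (block_translate hB g)) (g := (⟨n, hn⟩ : N)) hxg
      (show n • x ∈ g • B by rw [hx]; exact hxg)
    rw [← this]
    exact ⟨w, hw, rfl⟩
  intro n hn x y hxy hx hy
  obtain ⟨g, hgx, hgy⟩ := line x y hxy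
  have off : ∀ (x y : X) (g : G), x ≠ y → n • x = x → n • y = y → x ∈ g • B → y ∈ g • B →
      ∀ z, z ∉ g • B → n • z = z := by
    intro x y g hxy hx hy hgx hgy z hz
    have hzx : x ≠ z := fun h => hz (h ▸ hgx)
    have hzy : y ≠ z := fun h => hz (h ▸ hgy)
    obtain ⟨g1, h1x, h1z⟩ := line x z hzx
    obtain ⟨g2, h2y, h2z⟩ := line y z hzy
    by_contra hne
    have h12 := uniq g1 g2 (n • z) z hne (keep n hn g1 x hx h1x z h1z) h1z
      (keep n hn g2 y hy h2y z h2z) h2z
    have := uniq g1 g x y hxy h1x (h12 ▸ h2y) hgx hgy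
    exact hz (this ▸ h1z)
  apply eq_of_smul_eq_smul (α := X)
  intro w
  rw [one_smul]
  by_cases hw : w ∈ g • B
  · by_cases hwx : w = x
    · rw [hwx, hx]
    obtain ⟨z, hz⟩ : ∃ z, z ∉ g • B := by
      by_contra hcon
      push Not at hcon
      apply hBu
      rw [← inv_smul_smul g B, Set.eq_univ_of_forall hcon, Set.smul_set_univ]
    have hzf := off x y g hxy hx hy hgx hgy z hz
    have hxz : x ≠ z := fun h => hz (h ▸ hgx)
    obtain ⟨g1, h1x, h1z⟩ := line x z hxz
    refine off x z g1 hxz hx hzf h1x h1z w fun hw1 => ?_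
    have := uniq g g1 x w (Ne.symm hwx) hgx hw h1x hw1
    exact hz (this ▸ h1z)
  · exact off x y g hxy hx hy hgx hgy w hw

/-- A non-regular minimal normal subgroup of a 2-transitive group is primitive. -/
theorem preprimitive_of_minimal_two [Nontrivial X] (h2 : IsMultiplyPretransitive G X 2)
    {N : Subgroup G} [N.Normal] (hN : N ≠ ⊥)
    (hmin : ∀ L : Subgroup G, L.Normal → L ≤ N → L = ⊥ ∨ L = N)
    (hnr : ∃ a : X, stabilizer N a ≠ ⊥) : IsPreprimitive N X := by
  haveI ht := transitive_of_normal_of_two (X := X) h2 hN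
  refine ⟨fun {B} hB => ?_⟩
  by_contra hBt
  have hfix2 := fix_two_of_imprimitive h2 hB hBt
  obtain ⟨a, ha⟩ := hnr
  have hfix : ∀ g : N, g ≠ 1 → ∀ x y : X, g • x = x → g • y = y → x = y := by
    intro g hg x y hx hy
    by_contra hxy
    exact hg (Subtype.ext (hfix2 g g.2 x y hxy hx hy))
  have htop : stabilizer N a ≠ ⊤ := by
    intro h
    obtain ⟨b, hb⟩ := exists_ne a
    obtain ⟨n, hn⟩ := exists_smul_eq N a b
    have : n ∈ stabilizer N a := h ▸ Subgroup.mem_top n
    exact hb (hn.symm.trans this)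
  have hH := Cfsg.Agent.Frobenius.stabilizer_isFrobeniusComplement hfix a ha htop
  obtain ⟨K, hK, hKn, hKc⟩ := Cfsg.Agent.Frobenius.exists_kernel hH
  rw [Cfsg.Agent.Frobenius.kernel_stabilizer_eq (fun x y => exists_smul_eq N x y) a] at hK
  have hKmem : ∀ k : N, k ∈ K ↔ k = 1 ∨ ∀ w : X, (k : G) • w ≠ w := fun k =>
    Set.ext_iff.mp hK k
  have hL : (K.map N.subtype).Normal := by
    constructor
    rintro _ ⟨k, hk, rfl⟩ g
    refine ⟨⟨g * k * g⁻¹, (inferInstance : N.Normal).conj_mem (k : G) k.2 g⟩, ?_, rfl⟩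
    rw [SetLike.mem_coe, hKmem]
    rcases (hKmem k).mp hk with h | h
    · left; exact Subtype.ext (by simp [h])
    · right
      intro w hw
      apply h (g⁻¹ • w)
      have hw' : (g * k * g⁻¹) • w = w := hw
      rw [mul_smul, mul_smul] at hw'
      rw [eq_inv_smul_iff, hw']
  rcases hmin _ hL (Subgroup.map_subtype_le K) with h | h
  · have hKb : K = ⊥ := (Subgroup.map_eq_bot_iff_of_injective K N.subtype_injective).mp h
    rw [hKb] at hKc
    exact htop (Subgroup.isComplement'_bot_left.mp hKc)
  · have hKt : K = ⊤ := by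
      apply Subgroup.map_injective N.subtype_injective
      rw [h, ← MonoidHom.range_eq_map, Subgroup.range_subtype]
    rw [hKt] at hKc
    exact ha (Subgroup.isComplement'_top_left.mp hKc)

/-- A non-regular minimal normal subgroup of a 2-transitive group is simple. -/
theorem simple_of_minimal_two [Nontrivial X] (h2 : IsMultiplyPretransitive G X 2)
    {N : Subgroup G} [hNn : N.Normal] (hN : N ≠ ⊥)
    (hmin : ∀ L : Subgroup G, L.Normal → L ≤ N → L = ⊥ ∨ L = N)
    (hnr : ∃ a : X, stabilizer N a ≠ ⊥) : IsSimpleGroup N := by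
  classical
  haveI hprim := preprimitive_of_minimal_two h2 hN hmin hnr
  haveI : Nontrivial N := N.nontrivial_iff_ne_bot.mpr hN
  refine ⟨fun M0 hM0 => ?_⟩
  by_contra hcon
  push Not at hcon
  obtain ⟨hM0b, hM0t⟩ := hcon
  haveI := hM0
  obtain ⟨M, hMn, hMle, hMb, hMmin⟩ := exists_minimal_normal_le hM0b
  haveI := hMn
  have hMt : M ≠ ⊤ := fun h => hM0t (top_le_iff.mp (h ▸ hMle))
  have htM : IsPretransitive M X := transitive_of_normal (X := X) hMb
  let c : G → (N ≃* N) := fun g => MulAut.conjNormal g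
  let M' : G → Subgroup N := fun g => M.map (c g).toMonoidHom
  have hM'n : ∀ g, (M' g).Normal := fun g =>
    Subgroup.Normal.map hMn _ (c g).surjective
  have hM'min : ∀ g, ∀ L : Subgroup N, L.Normal → L ≤ M' g → L = ⊥ ∨ L = M' g := by
    intro g L hL hle
    have hcs : (L.comap (c g).toMonoidHom).Normal := hL.comap _
    have hle' : L.comap (c g).toMonoidHom ≤ M := by
      rw [← Subgroup.comap_map_eq_self_of_injective (f := (c g).toMonoidHom) (c g).injective M]
      exact Subgroup.comap_mono hle
    rcases hMmin _ hcs hle' with h | h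
    · left
      rw [← Subgroup.map_comap_eq_self_of_surjective (f := (c g).toMonoidHom) (c g).surjective L, h,
        Subgroup.map_bot]
    · right
      show L = M.map _
      rw [← h, Subgroup.map_comap_eq_self_of_surjective (f := (c g).toMonoidHom) (c g).surjective]
  have hcomm : ∀ g, M' g ≠ M → ∀ x ∈ M, ∀ y ∈ M' g, x * y = y * x := by
    intro g hne x hx y hy
    haveI := hM'n g
    refine Subgroup.commute_of_normal_of_disjoint M (M' g) hMn (hM'n g) ?_ x y hx hy
    rw [disjoint_iff]
    rcases hMmin (M ⊓ M' g) inferInstance inf_le_left with h | h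
    · exact h
    · rcases hM'min g (M ⊓ M' g) inferInstance inf_le_right with h' | h'
      · exact h'
      · exact absurd (h'.symm.trans h) hne
  obtain ⟨g1, hg1⟩ : ∃ g, M' g ≠ M := by
    by_contra hall
    push Not at hall
    have hL : (M.map N.subtype).Normal := by
      constructor
      rintro _ ⟨m, hm, rfl⟩ g
      refine ⟨c g m, ?_, ?_⟩
      · have : c g m ∈ M' g := ⟨m, hm, rfl⟩
        rwa [hall g] at this
      · exact MulAut.conjNormal_apply g m
    rcases hmin _ hL (Subgroup.map_subtype_le M) with h | h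
    · exact hMb ((Subgroup.map_eq_bot_iff_of_injective M N.subtype_injective).mp h)
    · apply hMt
      apply Subgroup.map_injective N.subtype_injective
      rw [h, ← MonoidHom.range_eq_map, Subgroup.range_subtype]
  have hMfree : ∀ x : X, stabilizer M x = ⊥ := by
    have hM'b : M' g1 ≠ ⊥ := fun h =>
      hMb ((Subgroup.map_eq_bot_iff_of_injective M (c g1).injective).mp h)
    haveI := hM'n g1
    have ht' : IsPretransitive (M' g1) X := transitive_of_normal (X := X) hM'b
    rw [free_iff]
    intro n hn x hx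
    exact eq_one_of_commute_of_fixed (S := (M' g1 : Set N)) (exists_mem_smul_eq ht')
      (fun s hs => (hcomm g1 hg1 n hn s hs).symm) hx
  obtain ⟨a⟩ : Nonempty X := inferInstance
  rw [is_two_pretransitive_iff] at h2
  have hord : ∀ m ∈ M, ∀ n ∈ M, m ≠ 1 → n ≠ 1 → orderOf m = orderOf n := by
    intro m hm n hn hm1 hn1
    have hma : a ≠ m • a := fun h => hm1 (free_iff.mp hMfree m hm a h.symm)
    have hna : a ≠ n • a := fun h => hn1 (free_iff.mp hMfree n hn a h.symm)
    obtain ⟨g, hga, hgm⟩ := h2 hma hna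
    have hcoe : ((c g m : N) : G) = g * m * g⁻¹ := MulAut.conjNormal_apply g m
    have hca : (c g m : N) • a = n • a := by
      show ((c g m : N) : G) • a = (n : G) • a
      rw [hcoe, ← smul_conj_smul hga]
      exact hgm
    rw [← orderOf_injective (c g).toMonoidHom (c g).injective m]
    show orderOf (c g m) = orderOf n
    by_cases hsame : M' g = M
    · have hcm : c g m ∈ M := by rw [← hsame]; exact ⟨m, hm, rfl⟩
      rw [eq_of_smul_eq_of_free hMfree hcm hn a hca]
    · have hcm : c g m ∈ M' g := ⟨m, hm, rfl⟩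
      have hfree' : ∀ z ∈ M' g, ∀ x : X, z • x = x → z = 1 := fun z hz x hx =>
        eq_one_of_commute_of_fixed (S := (M : Set N)) (exists_mem_smul_eq htM)
          (fun s hs => hcomm g hsame s hs z hz) hx
      have hpow : ∀ k : ℕ, (c g m) ^ k • a = n ^ k • a := by
        intro k
        induction k with
        | zero => simp
        | succ k ih =>
          rw [pow_succ, mul_smul, hca, ← mul_smul,
            ← hcomm g hsame n hn _ ((M' g).pow_mem hcm k), mul_smul, ih, ← mul_smul, ← pow_succ']
      rw [orderOf_eq_orderOf_iff]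
      intro k
      constructor
      · intro h
        refine free_iff.mp hMfree _ (M.pow_mem hn k) a ?_
        rw [← hpow k, h, one_smul]
      · intro h
        refine hfree' _ ((M' g).pow_mem hcm k) a ?_
        rw [hpow k, h, one_smul]
  have hc1 : Nat.card M ≠ 1 := fun h' => hMb (Subgroup.eq_bot_of_card_eq M h')
  obtain ⟨p, hp, hpd⟩ := Nat.exists_prime_and_dvd hc1
  haveI : Fact p.Prime := ⟨hp⟩
  obtain ⟨x, hx⟩ := exists_prime_orderOf_dvd_card' (G := M) p hpd
  have hx1 : (x : N) ≠ 1 := fun h => hp.ne_one (by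
    rw [← hx, ← Subgroup.orderOf_coe, h, orderOf_one])
  have hP : IsPGroup p M := fun n => ⟨1, Subtype.ext (by
    rw [pow_one, SubgroupClass.coe_pow, OneMemClass.coe_one]
    by_cases hn1 : (n : N) = 1
    · rw [hn1, one_pow]
    · rw [← hx, ← Subgroup.orderOf_coe, ← hord n n.2 x x.2 hn1 hx1]
      exact pow_orderOf_eq_one _)⟩
  haveI : Nontrivial M := M.nontrivial_iff_ne_bot.mpr hMb
  have hZn : ((Subgroup.center M).map M.subtype).Normal :=
    ConjAct.normal_of_characteristic_of_normal
  have hab : IsMulCommutative M := by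
    rcases hMmin _ hZn (Subgroup.map_subtype_le _) with h | h
    · exact absurd ((Subgroup.map_eq_bot_iff_of_injective _ M.subtype_injective).mp h)
        hP.bot_lt_center.ne'
    · have hZt : Subgroup.center M = ⊤ := by
        apply Subgroup.map_injective M.subtype_injective
        rw [h, ← MonoidHom.range_eq_map, Subgroup.range_subtype]
      refine ⟨⟨fun u v => ?_⟩⟩
      exact (Subgroup.mem_center_iff.mp (hZt ▸ Subgroup.mem_top v) u)
  have hcent := centralizer_eq_self (X := X) hab htM
  have hle : M' g1 ≤ M := by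
    rw [← hcent]
    intro y hy
    rw [Subgroup.mem_centralizer_iff]
    exact fun s hs => hcomm g1 hg1 s hs y hy
  rcases hMmin _ (hM'n g1) hle with h | h
  · exact hMb ((Subgroup.map_eq_bot_iff_of_injective M (c g1).injective).mp h)
  · exact hg1 h

end Cfsg.Agent.Perm
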