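import Mathlib.GroupTheory.GroupAction.MultiplePrimitivity
import Cfsg.Agent.Perm.RegularNormal
import Cfsg.Agent.Frobenius.Action
import Cfsg.Agent.Frobenius.KernelTheorem
import Cfsg.Agent.S0696

/-!
Normal subgroups of multiply primitive / multiply transitive groups (Jordan, Wagner).
-/

set_option autoImplicit false
set_option linter.style.haveILetI false

open MulAction
open scoped Pointwise

namespace Cfsg.Agent.Perm

universe u v

theorem natCard_ofStabilizer {G : Type*} [Group G] {X : Type*} [MulAction G X] [Finite X] (a : X) :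
    Nat.card (SubMulAction.ofStabilizer G a) + 1 = Nat.card X := by
  classical
  haveI := Fintype.ofFinite X
  show Nat.card {x : X // x ∈ SubMulAction.ofStabilizer G a} + 1 = _
  rw [Nat.card_congr (Equiv.subtypeEquivRight (q := fun x => x ≠ a)
    (fun x => SubMulAction.mem_ofStabilizer_iff G a)),
    Nat.card_eq_fintype_card, Nat.card_eq_fintype_card, Fintype.card_subtype_compl,
    Fintype.card_subtype_eq]
  have := Fintype.card_pos_iff.mpr ⟨a⟩
  omega

instance faithful_ofStabilizer {G : Type*} [Group G] {X : Type*} [MulAction G X] [FaithfulSMul G X]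
    (a : X) : FaithfulSMul (stabilizer G a) (SubMulAction.ofStabilizer G a) := by
  refine ⟨fun {g h} hgh => Subtype.ext (eq_of_smul_eq_smul (α := X) fun x => ?_)⟩
  by_cases hx : x = a
  · subst hx
    exact g.2.trans h.2.symm
  · exact congrArg Subtype.val (hgh ⟨x, hx⟩)

/-- A regular normal subgroup forces the degree to be a power of two in a 2-primitive group. -/
theorem card_two_pow_of_regular_normal {G : Type*} [Group G] [Finite G] {X : Type*} [Fintype X]
    [MulAction G X] (hX : 2 ≤ Fintype.card X) (h2 : IsMultiplyPreprimitive G X 2)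
    (N : Subgroup G) [N.Normal] (ht : IsPretransitive N X) (hf : ∀ x : X, stabilizer N x = ⊥) :
    Fintype.card X = 3 ∨ ∃ m : ℕ, Fintype.card X = 2 ^ m :=
  (Cfsg.Agent.S0695.result hX h2 N ht hf).imp id fun h => h.2.2

/-- Main induction (Wielandt 10.4). -/
theorem pretransitive_of_preprimitive :
    ∀ (k : ℕ) {G : Type u} [Group G] [Finite G] {X : Type v} [MulAction G X] [FaithfulSMul G X]
      [Finite X], IsMultiplyPreprimitive G X k → k + 2 ≤ Nat.card X →
      ∀ (H : Subgroup G), H.Normal → H ≠ ⊥ → (k ≤ 1 ∨ ∃ a : X, stabilizer H a ≠ ⊥) →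
      IsMultiplyPretransitive H X k := by
  intro k
  induction k using Nat.strong_induction_on with
  | _ k ih =>
  intro G _ _ X _ _ _ hk hcard H hH hne hnr
  haveI := hH
  haveI := Fintype.ofFinite X
  have hEcard : ∀ m : ℕ, m ≤ Nat.card X → (m : ℕ∞) ≤ ENat.card X := fun m hm => by
    rw [ENat.card_eq_coe_natCard]; exact_mod_cast hm
  rcases Nat.eq_zero_or_pos k with rfl | hkpos
  · exact is_zero_pretransitive'
  haveI hprim : IsPreprimitive G X :=
    (is_one_preprimitive_iff G X).mp
      (isMultiplyPreprimitive_of_le G X hk hkpos (hEcard k (by omega)))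
  haveI htH : IsPretransitive H X := transitive_of_normal hne
  rcases Nat.eq_or_lt_of_le hkpos with h1 | h1
  · rw [← h1]; exact is_one_pretransitive_iff.mpr htH
  obtain ⟨a, ha⟩ := hnr.resolve_left (by omega)
  obtain ⟨j, rfl⟩ : ∃ j, k = j + 1 := ⟨k - 1, by omega⟩
  have hj1 : 1 ≤ j := by omega
  have hGa : IsMultiplyPreprimitive (stabilizer G a) (SubMulAction.ofStabilizer G a) j :=
    haveI := hk
    isMultiplyPreprimitive_ofStabilizer G X
  set Ha : Subgroup (stabilizer G a) := H.subgroupOf (stabilizer G a) with hHa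
  have hHane : Ha ≠ ⊥ := by
    intro h
    apply ha
    rw [eq_bot_iff]
    intro n hn
    have hmem : (⟨(n : G), hn⟩ : stabilizer G a) ∈ Ha := Subgroup.mem_subgroupOf.mpr n.2
    rw [h, Subgroup.mem_bot] at hmem
    exact Subgroup.mem_bot.mpr (Subtype.ext (congrArg (fun z : stabilizer G a => (z : G)) hmem))
  have hcard' := natCard_ofStabilizer (G := G) a
  have conv : IsMultiplyPretransitive Ha (SubMulAction.ofStabilizer G a) j →
      IsMultiplyPretransitive H X (j + 1) := by
    intro hT
    haveI := hT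
    refine (SubMulAction.ofStabilizer.isMultiplyPretransitive (G := H) (a := a)).mpr ?_
    let σ : Ha → stabilizer H a := fun g => ⟨⟨((g : stabilizer G a) : G), g.2⟩, g.1.2⟩
    let f : SubMulAction.ofStabilizer G a →ₑ[σ] SubMulAction.ofStabilizer H a :=
      { toFun := fun x => ⟨x.1, x.2⟩
        map_smul' := fun g x => rfl }
    exact IsPretransitive.of_embedding (n := Fin j) (f := f) fun y => ⟨⟨y.1, y.2⟩, rfl⟩
  by_cases hreg : j ≤ 1 ∨
      ∃ b : SubMulAction.ofStabilizer G a, stabilizer Ha b ≠ (⊥ : Subgroup Ha)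
  · haveI : Finite (SubMulAction.ofStabilizer G a) := Finite.of_injective _ Subtype.val_injective
    exact conv (ih j (by omega) hGa (by omega) Ha inferInstance hHane hreg)
  exfalso
  push Not at hreg
  obtain ⟨hj2, hregHa⟩ := hreg
  -- only the identity of `H` fixes two points
  have hfixa : ∀ h ∈ H, h • a = a → ∀ y, y ≠ a → h • y = y → h = 1 := by
    intro h hh hha y hy hhy
    have hmem : (⟨⟨h, hha⟩, Subgroup.mem_subgroupOf.mpr hh⟩ : Ha) ∈
        stabilizer Ha (⟨y, hy⟩ : SubMulAction.ofStabilizer G a) := Subtype.ext hhy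
    rw [hregHa, Subgroup.mem_bot] at hmem
    exact congrArg (fun z : Ha => ((z : stabilizer G a) : G)) hmem
  have hfix : ∀ g : H, g ≠ 1 → ∀ x y : X, g • x = x → g • y = y → x = y := by
    intro g hg x y hx hy
    by_contra hxy
    obtain ⟨h, rfl⟩ := exists_smul_eq H a x
    have hx' : (g : G) • (h : G) • a = (h : G) • a := hx
    have hy' : (g : G) • y = y := hy
    have := hfixa ((h : G)⁻¹ * g * h) (H.mul_mem (H.mul_mem (H.inv_mem h.2) g.2) h.2)
      (by rw [mul_smul, mul_smul, hx', inv_smul_smul]) ((h : G)⁻¹ • y)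
      (fun e => hxy (by rw [show h • a = (h : G) • a from rfl, ← e, smul_inv_smul]))
      (by rw [mul_smul, mul_smul, smul_inv_smul, hy'])
    apply hg
    apply Subtype.ext
    calc (g : G) = (h : G) * ((h : G)⁻¹ * g * h) * (h : G)⁻¹ := by group
      _ = _ := by rw [this]; simp
  have htop : stabilizer H a ≠ ⊤ := by
    intro h
    obtain ⟨b, hb⟩ : ∃ b, b ≠ a := by
      haveI : Nontrivial X := Finite.one_lt_card_iff_nontrivial.mp (by omega)
      exact exists_ne a
    obtain ⟨n, hn⟩ := exists_smul_eq H a b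
    have : n ∈ stabilizer H a := h ▸ Subgroup.mem_top n
    exact hb (hn.symm.trans this)
  have hF := Cfsg.Agent.Frobenius.stabilizer_isFrobeniusComplement hfix a ha htop
  obtain ⟨K, hK, hKn, hKc⟩ := Cfsg.Agent.Frobenius.exists_kernel hF
  rw [Cfsg.Agent.Frobenius.kernel_stabilizer_eq (fun x y => exists_smul_eq H x y) a] at hK
  have hKmem : ∀ k : H, k ∈ K ↔ k = 1 ∨ ∀ w : X, (k : G) • w ≠ w := fun k =>
    Set.ext_iff.mp hK k
  set L : Subgroup G := K.map H.subtype with hLdef
  haveI hLn : L.Normal := by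
    constructor
    rintro _ ⟨k, hk', rfl⟩ g
    refine ⟨⟨g * k * g⁻¹, hH.conj_mem (k : G) k.2 g⟩, ?_, rfl⟩
    rw [SetLike.mem_coe, hKmem]
    rcases (hKmem k).mp hk' with h | h
    · left; exact Subtype.ext (by simp [h])
    · right
      intro w hw
      apply h (g⁻¹ • w)
      have hw' : (g * k * g⁻¹) • w = w := hw
      rw [mul_smul, mul_smul] at hw'
      rw [eq_inv_smul_iff, hw']
  have hLf : ∀ x : X, stabilizer L x = ⊥ := by
    rw [free_iff]
    rintro _ ⟨k, hk', rfl⟩ x hx
    rcases (hKmem k).mp hk' with h | h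
    · rw [h]; simp
    · exact absurd hx (h x)
  have hLt : IsPretransitive L X := by
    rw [isPretransitive_iff_base a]
    intro y
    obtain ⟨n, hn⟩ := exists_smul_eq H a y
    obtain ⟨⟨k, s⟩, hks⟩ := hKc.2 n
    refine ⟨⟨((k : H) : G), Subgroup.mem_map_of_mem _ k.2⟩, ?_⟩
    show ((k : H) : G) • a = y
    have hs : ((s : H) : G) • a = a := s.2
    rw [← hn, ← hks]
    show _ = (((k : H) * s : H) : G) • a
    rw [Subgroup.coe_mul, mul_smul, hs]
  have h2G : IsMultiplyPreprimitive G X 2 :=
    isMultiplyPreprimitive_of_le G X hk (by omega) (hEcard _ (by omega))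
  have hd1 := card_two_pow_of_regular_normal (by rw [← Nat.card_eq_fintype_card]; omega) h2G L hLt hLf
  rw [← Nat.card_eq_fintype_card] at hd1
  haveI : Finite (SubMulAction.ofStabilizer G a) := Finite.of_injective _ Subtype.val_injective
  haveI := Fintype.ofFinite (SubMulAction.ofStabilizer G a)
  have h2a : IsMultiplyPreprimitive (stabilizer G a) (SubMulAction.ofStabilizer G a) 2 :=
    isMultiplyPreprimitive_of_le _ _ hGa (by omega)
      (by rw [ENat.card_eq_coe_natCard]; exact_mod_cast (by omega))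
  haveI : IsPreprimitive (stabilizer G a) (SubMulAction.ofStabilizer G a) :=
    (is_one_preprimitive_iff _ _).mp
      (isMultiplyPreprimitive_of_le _ _ hGa hj1
        (by rw [ENat.card_eq_coe_natCard]; exact_mod_cast (by omega)))
  have htHa : IsPretransitive Ha (SubMulAction.ofStabilizer G a) :=
    transitive_of_normal hHane
  have hd2 := card_two_pow_of_regular_normal (by rw [← Nat.card_eq_fintype_card]; omega) h2a Ha htHa hregHa
  rw [← Nat.card_eq_fintype_card] at hd2
  rcases hd1 with h | ⟨m, hm⟩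
  · omega
  have hme : Even (Nat.card X) := by
    rw [hm]
    rcases Nat.eq_zero_or_pos m with hm0 | hm0
    · rw [hm0] at hm; omega
    · exact (Nat.even_pow' (by omega)).mpr even_two
  rcases hd2 with h | ⟨m', hm'⟩
  · omega
  rcases Nat.eq_zero_or_pos m' with hm0 | hm0
  · rw [hm0] at hm'; omega
  · have : Even (Nat.card (SubMulAction.ofStabilizer G a)) := by
      rw [hm']; exact (Nat.even_pow' (by omega)).mpr even_two
    rw [← hcard', Nat.even_add_one] at hme
    exact hme this

/-- Jordan's theorem on normal subgroups of multiply transitive groups. -/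
theorem jordan_normal {G : Type*} [Group G] [Finite G] {X : Type*} [MulAction G X]
    [FaithfulSMul G X] [Fintype X] {k : ℕ} (hk : 1 < k) (hdeg : k < Fintype.card X)
    (hG : IsMultiplyPretransitive G X k) (N : Subgroup G) [N.Normal] (hN : N ≠ ⊥) :
    IsMultiplyPretransitive N X (k - 1) ∨
      (k = 3 ∧ IsPretransitive N X ∧ IsMulCommutative N ∧ (∀ n ∈ N, n ^ 2 = 1) ∧
        ∃ m : ℕ, Fintype.card X = 2 ^ m) := by
  obtain ⟨j, rfl⟩ : ∃ j, k = j + 1 := ⟨k - 1, by omega⟩
  have hE : ∀ m : ℕ, m ≤ Fintype.card X → (m : ℕ∞) ≤ ENat.card X := fun m hm => by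
    rw [ENat.card_eq_coe_fintype_card]; exact_mod_cast hm
  haveI := hG
  have hprim : IsMultiplyPreprimitive G X j :=
    isMultiplyPreprimitive_of_isMultiplyPretransitive_succ G X (hE _ (by omega))
  rw [Nat.add_sub_cancel]
  by_cases hnr : j ≤ 1 ∨ ∃ a : X, stabilizer N a ≠ ⊥
  · exact .inl (pretransitive_of_preprimitive j hprim
      (by rw [Nat.card_eq_fintype_card]; omega) N inferInstance hN hnr)
  push Not at hnr
  obtain ⟨hj, hreg⟩ := hnr
  have h2 : IsMultiplyPreprimitive G X 2 :=
    isMultiplyPreprimitive_of_le G X hprim (by omega) (hE _ (by omega))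
  haveI : IsPreprimitive G X :=
    (is_one_preprimitive_iff G X).mp
      (isMultiplyPreprimitive_of_le G X hprim (by omega) (hE _ (by omega)))
  have ht : IsPretransitive N X := transitive_of_normal hN
  rcases Cfsg.Agent.S0695.result (by omega) h2 N ht hreg with h | ⟨hab, hexp, hm⟩
  · omega
  by_cases hj3 : 3 ≤ j
  · exfalso
    rcases Cfsg.Agent.S0696.result (by omega)
      (isMultiplyPreprimitive_of_le G X hprim hj3 (hE _ (by omega))) N ht hreg with h | h <;> omega
  exact .inr ⟨by omega, ht, hab, hexp, hm⟩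

/-- Wagner: a normal subgroup of a 3-transitive group of odd degree is 3-transitive. -/
theorem wagner {G : Type*} [Group G] [Finite G] {X : Type*} [MulAction G X]
    [FaithfulSMul G X] [Fintype X] (hodd : Odd (Fintype.card X)) (h5 : 5 ≤ Fintype.card X)
    (hG : IsMultiplyPretransitive G X 3) (N : Subgroup G) [N.Normal] (hN : N ≠ ⊥) :
    IsMultiplyPretransitive N X 3 := by
  classical
  have h2 : IsMultiplyPretransitive N X 2 := by
    rcases jordan_normal (by norm_num) (by omega) hG N hN with h | ⟨-, -, -, -, m, hm⟩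
    · exact h
    · exfalso
      rcases Nat.eq_zero_or_pos m with h0 | h0
      · rw [h0] at hm; omega
      · rw [hm, Nat.odd_pow_iff (by omega)] at hodd
        exact absurd hodd (by decide)
  have h2' : ∀ {a b c d : X}, a ≠ b → c ≠ d → ∃ n : N, n • a = c ∧ n • b = d :=
    is_two_pretransitive_iff.mp h2
  -- reduce to transitivity of two-point stabilisers
  suffices key : ∀ a b c d : X, a ≠ b → c ≠ a → c ≠ b → d ≠ a → d ≠ b →
      ∃ n : N, n • a = a ∧ n • b = b ∧ n • c = d by
    rw [isMultiplyPretransitive_iff]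
    intro x y
    have hx : ∀ i j : Fin 3, i ≠ j → x i ≠ x j := fun i j h => x.injective.ne h
    have hy : ∀ i j : Fin 3, i ≠ j → y i ≠ y j := fun i j h => y.injective.ne h
    obtain ⟨g, hg0, hg1⟩ := h2' (hx 0 1 (by decide)) (hy 0 1 (by decide))
    obtain ⟨n, hn0, hn1, hn2⟩ := key (y 0) (y 1) (g • x 2) (y 2) (hy 0 1 (by decide))
      (fun h => hx 2 0 (by decide) (MulAction.injective g (h.trans hg0.symm)))
      (fun h => hx 2 1 (by decide) (MulAction.injective g (h.trans hg1.symm)))
      (hy 2 0 (by decide)) (hy 2 1 (by decide))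
    refine ⟨n * g, ?_⟩
    ext i
    rw [Function.Embedding.smul_apply, mul_smul]
    fin_cases i
    · exact (congrArg (n • ·) hg0).trans hn0
    · exact (congrArg (n • ·) hg1).trans hn1
    · exact hn2
  intro a b c d hab hca hcb hda hdb
  let E : Subgroup N := stabilizer N ({a, b} : Set X)
  let Ω := {x : X // x ≠ a ∧ x ≠ b}
  have hEmem : ∀ n : N, n ∈ E ↔ (n • a = a ∧ n • b = b) ∨ (n • a = b ∧ n • b = a) := by
    intro n
    rw [mem_stabilizer_iff, Set.smul_set_insert, Set.smul_set_singleton, Set.pair_eq_pair_iff]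
  have hEpres : ∀ n ∈ E, ∀ x : X, x ≠ a → x ≠ b → n • x ≠ a ∧ n • x ≠ b := by
    intro n hn x hxa hxb
    rcases (hEmem n).mp hn with ⟨h1, h2⟩ | ⟨h1, h2⟩
    · exact ⟨fun h => hxa (MulAction.injective n (h.trans h1.symm)),
        fun h => hxb (MulAction.injective n (h.trans h2.symm))⟩
    · exact ⟨fun h => hxb (MulAction.injective n (h.trans h2.symm)),
        fun h => hxa (MulAction.injective n (h.trans h1.symm))⟩
  obtain ⟨R⟩ : Nonempty (Sylow 2 E) := inferInstance
  letI : MulAction E Ω :=
    { smul := fun e x => ⟨(e : N) • x.1, hEpres _ e.2 _ x.2.1 x.2.2⟩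
      one_smul := fun x => Subtype.ext (one_smul N x.1)
      mul_smul := fun e f x => Subtype.ext (mul_smul (e : N) (f : N) x.1) }
  have hΩodd : ¬ 2 ∣ Nat.card Ω := by
    have hc : Nat.card Ω = Fintype.card X - 2 := by
      rw [Nat.card_eq_fintype_card, Fintype.card_subtype]
      have : (Finset.univ.filter fun x : X => x ≠ a ∧ x ≠ b) = Finset.univ \ {a, b} := by
        ext x; simp
      rw [this, Finset.card_sdiff_of_subset (Finset.subset_univ _), Finset.card_univ,
        Finset.card_pair hab]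
    rw [hc]
    obtain ⟨l, hl⟩ := hodd
    omega
  haveI : Fact (Nat.Prime 2) := ⟨Nat.prime_two⟩
  obtain ⟨c0, hc0⟩ := R.isPGroup'.nonempty_fixed_point_of_prime_not_dvd_card Ω hΩodd
  have hRfix : ∀ r : E, r ∈ (R : Subgroup E) → (r : N) • c0.1 = c0.1 := fun r hr =>
    congrArg Subtype.val (hc0 ⟨r, hr⟩)
  obtain ⟨sw, hswa, hswb⟩ := h2' hab hab.symm
  -- the Sylow subgroup of `E` contains a transposing element
  obtain ⟨r, hr, hra⟩ : ∃ r : E, r ∈ (R : Subgroup E) ∧ (r : N) • a ≠ a := by
    by_contra hcon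
    push Not at hcon
    let A : Subgroup E := (stabilizer N a).subgroupOf E
    have hRA : (R : Subgroup E) ≤ A := fun r hr => hcon r hr
    have hidx : A.index = 2 := by
      rw [Subgroup.index_eq_two_iff_exists_notMem_and]
      refine ⟨⟨sw, (hEmem sw).mpr (.inr ⟨hswa, hswb⟩)⟩, fun h => hab ?_, fun e => ?_⟩
      · have h' : sw • a = a := h
        exact h'.symm.trans hswa
      · rcases (hEmem _).mp e.2 with ⟨h1, -⟩ | ⟨-, h2⟩
        · exact .inr h1
        · left
          show (((e * ⟨sw, (hEmem sw).mpr (.inr ⟨hswa, hswb⟩)⟩ : E) : N)) • a = a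
          rw [Subgroup.coe_mul, mul_smul, hswa]
          exact h2
    have h1 := Subgroup.index_dvd_of_le hRA
    rw [hidx] at h1
    exact R.not_dvd_index h1
  have hrab : (r : N) • a = b ∧ (r : N) • b = a := by
    rcases (hEmem _).mp r.2 with ⟨h1, -⟩ | h
    · exact absurd h1 hra
    · exact h
  -- the Sylow subgroup fixes only `c0` outside the pair
  have huniq : ∀ x : X, x ≠ a → x ≠ b → (∀ s : E, s ∈ (R : Subgroup E) → (s : N) • x = x) →
      x = c0.1 := by
    intro x hxa hxb hx
    by_contra hne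
    obtain ⟨n, hn1, hn2⟩ := h2' hne hab
    let R' : Subgroup N := ((R : Subgroup E).map E.subtype).map (MulAut.conj n).toMonoidHom
    have hR'le : R' ≤ E ⊓ stabilizer N a := by
      rintro _ ⟨_, ⟨s, hs, rfl⟩, rfl⟩
      have e1 : (n * (s : N) * n⁻¹) • a = a := by
        rw [← hn1, mul_smul, mul_smul, inv_smul_smul, hx s hs]
      have e2 : (n * (s : N) * n⁻¹) • b = b := by
        rw [← hn2, mul_smul, mul_smul, inv_smul_smul, hRfix s hs]
      exact ⟨(hEmem _).mpr (.inl ⟨e1, e2⟩), e1⟩
    have hcardR' : Nat.card R' = Nat.card (R : Subgroup E) := by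
      rw [Subgroup.card_map_of_injective (MulEquiv.injective _),
        Subgroup.card_map_of_injective E.subtype_injective]
    have hR'E : R' ≤ E := hR'le.trans inf_le_left
    let S' : Sylow 2 E := Sylow.ofCard (R'.subgroupOf E) (by
      rw [Nat.card_congr (Subgroup.subgroupOfEquivOfLe hR'E).toEquiv, hcardR', R.card_eq_multiplicity])
    obtain ⟨e, he⟩ := exists_smul_eq E R S'
    have hmem : e * r * e⁻¹ ∈ (S' : Subgroup E) := by
      rw [← he, Sylow.coe_subgroup_smul, Subgroup.mem_pointwise_smul_iff_inv_smul_mem]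
      show (MulAut.conj e)⁻¹ (e * r * e⁻¹) ∈ _
      rw [MulAut.inv_def, MulAut.conj_symm_apply]
      convert hr using 1
      group
    have hfixa : ((e * r * e⁻¹ : E) : N) • a = a :=
      (hR'le (Subgroup.mem_subgroupOf.mp hmem)).2
    rw [Subgroup.coe_mul, Subgroup.coe_mul, Subgroup.coe_inv, mul_smul, mul_smul] at hfixa
    rcases (hEmem _).mp e.2 with ⟨h1, h2⟩ | ⟨h1, h2⟩
    · rw [inv_smul_eq_iff.mpr h1.symm, hrab.1, h2] at hfixa
      exact hab hfixa.symm
    · rw [inv_smul_eq_iff.mpr h2.symm, hrab.2, h1] at hfixa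
      exact hab hfixa.symm
  -- `E` is transitive outside the pair
  have htrans : ∀ y : X, y ≠ a → y ≠ b → ∃ n : N, n • a = a ∧ n • b = b ∧ n • c0.1 = y := by
    intro y hya hyb
    obtain ⟨g, hga, hgb, hgc⟩ : ∃ g : G, g • a = a ∧ g • b = b ∧ g • c0.1 = y := by
      have hinj : ∀ u v w : X, u ≠ v → u ≠ w → v ≠ w → Function.Injective ![u, v, w] := by
        intro u v w h1 h2 h3 i j hij
        fin_cases i <;> fin_cases j <;> simp [h1, h2, h3, h1.symm, h2.symm, h3.symm] at hij ⊢
      haveI := hG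
      obtain ⟨g, hg⟩ := exists_smul_eq G
        (⟨_, hinj a b c0.1 hab c0.2.1.symm c0.2.2.symm⟩ : Fin 3 ↪ X)
        ⟨_, hinj a b y hab hya.symm hyb.symm⟩
      exact ⟨g, congrArg (fun e : Fin 3 ↪ X => e 0) hg, congrArg (fun e : Fin 3 ↪ X => e 1) hg,
        congrArg (fun e : Fin 3 ↪ X => e 2) hg⟩
    have hgi : g⁻¹ • a = a ∧ g⁻¹ • b = b := ⟨inv_smul_eq_iff.mpr hga.symm, inv_smul_eq_iff.mpr hgb.symm⟩
    have hcmem : ∀ s : E, MulAut.conjNormal g (s : N) ∈ E := by
      intro s
      rw [hEmem]
      rcases (hEmem _).mp s.2 with ⟨h1, h2⟩ | ⟨h1, h2⟩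
      · left
        constructor <;> rw [Subgroup.smul_def (MulAut.conjNormal g (s : N)),
          MulAut.conjNormal_apply, mul_smul, mul_smul]
        · rw [hgi.1, show ((s : N) : G) • a = a from h1, hga]
        · rw [hgi.2, show ((s : N) : G) • b = b from h2, hgb]
      · right
        constructor <;> rw [Subgroup.smul_def (MulAut.conjNormal g (s : N)),
          MulAut.conjNormal_apply, mul_smul, mul_smul]
        · rw [hgi.1, show ((s : N) : G) • a = b from h1, hgb]
        · rw [hgi.2, show ((s : N) : G) • b = a from h2, hga]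
    let φ : E →* E :=
      ((MulAut.conjNormal g : MulAut N).toMonoidHom.comp E.subtype).codRestrict E hcmem
    have hφinj : Function.Injective φ := fun s t h =>
      Subtype.ext ((MulAut.conjNormal g).injective (congrArg Subtype.val h))
    let S' : Sylow 2 E := Sylow.ofCard ((R : Subgroup E).map φ) (by
      rw [Subgroup.card_map_of_injective hφinj, R.card_eq_multiplicity])
    obtain ⟨e, he⟩ := exists_smul_eq E R S'
    have hfix' : ∀ s : E, s ∈ (R : Subgroup E) → (s : N) • ((e : N)⁻¹ • y) = (e : N)⁻¹ • y := by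
      intro s hs
      have hmem : e * s * e⁻¹ ∈ (S' : Subgroup E) := by
        rw [← he, Sylow.coe_subgroup_smul, Subgroup.mem_pointwise_smul_iff_inv_smul_mem]
        show (MulAut.conj e)⁻¹ (e * s * e⁻¹) ∈ _
        rw [MulAut.inv_def, MulAut.conj_symm_apply]
        convert hs using 1
        group
      obtain ⟨s', hs', hss'⟩ := hmem
      have hfy : ((e * s * e⁻¹ : E) : N) • y = y := by
        rw [← hss']
        show ((MulAut.conjNormal g (s' : N) : N) : G) • y = y
        rw [MulAut.conjNormal_apply, mul_smul, mul_smul, ← hgc, inv_smul_smul,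
          show ((s' : N) : G) • c0.1 = c0.1 from hRfix s' hs']
      rw [Subgroup.coe_mul, Subgroup.coe_mul, Subgroup.coe_inv, mul_smul, mul_smul] at hfy
      rw [eq_inv_smul_iff]
      exact hfy
    have hey := hEpres _ (E.inv_mem e.2) y hya hyb
    have hc := huniq _ hey.1 hey.2 hfix'
    have hey' : (e : N) • c0.1 = y := by rw [← hc, smul_inv_smul]
    rcases (hEmem _).mp e.2 with ⟨h1, h2⟩ | ⟨h1, h2⟩
    · exact ⟨e, h1, h2, hey'⟩
    · refine ⟨(e : N) * (r : N), ?_, ?_, ?_⟩
      · rw [mul_smul, hrab.1, h2]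
      · rw [mul_smul, hrab.2, h1]
      · rw [mul_smul, hRfix r hr, hey']
  obtain ⟨n1, h1a, h1b, h1c⟩ := htrans c hca hcb
  obtain ⟨n2, h2a, h2b, h2c⟩ := htrans d hda hdb
  refine ⟨n2 * n1⁻¹, ?_, ?_, ?_⟩
  · rw [mul_smul, inv_smul_eq_iff.mpr h1a.symm, h2a]
  · rw [mul_smul, inv_smul_eq_iff.mpr h1b.symm, h2b]
  · rw [mul_smul, inv_smul_eq_iff.mpr h1c.symm, h2c]

end Cfsg.Agent.Perm
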