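import Mathlib.GroupTheory.Sylow
import Mathlib.GroupTheory.SemidirectProduct
import Mathlib.GroupTheory.SpecificGroups.Cyclic
import Mathlib.Tactic.Group
import Cfsg.Agent.Perm.RegularNormal
import Cfsg.Agent.Perm.FieldOperator
import Cfsg.Agent.S0041

/-!
Groups of non-prime-power order whose automorphism group has three orbits.
-/

set_option autoImplicit false
set_option linter.style.haveILetI false

open MulAction
open scoped commutatorElement

namespace Cfsg.Agent.Perm.ThreeOrbits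

variable {G : Type*} [Group G]

theorem orderOf_aut (φ : MulAut G) (g : G) : orderOf (φ g) = orderOf g :=
  orderOf_injective φ.toMonoidHom φ.injective g

theorem orbit_eq_iff {a b : G} :
    (Quotient.mk'' a : orbitRel.Quotient (MulAut G) G) = Quotient.mk'' b ↔
      ∃ φ : MulAut G, φ b = a := by
  rw [Quotient.eq'', orbitRel_apply]
  exact Iff.rfl

theorem pow_conj_eq (y : G) (i : ℕ) (f : G → G) {N : Subgroup G} [hN : N.Normal]
    (h : ∀ n ∈ N, f (y * n * y⁻¹) = y ^ i * f n * (y ^ i)⁻¹) :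
    ∀ (k : ℕ), ∀ n ∈ N, f (y ^ k * n * (y ^ k)⁻¹) = y ^ (i * k) * f n * (y ^ (i * k))⁻¹ := by
  intro k
  induction k with
  | zero => intro n _; simp
  | succ k ih =>
    intro n hn
    have e : y ^ (k + 1) * n * (y ^ (k + 1))⁻¹ = y ^ k * (y * n * y⁻¹) * (y ^ k)⁻¹ := by
      rw [pow_succ]; group
    rw [e, ih _ (hN.conj_mem n hn y), h n hn]
    rw [Nat.mul_succ, pow_add]
    group

/-- Conjugation on a normal abelian subgroup of exponent `p` as linear maps. -/
theorem exists_field_data [Finite G] {p q : ℕ} [Fact p.Prime] [Fact q.Prime] (hpq : q ≠ p)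
    (N : Subgroup G) [hN : N.Normal] (hab : IsMulCommutative N) (hexp : ∀ n ∈ N, n ^ p = 1)
    (y : G) (hy : y ^ q = 1) (hfpf : ∀ n ∈ N, y * n * y⁻¹ = n → n = 1) :
    (orderOf (p : ZMod q) = q - 1 →
      (∀ v w : G, v ∈ N → w ∈ N → v ≠ 1 → w ≠ 1 → ∃ f : N ≃* N,
        (∀ n : N, (f ⟨y * n * y⁻¹, hN.conj_mem n n.2 y⟩ : G) = y * f n * y⁻¹) ∧
        ∀ hv : v ∈ N, (f ⟨v, hv⟩ : G) = w) ∧
      (∀ i : ℕ, ¬ q ∣ i → ∃ f : N ≃* N,
        ∀ n : N, (f ⟨y * n * y⁻¹, hN.conj_mem n n.2 y⟩ : G) = y ^ i * f n * (y ^ i)⁻¹)) ∧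
    (N ≠ ⊥ →
      (∀ v w : G, v ∈ N → w ∈ N → v ≠ 1 → w ≠ 1 → ∃ (f : N ≃* N) (i : ℕ), ¬ q ∣ i ∧
        (∀ n : N, (f ⟨y * n * y⁻¹, hN.conj_mem n n.2 y⟩ : G) = y ^ i * f n * (y ^ i)⁻¹) ∧
        ∀ hv : v ∈ N, (f ⟨v, hv⟩ : G) = w) →
      (∀ i : ℕ, ¬ q ∣ i → ∃ f : N ≃* N,
        ∀ n : N, (f ⟨y * n * y⁻¹, hN.conj_mem n n.2 y⟩ : G) = y ^ i * f n * (y ^ i)⁻¹) →
      orderOf (p : ZMod q) = q - 1) := by
  letI : CommGroup N := { mul_comm := hab.is_comm.comm }
  obtain ⟨iM⟩ : Nonempty (Module (ZMod p) (Additive N)) := ⟨AddCommGroup.zmodModule (fun a => by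
    apply Additive.toMul.injective
    rw [toMul_nsmul, toMul_zero]
    exact Subtype.ext (by simpa using hexp _ (Additive.toMul a).2))⟩
  let c : G →* MulAut N := MulAut.conjNormal
  let T : Module.End (ZMod p) (Additive N) :=
    (MonoidHom.toAdditive (c y).toMonoidHom).toZModLinearMap p
  have hT : ∀ (n : N) (k : ℕ), (T ^ k) (Additive.ofMul n) = Additive.ofMul (c (y ^ k) n) := by
    intro n k
    induction k with
    | zero => simp
    | succ k ih =>
      rw [pow_succ', Module.End.mul_apply, ih, pow_succ', map_mul]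
      rfl
  have hc : ∀ (g : G) (n : N), ((c g n : N) : G) = g * n * g⁻¹ := fun g n =>
    MulAut.conjNormal_apply g n
  have hTq : T ^ q = 1 := by
    refine LinearMap.ext fun v => ?_
    obtain ⟨n, rfl⟩ := Additive.ofMul.surjective v
    rw [hT, hy, map_one]; rfl
  have hT1 : ∀ v, T v = v → v = 0 := by
    intro v hv
    obtain ⟨n, rfl⟩ := Additive.ofMul.surjective v
    have h1 := hT n 1
    rw [pow_one, pow_one] at h1
    rw [h1] at hv
    have h2 : y * (n : G) * y⁻¹ = n := by rw [← hc, Additive.ofMul.injective hv]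
    have h3 : n = 1 := Subtype.ext (hfpf n n.2 h2)
    rw [h3]; rfl
  have toMulHom : ∀ (f : Additive N ≃+ Additive N) (i : ℕ),
      (∀ x, f (T x) = (T ^ i) (f x)) → ∀ n : N,
        ((Additive.toMul (f (Additive.ofMul
          (⟨y * n * y⁻¹, hN.conj_mem n n.2 y⟩ : N))) : N) : G)
          = y ^ i * (Additive.toMul (f (Additive.ofMul n)) : N) * (y ^ i)⁻¹ := by
    intro f i hf n
    have h1 : Additive.ofMul (⟨y * n * y⁻¹, hN.conj_mem n n.2 y⟩ : N) = T (Additive.ofMul n) :=
      congrArg Additive.ofMul (Subtype.ext (hc y n).symm)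
    show ((Additive.toMul (f _) : N) : G) = _
    rw [h1, hf, ← hc]
    obtain ⟨m, hm⟩ := Additive.ofMul.surjective (f (Additive.ofMul n))
    rw [← hm, hT]
    rfl
  let mk : (Additive N ≃+ Additive N) → (N ≃* N) := fun f =>
    { toFun := fun n => Additive.toMul (f (Additive.ofMul n))
      invFun := fun n => Additive.toMul (f.symm (Additive.ofMul n))
      left_inv := fun n => by simp
      right_inv := fun n => by simp
      map_mul' := fun a b => by simp }
  refine ⟨fun hord => ?_, fun hne htr hall => ?_⟩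
  · obtain ⟨h1, h2⟩ := semilinear_exists hpq hord T hTq hT1
    refine ⟨fun v w hv hw hv1 hw1 => ?_, fun i hi => ?_⟩
    · obtain ⟨f, hf, hfv⟩ := h1 (Additive.ofMul ⟨v, hv⟩) (Additive.ofMul ⟨w, hw⟩)
        (fun h => hv1 (congrArg Subtype.val (Additive.ofMul.injective h)))
        (fun h => hw1 (congrArg Subtype.val (Additive.ofMul.injective h)))
      refine ⟨mk f, fun n => ?_, fun hv' => ?_⟩
      · have := toMulHom f 1 (fun x => by rw [hf, pow_one]) n
        rwa [pow_one] at this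
      · show ((Additive.toMul (f _) : N) : G) = w
        rw [hfv]; rfl
    · obtain ⟨f, hf⟩ := h2 i hi
      exact ⟨mk f, fun n => toMulHom f i hf n⟩
  · haveI : Finite (Additive N) := Finite.of_equiv N Additive.ofMul
    let lin : (N ≃* N) → (Additive N ≃ₗ[ZMod p] Additive N) := fun f =>
      LinearEquiv.ofBijective ((MonoidHom.toAdditive f.toMonoidHom).toZModLinearMap p) f.bijective
    have hlin : ∀ (f : N ≃* N) (n : N), lin f (Additive.ofMul n) = Additive.ofMul (f n) :=
      fun f n => rfl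
    have hcomm : ∀ (f : N ≃* N) (i : ℕ),
        (∀ n : N, (f ⟨y * n * y⁻¹, hN.conj_mem n n.2 y⟩ : G) = y ^ i * f n * (y ^ i)⁻¹) →
        ∀ x, lin f (T x) = (T ^ i) (lin f x) := by
      intro f i hf x
      obtain ⟨n, rfl⟩ := Additive.ofMul.surjective x
      rw [hlin, hT]
      show Additive.ofMul (f (c y n)) = _
      refine congrArg Additive.ofMul (Subtype.ext ?_)
      rw [hc, ← hf n]
      exact congrArg (fun z => ((f z : N) : G)) (Subtype.ext (hc y n))
    obtain ⟨⟨n0, hn0⟩, hn0'⟩ : ∃ n : N, n ≠ 1 := by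
      obtain ⟨g, hg, hg1⟩ := N.bot_or_exists_ne_one.resolve_left hne
      exact ⟨⟨g, hg⟩, fun h => hg1 (congrArg Subtype.val h)⟩
    have hv0 : ∃ v : Additive N, v ≠ 0 :=
      ⟨Additive.ofMul ⟨n0, hn0⟩, fun h => hn0' (Additive.ofMul.injective h)⟩
    have hTne : T ≠ 1 := by
      intro h
      obtain ⟨v, hv⟩ := hv0
      exact hv (hT1 v (by rw [h]; rfl))
    have key := exists_pow_modEq (q := q) Fact.out T hTq hTne hv0 (fun v w hv hw => by
      obtain ⟨a, rfl⟩ := Additive.ofMul.surjective v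
      obtain ⟨b, rfl⟩ := Additive.ofMul.surjective w
      obtain ⟨f, i, hi, hf, hfa⟩ := htr a b a.2 b.2
        (fun h => hv (congrArg Additive.ofMul (Subtype.ext h : a = 1)))
        (fun h => hw (congrArg Additive.ofMul (Subtype.ext h : b = 1)))
      exact ⟨lin f, i, hi, hcomm f i hf,
        congrArg Additive.ofMul (Subtype.ext (hfa a.2))⟩)
      (fun i hi => by
        obtain ⟨f, hf⟩ := hall i hi
        exact ⟨lin f, hcomm f i hf⟩)
    -- every unit of `ZMod q` is a power of `p`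
    have hp0 : (p : ZMod q) ≠ 0 := fun h => hpq ((Nat.prime_dvd_prime_iff_eq Fact.out Fact.out).mp
      ((ZMod.natCast_eq_zero_iff p q).mp h) |> fun e => e)
    let u : (ZMod q)ˣ := Units.mk0 _ hp0
    have hu : ∀ z : (ZMod q)ˣ, z ∈ Subgroup.zpowers u := by
      intro z
      have hnd : ¬ q ∣ (z : ZMod q).val := by
        rw [← ZMod.natCast_eq_zero_iff, ZMod.natCast_zmod_val]
        exact z.ne_zero
      obtain ⟨n, hn⟩ := key _ hnd
      refine ⟨(n : ℤ), Units.ext ?_⟩
      rw [← ZMod.natCast_eq_natCast_iff, Nat.cast_pow, ZMod.natCast_zmod_val] at hn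
      simpa [u] using hn
    have := orderOf_eq_card_of_forall_mem_zpowers hu
    rw [Nat.card_eq_fintype_card, ZMod.card_units, ← orderOf_units] at this
    exact this

/-- Automorphism of `G = N ⋊ ⟨y⟩` from a map on `N` compatible with `y ↦ y ^ i`. -/
theorem exists_aut [Finite G] {q : ℕ} [Fact q.Prime] (N : Subgroup G) [hN : N.Normal] (y : G)
    (hy : orderOf y = q) (hc : N.IsComplement' (Subgroup.zpowers y)) (i : ℕ) (hi : ¬ q ∣ i)
    (f : N ≃* N)
    (hf : ∀ n : N, (f ⟨y * n * y⁻¹, hN.conj_mem n n.2 y⟩ : G) = y ^ i * f n * (y ^ i)⁻¹) :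
    ∃ φ : MulAut G, (∀ n : N, φ n = f n) ∧ φ y = y ^ i := by
  let E := SemidirectProduct.mulEquivSubgroup hc
  have hcard : (Nat.card (Subgroup.zpowers y)).Coprime i := by
    rw [Nat.card_zpowers, hy]
    exact (Fact.out : q.Prime).coprime_iff_not_dvd.mpr hi
  let g : Subgroup.zpowers y ≃* Subgroup.zpowers y :=
    { powCoprime hcard with
      map_mul' := fun a b => by
        show (a * b) ^ i = a ^ i * b ^ i
        exact Commute.mul_pow (Std.Commutative.comm a b) i }
  have hg : ∀ z : Subgroup.zpowers y, g z = z ^ i := fun z => rfl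
  classical
  let F := fun z : G => if h : z ∈ N then (f ⟨z, h⟩ : G) else z
  have hFN : ∀ n ∈ N, ∀ h : n ∈ N, F n = f ⟨n, h⟩ := fun n hn h => by simp [F, h]
  have hpow := pow_conj_eq y i F (N := N) (fun n hn => by
    rw [hFN _ (hN.conj_mem n hn y) (hN.conj_mem n hn y), hFN n hn hn]
    exact hf ⟨n, hn⟩)
  refine ⟨E.symm.trans ((SemidirectProduct.congr f g ?_).trans E), fun n => ?_, ?_⟩
  · intro z
    ext n
    obtain ⟨z, hz⟩ := z
    obtain ⟨k, rfl⟩ : ∃ k : ℕ, y ^ k = z :=
      mem_powers_iff_mem_zpowers.mpr hz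
    show ((f ⟨y ^ k * n * (y ^ k)⁻¹, _⟩ : N) : G) =
      ((g ⟨y ^ k, hz⟩ : Subgroup.zpowers y) : G) * (f n : G) *
        (((g ⟨y ^ k, hz⟩ : Subgroup.zpowers y) : G))⁻¹
    rw [hg, SubgroupClass.coe_pow, ← pow_mul, mul_comm k i]
    have := hpow k n n.2
    rw [hFN _ (hN.conj_mem n n.2 _) (hN.conj_mem n n.2 _), hFN _ n.2 n.2] at this
    exact this
  · have e : E.symm (n : G) = SemidirectProduct.inl n := by
      rw [MulEquiv.symm_apply_eq]; simp [E]
    show E (SemidirectProduct.congr f g _ (E.symm (n : G))) = f n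
    rw [e]
    simp [E]
  · have e : E.symm y = SemidirectProduct.inr ⟨y, Subgroup.mem_zpowers y⟩ := by
      rw [MulEquiv.symm_apply_eq]; simp [E]
    show E (SemidirectProduct.congr f g _ (E.symm y)) = y ^ i
    rw [e]
    simp [E, hg]

theorem exists_prime_order [Finite G] {r : ℕ} (hr : r.Prime) (h : r ∣ Nat.card G) :
    ∃ g : G, orderOf g = r :=
  haveI : Fact r.Prime := ⟨hr⟩
  exists_prime_orderOf_dvd_card' r h

theorem conj_eq_self_of_mem {N : Subgroup G} (hab : IsMulCommutative N) {x n : G} (hx : x ∈ N)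
    (hn : n ∈ N) : x * n * x⁻¹ = n := by
  rw [isMulCommutative_iff_comm.mp hab x hx n hn, mul_inv_cancel_right]

/-- The reverse direction. -/
theorem card_quotient_eq_three [Finite G] {p q n : ℕ} [Fact p.Prime] [Fact q.Prime] (hpq : p ≠ q)
    (hn : 1 ≤ n) (hcard : Nat.card G = p ^ n * q)
    (hP : ∀ P : Sylow p G, (P : Subgroup G).Normal ∧ IsMulCommutative (P : Subgroup G) ∧
      ∀ a ∈ (P : Subgroup G), a ^ p = 1)
    (hord : orderOf (p : ZMod q) = q - 1)
    (hfpf : ∀ x y : G, orderOf x = q → orderOf y = p → x * y * x⁻¹ ≠ y) :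
    Nat.card (orbitRel.Quotient (MulAut G) G) = 3 := by
  have hp : p.Prime := Fact.out
  have hq : q.Prime := Fact.out
  obtain ⟨P⟩ : Nonempty (Sylow p G) := inferInstance
  obtain ⟨hPn, hab, hexp⟩ := hP P
  haveI := hPn
  set N : Subgroup G := (P : Subgroup G)
  have hNc : Nat.card N = p ^ n := by
    rw [P.card_eq_multiplicity, hcard]
    congr 1
    rw [Nat.factorization_mul (pow_ne_zero _ hp.ne_zero) hq.ne_zero]
    simp [hp.factorization_pow, hq.factorization, Finsupp.single_apply, hpq.symm]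
  have hNp : ∀ a ∈ N, a ≠ 1 → orderOf a = p := fun a ha h =>
    orderOf_eq_prime (hexp a ha) h
  obtain ⟨y, hy⟩ := exists_prime_order hq (hcard ▸ dvd_mul_left q (p ^ n))
  obtain ⟨x, hx⟩ := exists_prime_order hp (hcard ▸ (dvd_pow_self p (by omega)).trans (dvd_mul_right _ q))
  have hcomp : ∀ z : G, orderOf z = q → N.IsComplement' (Subgroup.zpowers z) := by
    intro z hz
    refine Subgroup.isComplement'_of_coprime ?_ ?_
    · rw [hNc, Nat.card_zpowers, hz, hcard]
    · rw [hNc, Nat.card_zpowers, hz]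
      exact Nat.Coprime.pow_left _ ((Nat.coprime_primes hp hq).mpr hpq)
  have hyq : y ^ q = 1 := hy ▸ pow_orderOf_eq_one y
  have hyfix : ∀ a ∈ N, y * a * y⁻¹ = a → a = 1 := fun a ha h => by
    by_contra h1; exact hfpf y a hy (hNp a ha h1) h
  have hxN : x ∈ N := by
    have hidx : N.index = q := by
      have := N.card_mul_index
      rw [hNc, hcard] at this
      exact Nat.eq_of_mul_eq_mul_left (pow_pos hp.pos n) this
    have : (QuotientGroup.mk' N x) = 1 := by
      rw [← orderOf_eq_one_iff]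
      refine Nat.eq_one_of_dvd_coprimes ((Nat.coprime_primes hp hq).mpr hpq)
        (hx ▸ orderOf_map_dvd _ _) ?_
      have hd := orderOf_dvd_natCard (QuotientGroup.mk' N x)
      rwa [← Subgroup.index_eq_card, hidx] at hd
    exact (QuotientGroup.eq_one_iff x).mp this
  have hx1 : x ≠ 1 := fun h => hp.ne_one (by rw [← hx, h, orderOf_one])
  obtain ⟨h1, h2⟩ := (exists_field_data hpq.symm N hab hexp y hyq hyfix).1 hord
  let f : Fin 3 → orbitRel.Quotient (MulAut G) G :=
    ![Quotient.mk'' 1, Quotient.mk'' x, Quotient.mk'' y]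
  have hord' : ∀ {a b : G}, (Quotient.mk'' a : orbitRel.Quotient (MulAut G) G) = Quotient.mk'' b →
      orderOf a = orderOf b := by
    intro a b h
    obtain ⟨φ, rfl⟩ := orbit_eq_iff.mp h
    exact orderOf_aut φ b
  have hfinj : Function.Injective f := by
    intro i j hij
    fin_cases i <;> fin_cases j <;> first
      | rfl
      | (exfalso; simp [f] at hij; have := hord' hij; simp [hx, hy] at this
         exact absurd this (by simp [hp.ne_one, hp.ne_one.symm, hq.ne_one, hq.ne_one.symm, hpq, hpq.symm]))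
  have hfsurj : Function.Surjective f := by
    intro z
    obtain ⟨g, rfl⟩ := Quotient.mk''_surjective z
    by_cases hg1 : g = 1
    · exact ⟨0, by rw [hg1]; rfl⟩
    by_cases hgN : g ∈ N
    · obtain ⟨e, he, hev⟩ := h1 x g hxN hgN hx1 hg1
      obtain ⟨φ, hφ, -⟩ := exists_aut N y hy (hcomp y hy) 1 (fun h => hq.ne_one (Nat.dvd_one.mp h)) e
        (fun a => by rw [he a, pow_one])
      exact ⟨1, (orbit_eq_iff.mpr ⟨φ, (hφ ⟨x, hxN⟩).trans (hev hxN)⟩).symm⟩
    · obtain ⟨a, ha, z, hz, rfl⟩ : ∃ a ∈ N, ∃ z ∈ Subgroup.zpowers y, g = a * z := by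
        obtain ⟨⟨a, z⟩, haz⟩ := (hcomp y hy).2 g
        exact ⟨a, a.2, z, z.2, haz.symm⟩
      obtain ⟨k, rfl⟩ : ∃ k : ℕ, y ^ k = z := mem_powers_iff_mem_zpowers.mpr hz
      have hk : ¬ q ∣ k := by
        rintro ⟨l, rfl⟩
        apply hgN
        rw [pow_mul, hyq, one_pow, mul_one]; exact ha
      have hzq : orderOf (y ^ k) = q := by
        rw [Nat.Coprime.orderOf_pow (by rw [hy]; exact hq.coprime_iff_not_dvd.mpr hk), hy]
      -- conjugation by `N` covers the coset
      have hbij : Function.Surjective (fun v : N =>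
          (⟨(v : G) * (y ^ k * (v : G)⁻¹ * (y ^ k)⁻¹),
            N.mul_mem v.2 (hPn.conj_mem _ (N.inv_mem v.2) _)⟩ : N)) := by
        apply Finite.surjective_of_injective
        intro v w hvw
        have h := congrArg Subtype.val hvw
        simp only at h
        have hw' : ((w : G)⁻¹ * v) ∈ N := N.mul_mem (N.inv_mem w.2) v.2
        have hkey : y ^ k * ((w : G)⁻¹ * v) * (y ^ k)⁻¹ = (w : G)⁻¹ * v := by
          have h' : (w : G)⁻¹ * v = (y ^ k * (w : G)⁻¹ * (y ^ k)⁻¹) * (y ^ k * (v : G) * (y ^ k)⁻¹) := by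
            calc (w : G)⁻¹ * v = (w : G)⁻¹ * ((v : G) * (y ^ k * (v : G)⁻¹ * (y ^ k)⁻¹)) *
                  (y ^ k * (v : G) * (y ^ k)⁻¹) := by group
              _ = _ := by rw [h]; group
          exact (h'.trans (by group)).symm
        by_contra hne
        have hne' : (w : G)⁻¹ * v ≠ 1 := fun e => hne (Subtype.ext (inv_mul_eq_one.mp e).symm)
        exact hfpf (y ^ k) _ hzq (hNp _ hw' hne') hkey
      obtain ⟨v, hv⟩ := hbij ⟨a, ha⟩
      have hv' := congrArg Subtype.val hv
      simp only at hv'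
      obtain ⟨e, he⟩ := h2 k hk
      obtain ⟨φ, -, hφ⟩ := exists_aut N y hy (hcomp y hy) k hk e he
      refine ⟨2, (orbit_eq_iff.mpr ⟨MulAut.conj (v : G) * φ, ?_⟩).symm⟩
      rw [MulAut.mul_apply, hφ, MulAut.conj_apply, ← hv']
      group
  rw [← Nat.card_congr (Equiv.ofBijective f ⟨hfinj, hfsurj⟩), Nat.card_fin]

/-- The direct direction, given solvability. -/
theorem data_of_card_quotient [Finite G]
    (hsol : ∀ (p q a b : ℕ), p.Prime → q.Prime → Nat.card G = p ^ a * q ^ b → Group.IsSolvable G)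
    (hnpp : ¬ IsPrimePow (Nat.card G)) (hnt : Nat.card G ≠ 1)
    (h3 : Nat.card (orbitRel.Quotient (MulAut G) G) = 3) :
    ∃ (p q n : ℕ) (_ : Fact p.Prime) (_ : Fact q.Prime), p ≠ q ∧ 1 ≤ n ∧
      Nat.card G = p ^ n * q ∧
      (∀ P : Sylow p G, (P : Subgroup G).Normal ∧ IsMulCommutative (P : Subgroup G) ∧
        ∀ a ∈ (P : Subgroup G), a ^ p = 1) ∧
      orderOf (p : ZMod q) = q - 1 ∧
      ∀ x y : G, orderOf x = q → orderOf y = p → x * y * x⁻¹ ≠ y := by
  obtain ⟨r, hr, hrd⟩ := Nat.exists_prime_and_dvd hnt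
  obtain ⟨s, hs, hsd, hrs⟩ : ∃ s, s.Prime ∧ s ∣ Nat.card G ∧ r ≠ s := by
    by_contra hcon
    push Not at hcon
    have h := Nat.eq_prime_pow_of_unique_prime_dvd Nat.card_pos.ne' (fun {d} hd hd' => (hcon d hd hd').symm)
    apply hnpp
    rw [h]
    refine hr.isPrimePow.pow ?_
    intro h0
    rw [h0, pow_zero] at h
    exact hnt h
  obtain ⟨x, hx⟩ := exists_prime_order hr hrd
  obtain ⟨y, hy⟩ := exists_prime_order hs hsd
  -- the three classes
  have hclass : ∀ g : G, g = 1 ∨ (∃ φ : MulAut G, φ x = g) ∨ ∃ φ : MulAut G, φ y = g := by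
    intro g
    haveI : Finite (orbitRel.Quotient (MulAut G) G) := Nat.finite_of_card_ne_zero (by omega)
    let f : Fin 3 → orbitRel.Quotient (MulAut G) G :=
      ![Quotient.mk'' 1, Quotient.mk'' x, Quotient.mk'' y]
    have hfinj : Function.Injective f := by
      intro i j hij
      fin_cases i <;> fin_cases j <;> first
        | rfl
        | (exfalso; simp [f] at hij; obtain ⟨φ, hφ⟩ := orbit_eq_iff.mp hij
           have := congrArg orderOf hφ; simp [orderOf_aut, hx, hy] at this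
           exact absurd this (by simp [hr.ne_one, hr.ne_one.symm, hs.ne_one, hs.ne_one.symm, hrs, hrs.symm]))
    obtain ⟨i, hi⟩ := ((Nat.bijective_iff_injective_and_card f).mpr ⟨hfinj, by simp [h3]⟩).2
      (Quotient.mk'' g)
    fin_cases i
    · obtain ⟨φ, hφ⟩ := orbit_eq_iff.mp hi.symm
      exact .inl (by rw [← hφ, map_one])
    · exact .inr (.inl (orbit_eq_iff.mp hi.symm))
    · exact .inr (.inr (orbit_eq_iff.mp hi.symm))
  have hordg : ∀ g : G, g ≠ 1 → orderOf g = r ∨ orderOf g = s := by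
    intro g hg
    rcases hclass g with h | ⟨φ, rfl⟩ | ⟨φ, rfl⟩
    · exact absurd h hg
    · exact .inl (by rw [orderOf_aut, hx])
    · exact .inr (by rw [orderOf_aut, hy])
  have hnocomm : ∀ u v : G, orderOf u = r → orderOf v = s → ¬ Commute u v := by
    intro u v hu hv hc
    have h := hc.orderOf_mul_eq_mul_orderOf_of_coprime
      (by rw [hu, hv]; exact (Nat.coprime_primes hr hs).mpr hrs)
    rw [hu, hv] at h
    have hne : u * v ≠ 1 := by
      intro h1; rw [h1, orderOf_one] at h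
      exact hr.ne_one (Nat.eq_one_of_mul_eq_one_right h.symm)
    rcases hordg _ hne with e | e <;> rw [h] at e
    · exact hs.ne_one ((mul_eq_left₀ hr.ne_zero).mp e)
    · exact hr.ne_one ((mul_eq_right₀ hs.ne_zero).mp e)
  have hGsol : Group.IsSolvable G := by
    obtain ⟨a, m, hm, hcard⟩ := Nat.exists_eq_pow_mul_and_not_dvd (Nat.card_pos (α := G)).ne' r hr.ne_one
    have hm' : m = s ^ m.primeFactorsList.length := by
      refine Nat.eq_prime_pow_of_unique_prime_dvd ?_ fun {d} hd hdm => ?_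
      · rintro rfl; simp at hm
      · obtain ⟨g, hg⟩ := exists_prime_order (G := G) hd (by rw [hcard]; exact hdm.mul_left (r ^ a))
        rcases hordg g (fun h => hd.ne_one (by rw [← hg, h, orderOf_one])) with e | e <;>
          rw [hg] at e
        · exact absurd (e ▸ hdm) hm
        · exact e
    exact hsol r s a _ hr hs (hm' ▸ hcard)
  -- the derived subgroup
  set N : Subgroup G := commutator G
  haveI : Nontrivial G := Finite.one_lt_card_iff_nontrivial.mp (by
    have := Nat.card_pos (α := G); omega)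
  have hNt : N < ⊤ := Group.IsSolvable.commutator_lt_top_of_nontrivial G
  have hNaut : ∀ (φ : MulAut G) g, g ∈ N → φ g ∈ N := fun φ g hg => by
    have h : N.map φ.toMonoidHom = N :=
      Subgroup.characteristic_iff_map_eq.mp (inferInstanceAs (commutator G).Characteristic) φ
    rw [← h]; exact Subgroup.mem_map_of_mem _ hg
  obtain ⟨g0, hg0, hg01⟩ : ∃ g ∈ N, g ≠ 1 := by
    refine N.bot_or_exists_ne_one.resolve_left fun h => ?_
    refine hnocomm x y hx hy ?_
    have := Subgroup.commutator_mem_commutator (Subgroup.mem_top x) (Subgroup.mem_top y)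
    rw [← commutator_def] at this
    change ⁅x, y⁆ ∈ N at this
    rw [h, Subgroup.mem_bot] at this
    exact commutatorElement_eq_one_iff_mul_comm.mp this
  -- `p` is the order of the non-identity elements of `N`
  obtain ⟨p, q, hp, hq, hpq, u, w, hu, hw, hor, hNmem, hnc⟩ :
      ∃ p q : ℕ, p.Prime ∧ q.Prime ∧ p ≠ q ∧ ∃ u w : G, orderOf u = p ∧ orderOf w = q ∧
        (∀ g : G, g ≠ 1 → (∃ φ : MulAut G, φ u = g) ∨ ∃ φ : MulAut G, φ w = g) ∧
        u ∈ N ∧ (∀ a b : G, orderOf a = p → orderOf b = q → ¬ Commute a b) := by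
    rcases hclass g0 with h | ⟨φ, hφ⟩ | ⟨φ, hφ⟩
    · exact absurd h hg01
    · refine ⟨r, s, hr, hs, hrs, x, y, hx, hy, fun g hg => (hclass g).resolve_left hg, ?_, hnocomm⟩
      have h' := hNaut φ⁻¹ g0 hg0
      rwa [← hφ, MulAut.inv_def, MulEquiv.symm_apply_apply] at h'
    · refine ⟨s, r, hs, hr, hrs.symm, y, x, hy, hx,
        fun g hg => ((hclass g).resolve_left hg).symm, ?_,
        fun a b ha hb h => hnocomm b a hb ha h.symm⟩
      have h' := hNaut φ⁻¹ g0 hg0
      rwa [← hφ, MulAut.inv_def, MulEquiv.symm_apply_apply] at h'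
  haveI : Fact p.Prime := ⟨hp⟩
  haveI : Fact q.Prime := ⟨hq⟩
  have hwN : w ∉ N := by
    intro h
    apply hNt.ne
    rw [eq_top_iff]
    intro g _
    by_cases hg : g = 1
    · rw [hg]; exact N.one_mem
    rcases hor g hg with ⟨φ, rfl⟩ | ⟨φ, rfl⟩
    · exact hNaut φ u hNmem
    · exact hNaut φ w h
  have hord2 : ∀ g : G, g ≠ 1 → orderOf g = p ∨ orderOf g = q := by
    intro g hg
    rcases hor g hg with ⟨φ, rfl⟩ | ⟨φ, rfl⟩
    · exact .inl (by rw [orderOf_aut, hu])
    · exact .inr (by rw [orderOf_aut, hw])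
  have hinN : ∀ g : G, orderOf g = p → g ∈ N := by
    intro g hg
    rcases hor g (fun h => hp.ne_one (by rw [← hg, h, orderOf_one])) with ⟨φ, rfl⟩ | ⟨φ, rfl⟩
    · exact hNaut φ u hNmem
    · rw [orderOf_aut, hw] at hg; exact absurd hg.symm hpq
  have hNord : ∀ g ∈ N, g ≠ 1 → orderOf g = p := by
    intro g hgN hg
    rcases hor g hg with ⟨φ, rfl⟩ | ⟨φ, rfl⟩
    · rw [orderOf_aut, hu]
    · exfalso; apply hwN
      have h' := hNaut φ⁻¹ _ hgN
      rwa [MulAut.inv_def, MulEquiv.symm_apply_apply] at h'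
  have hexp : ∀ g ∈ N, g ^ p = 1 := by
    intro g hgN
    by_cases hg : g = 1
    · rw [hg, one_pow]
    · rw [← hNord g hgN hg]; exact pow_orderOf_eq_one g
  have hNP : IsPGroup p N := fun g => ⟨1, Subtype.ext (by simpa using hexp g g.2)⟩
  obtain ⟨n, hn⟩ := hNP.exists_card_eq
  have hidx : ∀ d : ℕ, d.Prime → d ∣ N.index → d = q := by
    intro d hd hdi
    haveI : Fact d.Prime := ⟨hd⟩
    have hdi' : d ∣ Nat.card (G ⧸ N) := by rwa [← Subgroup.index_eq_card]
    obtain ⟨z, hz⟩ := exists_prime_order hd hdi'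
    obtain ⟨g, rfl⟩ := QuotientGroup.mk'_surjective N z
    have hg1 : g ≠ 1 := fun h => hd.ne_one (by rw [← hz, h, map_one, orderOf_one])
    have hdd := orderOf_map_dvd (QuotientGroup.mk' N) g
    rw [hz] at hdd
    rcases hord2 g hg1 with e | e <;> rw [e] at hdd
    · exfalso
      have hgN : g ∈ N := hinN g e
      rw [(QuotientGroup.eq_one_iff g).mpr hgN |> fun h => (h : QuotientGroup.mk' N g = 1),
        orderOf_one] at hz
      exact hd.ne_one hz.symm
    · exact (Nat.prime_dvd_prime_iff_eq hd hq).mp hdd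
  have hPeq : ∀ P : Sylow p G, (P : Subgroup G) = N := by
    intro P
    have h1 : (P : Subgroup G) ≤ N := by
      intro g hg
      by_cases hg1 : g = 1
      · rw [hg1]; exact N.one_mem
      rcases hord2 g hg1 with e | e
      · exact hinN g e
      · exfalso
        obtain ⟨k, hk⟩ := IsPGroup.iff_orderOf.mp P.isPGroup' ⟨g, hg⟩
        rw [Subgroup.orderOf_mk, e] at hk
        exact hpq ((Nat.prime_dvd_prime_iff_eq hp hq).mp (hk ▸ dvd_pow_self p
          (by rintro rfl; rw [pow_zero] at hk; exact hq.ne_one hk)))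
    exact (P.is_maximal' hNP h1).symm ▸ rfl
  have hab : IsMulCommutative N := by
    haveI : Nontrivial N := N.nontrivial_iff_ne_bot.mpr fun h => hg01 (by
      rw [h, Subgroup.mem_bot] at hg0; exact hg0)
    have hZ : (⊥ : Subgroup N) < Subgroup.center N := hNP.bot_lt_center
    obtain ⟨z, hz, hz1⟩ := (Subgroup.center N).bot_or_exists_ne_one.resolve_left hZ.ne'
    have hzN : orderOf (z : G) = p := hNord z z.2 (fun h => hz1 (Subtype.ext h))
    have hall : ∀ a ∈ N, a ≠ 1 → ∀ b ∈ N, a * b = b * a := by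
      intro a ha ha1 b hb
      rcases hor (z : G) (fun h => hz1 (Subtype.ext h)) with ⟨ψ, hψ⟩ | ⟨ψ, hψ⟩
      swap
      · rw [← hψ, orderOf_aut, hw] at hzN; exact absurd hzN.symm hpq
      rcases hor a ha1 with ⟨φ, hφ⟩ | ⟨φ, hφ⟩
      swap
      · have := hNord a ha ha1; rw [← hφ, orderOf_aut, hw] at this; exact absurd this.symm hpq
      have e : a = (φ * ψ⁻¹) (z : G) := by
        rw [MulAut.mul_apply, MulAut.inv_def, ← hψ, MulEquiv.symm_apply_apply, hφ]
      set χ := φ * ψ⁻¹ with hχ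
      have hb' : χ⁻¹ b ∈ N := hNaut _ _ hb
      have hcomm : (z : G) * χ⁻¹ b = χ⁻¹ b * z :=
        (congrArg Subtype.val (Subgroup.mem_center_iff.mp hz ⟨_, hb'⟩)).symm
      have := congrArg χ hcomm
      rw [map_mul, map_mul, MulAut.inv_def, MulEquiv.apply_symm_apply, ← e] at this
      exact this
    refine isMulCommutative_iff_comm.mpr fun a ha b hb => ?_
    by_cases ha1 : a = 1
    · simp [ha1]
    · exact hall a ha ha1 b hb
  -- the complement has order q
  obtain ⟨Q⟩ : Nonempty (Sylow q G) := inferInstance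
  obtain ⟨b, hb⟩ := Q.isPGroup'.exists_card_eq
  have hidx' : N.index = Nat.card (Q : Subgroup G) := by
    have h1 := N.card_mul_index
    have h2 := Q.card_eq_multiplicity
    have h3 : N.index = q ^ N.index.primeFactorsList.length :=
      Nat.eq_prime_pow_of_unique_prime_dvd N.index_ne_zero_of_finite (fun {d} hd hdi => hidx d hd hdi)
    rw [h2, ← h1, hn, h3, Nat.factorization_mul (pow_ne_zero _ hp.ne_zero) (pow_ne_zero _ hq.ne_zero)]
    simp [hp.factorization_pow, hq.factorization_pow, Finsupp.single_apply, hpq]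
  have hQord : ∀ g ∈ (Q : Subgroup G), g ≠ 1 → orderOf g = q := by
    intro g hg hg1
    rcases hord2 g hg1 with e | e
    · exfalso
      obtain ⟨k, hk⟩ := IsPGroup.iff_orderOf.mp Q.isPGroup' ⟨g, hg⟩
      rw [Subgroup.orderOf_mk, e] at hk
      exact hpq.symm ((Nat.prime_dvd_prime_iff_eq hq hp).mp (hk ▸ dvd_pow_self q
        (by rintro rfl; rw [pow_zero] at hk; exact hp.ne_one hk)))
    · exact e
  have hfpf : ∀ x y : G, orderOf x = q → orderOf y = p → x * y * x⁻¹ ≠ y := by
    intro x' y' hx' hy' h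
    exact hnc y' x' hy' hx' (mul_inv_eq_iff_eq_mul.mp h).symm
  have hbq : b = 1 := by
    by_contra hb1
    have hb2 : 2 ≤ b := by
      rcases Nat.eq_zero_or_pos b with h0 | h0
      · exfalso
        rw [h0, pow_zero] at hb
        have hwq : q ∣ Nat.card G := hw ▸ orderOf_dvd_natCard w
        rw [← N.card_mul_index, hn, hidx', hb, mul_one] at hwq
        exact hpq ((Nat.prime_dvd_prime_iff_eq hq hp).mp (hq.dvd_of_dvd_pow hwq)).symm
      · omega
    haveI : Fact q.Prime := ⟨hq⟩
    obtain ⟨A, hA, hAQ⟩ := Sylow.exists_subgroup_card_pow_prime_le q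
      ((pow_dvd_pow q hb2).trans (hb ▸ (Q : Subgroup G).card_subgroup_dvd_card)) (⊥ : Subgroup G)
      (by simp : Nat.card (⊥ : Subgroup G) = q ^ 0) (by omega : 0 ≤ 2)
    have hAq : IsPGroup q A := IsPGroup.of_card hA
    obtain ⟨Q', hQ'⟩ := hAq.exists_le_sylow
    have hAord : ∀ a ∈ A, a ≠ 1 → orderOf a = q := by
      intro a ha ha1
      rcases hord2 a ha1 with e | e
      · exfalso
        have h1 : orderOf a ∣ q ^ 2 := hA ▸ Subgroup.orderOf_dvd_natCard A ha
        rw [e] at h1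
        exact hpq ((Nat.prime_dvd_prime_iff_eq hp hq).mp (hp.dvd_of_dvd_pow h1))
      · exact e
    haveI := hab
    have hAab : IsMulCommutative A := ⟨⟨IsPGroup.commutative_of_card_eq_prime_sq hA⟩⟩
    have hcyc : IsCyclic A := Cfsg.Agent.S0041.result A N
      (fun h => hg01 (by rw [h, Subgroup.mem_bot] at hg0; exact hg0))
      (by rw [Subgroup.normalizer_eq_top]; exact le_top)
      (fun a ha ha1 => eq_bot_iff.mpr fun v hv => Subgroup.mem_bot.mpr (by
        by_contra hv1
        have h := Subgroup.mem_centralizer_singleton_iff.mp hv.2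
        exact hnc v a (hNord v hv.1 hv1) (hAord a ha ha1) h))
      (.inl hAab)
    obtain ⟨g, hg⟩ := hcyc.exists_generator
    have hgo : orderOf g = q ^ 2 := by rw [orderOf_eq_card_of_forall_mem_zpowers hg, hA]
    have hg1 : (g : G) ≠ 1 := by
      intro h
      have : g = 1 := Subtype.ext h
      rw [this, orderOf_one] at hgo
      exact absurd hgo.symm (by have := hq.two_le; nlinarith)
    have := hAord g g.2 hg1
    rw [Subgroup.orderOf_coe, hgo] at this
    have := hq.two_le
    nlinarith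
  rw [hbq, pow_one] at hb
  have hcard : Nat.card G = p ^ n * q := by rw [← N.card_mul_index, hn, hidx', hb]
  have hn1 : 1 ≤ n := by
    rcases Nat.eq_zero_or_pos n with h | h
    · rw [h, pow_zero] at hn
      rw [Subgroup.eq_bot_of_card_eq N hn, Subgroup.mem_bot] at hg0
      exact absurd hg0 hg01
    · exact h
  refine ⟨p, q, n, ⟨hp⟩, ⟨hq⟩, hpq, hn1, hcard, fun P => ?_, ?_, hfpf⟩
  · rw [hPeq P]; exact ⟨inferInstanceAs (commutator G).Normal, hab, hexp⟩
  · have hwq : w ^ q = 1 := hw ▸ pow_orderOf_eq_one w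
    have hfix : ∀ a ∈ N, w * a * w⁻¹ = a → a = 1 := fun a ha h => by
      by_contra h1; exact hfpf w a hw (hNord a ha h1) h
    have hcomp : N.IsComplement' (Subgroup.zpowers w) := by
      refine Subgroup.isComplement'_of_coprime ?_ ?_
      · rw [hn, Nat.card_zpowers, hw, hcard]
      · rw [hn, Nat.card_zpowers, hw]
        exact Nat.Coprime.pow_left _ ((Nat.coprime_primes hp hq).mpr hpq)
    -- every automorphism has a companion exponent
    have hres : ∀ φ : MulAut G, ∃ (f : N ≃* N) (i : ℕ), ¬ q ∣ i ∧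
        (∀ a : N, (f ⟨w * a * w⁻¹, (inferInstance : (commutator G).Normal).conj_mem a a.2 w⟩ : G)
          = w ^ i * f a * (w ^ i)⁻¹) ∧
        (∀ a : N, (f a : G) = φ a) ∧ ∃ v ∈ N, φ w = v * w ^ i := by
      intro φ
      obtain ⟨⟨v, z⟩, hvz⟩ := hcomp.2 (φ w)
      have hvz' : (v : G) * (z : G) = φ w := hvz
      obtain ⟨i, hi⟩ : ∃ i : ℕ, w ^ i = (z : G) := mem_powers_iff_mem_zpowers.mpr z.2
      refine ⟨{ toFun := fun a => ⟨φ a, hNaut φ a a.2⟩
                invFun := fun a => ⟨φ⁻¹ a, hNaut φ⁻¹ a a.2⟩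
                left_inv := fun a => Subtype.ext (by simp)
                right_inv := fun a => Subtype.ext (by simp)
                map_mul' := fun a c => Subtype.ext (by simp) }, i, ?_, ?_, fun a => rfl,
        v, v.2, by rw [hi, hvz']⟩
      · rintro ⟨l, rfl⟩
        apply hwN
        have h' : φ w ∈ N := by
          rw [← hvz', ← hi, pow_mul, hwq, one_pow, mul_one]; exact v.2
        have := hNaut φ⁻¹ _ h'
        rwa [MulAut.inv_def, MulEquiv.symm_apply_apply] at this
      · intro a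
        show φ (w * a * w⁻¹) = w ^ i * φ a * (w ^ i)⁻¹
        rw [map_mul, map_mul, map_inv, ← hvz', ← hi]
        have hcj : w ^ i * φ (a : G) * (w ^ i)⁻¹ ∈ N :=
          (inferInstance : (commutator G).Normal).conj_mem _ (hNaut φ a a.2) _
        conv_rhs => rw [← conj_eq_self_of_mem hab v.2 hcj]
        group
    refine (exists_field_data hpq.symm N hab hexp w hwq hfix).2
      (fun h => hg01 (by rw [h, Subgroup.mem_bot] at hg0; exact hg0)) ?_ ?_
    · intro a c ha hc ha1 hc1
      obtain ⟨φ, hφ⟩ : ∃ φ : MulAut G, φ a = c := by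
        rcases hor a ha1 with ⟨α, hα⟩ | ⟨α, hα⟩
        swap
        · have := hNord a ha ha1; rw [← hα, orderOf_aut, hw] at this; exact absurd this.symm hpq
        rcases hor c hc1 with ⟨β, hβ⟩ | ⟨β, hβ⟩
        swap
        · have := hNord c hc hc1; rw [← hβ, orderOf_aut, hw] at this; exact absurd this.symm hpq
        exact ⟨β * α⁻¹, by rw [MulAut.mul_apply, MulAut.inv_def, ← hα, MulEquiv.symm_apply_apply, hβ]⟩
      obtain ⟨f, i, hi, hf, hfa, -⟩ := hres φ
      exact ⟨f, i, hi, hf, fun ha' => (hfa ⟨a, ha'⟩).trans hφ⟩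
    · intro i hi
      have hwi : orderOf (w ^ i) = q := by
        rw [Nat.Coprime.orderOf_pow (by rw [hw]; exact hq.coprime_iff_not_dvd.mpr hi), hw]
      obtain ⟨φ, hφ⟩ : ∃ φ : MulAut G, φ w = w ^ i := by
        rcases hor (w ^ i) (fun h => hq.ne_one (by rw [← hwi, h, orderOf_one])) with ⟨α, hα⟩ | h
        · rw [← hα, orderOf_aut, hu] at hwi; exact absurd hwi hpq
        · exact h
      obtain ⟨f, j, -, hf, -, v, hv, hvj⟩ := hres φ
      refine ⟨f, fun a => ?_⟩
      rw [hf a]
      have e : w ^ j = w ^ i := by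
        have h1 : v * w ^ j = 1 * w ^ i := by rw [one_mul, ← hvj, hφ]
        have h2 := @hcomp.1 (⟨v, hv⟩, ⟨w ^ j, Subgroup.npow_mem_zpowers w j⟩)
          (⟨1, N.one_mem⟩, ⟨w ^ i, Subgroup.npow_mem_zpowers w i⟩) h1
        exact congrArg (fun p => ((p.2 : Subgroup.zpowers w) : G)) h2
      rw [e]

end Cfsg.Agent.Perm.ThreeOrbits
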